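import Cfsg.Agent.Lib.BlockArith.DihDefect.Combi

/-!
# The matrix of a block with four characters of height zero and flower shaped kernel vectors

* `Frame`: a matrix `N` written through orthogonal vectors `t`, `q i` with a vector `w` orthogonal to them;
* `frame_of_four`: the case of four characters;
* `frame_of_flower`: the case of a flower of kernel vectors.
-/

set_option autoImplicit false

namespace CfsgLib.QuatDefect

open scoped Classical

variable {α : Type*}

/-- The shape of the matrix. -/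
structure Frame (S : Finset α) (N : α → α → ℤ) (h j ν : ℕ) (w t : α → ℤ) (q : Fin j → α → ℤ) : Prop where
  j_le : j ≤ 2
  ν_cases : ν = 4 ∨ ν = 2 ∧ 1 ≤ j ∧ ∃ x ∈ S, w x ≠ 0 ∧ ∀ i, q i x = 0
  two_card : 2 * S.card = h + 6
  w_val : ∀ x ∈ S, w x = 0 ∨ w x = 1 ∨ w x = -1
  w_card : (S.filter fun x => w x ≠ 0).card = 4
  t_on : ∀ x ∈ S, w x ≠ 0 → t x = 1 ∨ t x = -1
  t_off : ∀ x ∈ S, w x = 0 → t x = 2 ∨ t x = -2
  q_on : ν = 4 → ∀ i, ∀ x ∈ S, w x ≠ 0 → q i x = 1 ∨ q i x = -1
  q_off : ∀ i, ∀ x ∈ S, w x = 0 → q i x = 0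
  wt : ∑ x ∈ S, w x * t x = 0
  wq : ∀ i, ∑ x ∈ S, w x * q i x = 0
  qt : ∀ i, ∑ x ∈ S, q i x * t x = 0
  qq : ∀ i i', ∑ x ∈ S, q i x * q i' x = if i = i' then (ν : ℤ) else 0
  tt : ∑ x ∈ S, t x * t x = 2 * (h : ℤ)
  mat : ∀ x ∈ S, ∀ y ∈ S, (ν : ℤ) * N x y = 2 * (h : ℤ) * (∑ i, q i x * q i y) + (ν : ℤ) * (t x * t y)

/-- A symmetric matrix with square `c` times itself and trace `c` has rank one. -/
theorem rank_one {S : Finset α} {K : α → α → ℤ} {c : ℤ} (hsym : ∀ x y, K x y = K y x)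
    (hsq : ∀ x ∈ S, ∀ z ∈ S, ∑ y ∈ S, K x y * K y z = c * K x z) (htr : ∑ x ∈ S, K x x = c)
    {x : α} (hx : x ∈ S) {y z : α} (hy : y ∈ S) (hz : z ∈ S) : K x x * K y z = K x y * K x z := by
  have hyy : ∀ y ∈ S, ∑ z ∈ S, K y z * K y z = c * K y y := fun y hy => by
    rw [← hsq y hy y hy]; exact Finset.sum_congr rfl fun z _ => by rw [hsym z y]
  have hrow : ∀ y ∈ S, ∑ z ∈ S, K y z * K x z = c * K x y := fun y hy => by
    rw [hsym x y, ← hsq y hy x hx]; exact Finset.sum_congr rfl fun z _ => by rw [hsym z x]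
  have h0 : ∑ y ∈ S, ∑ z ∈ S, (K x x * K y z - K x y * K x z) ^ 2 = 0 := by
    have e1 : ∀ y ∈ S, ∑ z ∈ S, (K x x * K y z - K x y * K x z) ^ 2 =
        c * (K x x * K x x) * K y y + (-(c * K x x)) * (K x y * K x y) := fun y hy => by
      calc ∑ z ∈ S, (K x x * K y z - K x y * K x z) ^ 2
          = K x x * K x x * ∑ z ∈ S, K y z * K y z + (-2 * K x x * K x y) * ∑ z ∈ S, K y z * K x z +
              K x y * K x y * ∑ z ∈ S, K x z * K x z := by
            simp only [Finset.mul_sum, ← Finset.sum_add_distrib]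
            exact Finset.sum_congr rfl fun z _ => by ring
        _ = _ := by rw [hyy y hy, hrow y hy, hyy x hx]; ring
    rw [Finset.sum_congr rfl e1, Finset.sum_add_distrib, ← Finset.mul_sum, ← Finset.mul_sum, htr,
      hyy x hx]
    ring
  rw [Finset.sum_eq_zero_iff_of_nonneg fun y _ => Finset.sum_nonneg fun z _ => sq_nonneg _] at h0
  have h1 := h0 y hy
  rw [Finset.sum_eq_zero_iff_of_nonneg fun z _ => sq_nonneg _] at h1
  exact sub_eq_zero.mp (pow_eq_zero_iff two_ne_zero |>.mp (h1 z hz))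

theorem diag_nonneg {S : Finset α} {K : α → α → ℤ} {c : ℤ} (hsym : ∀ x y, K x y = K y x)
    (hsq : ∀ x ∈ S, ∀ z ∈ S, ∑ y ∈ S, K x y * K y z = c * K x z) (hc : 0 < c) {x : α} (hx : x ∈ S) :
    0 ≤ K x x ∧ (K x x = 0 → ∀ y ∈ S, K x y = 0) := by
  have h1 : ∑ y ∈ S, K x y * K x y = c * K x x := by
    rw [← hsq x hx x hx]; exact Finset.sum_congr rfl fun y _ => by rw [hsym y x]
  refine ⟨?_, fun h0 y hy => ?_⟩
  · exact nonneg_of_mul_nonneg_right (h1 ▸ Finset.sum_nonneg fun y _ => mul_self_nonneg _) hc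
  · rw [h0, mul_zero, Finset.sum_eq_zero_iff_of_nonneg fun y _ => mul_self_nonneg _] at h1
    exact mul_self_eq_zero.mp (h1 y hy)

theorem eq_one_or_sq {a : ℤ} (h : a = 1 ∨ a = -1) : a * a = 1 := by rcases h with e | e <;> simp [e]

/-- Squares with sum a power of two. -/
theorem sq_sum_two_pow : ∀ (k x y s : ℕ), x + y = 2 ^ k → x * y = s * s → x = 0 ∨ y = 0 ∨ x = y := by
  intro k
  induction k with
  | zero =>
    intro x y s h _
    rw [pow_zero] at h
    omega
  | succ k ih =>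
    intro x y s h h2
    by_cases hx : Even x
    · have hy : Even y := by
        have : Even (x + y) := by rw [h, pow_succ]; exact ⟨2 ^ k, by ring⟩
        exact (Nat.even_add.mp this).mp hx
      obtain ⟨x', rfl⟩ := hx
      obtain ⟨y', rfl⟩ := hy
      have hs : Even s := by
        have : Even (s * s) := by rw [← h2]; exact ⟨x' * (y' + y'), by ring⟩
        exact (Nat.even_mul.mp this).elim id id
      obtain ⟨s', rfl⟩ := hs
      rcases ih x' y' s' (by rw [pow_succ] at h; omega) (by nlinarith) with e | e | e <;> omega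
    · have hy : ¬ Even y := fun hy => hx (by
        have : Even (x + y) := by rw [h, pow_succ]; exact ⟨2 ^ k, by ring⟩
        exact (Nat.even_add.mp this).mpr hy)
      rcases k with _ | k
      · rw [zero_add, pow_one] at h
        obtain ⟨x', rfl⟩ := Nat.not_even_iff_odd.mp hx
        obtain ⟨y', rfl⟩ := Nat.not_even_iff_odd.mp hy
        omega
      · exfalso
        obtain ⟨x', rfl⟩ := Nat.not_even_iff_odd.mp hx
        obtain ⟨y', rfl⟩ := Nat.not_even_iff_odd.mp hy
        have hs : ¬ Even s := fun ⟨r, hr⟩ => by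
          subst hr
          have h3 : Even ((2 * x' + 1) * (2 * y' + 1)) := ⟨r * (r + r), by rw [h2]; ring⟩
          rw [Nat.even_mul] at h3
          exact h3.elim (fun ⟨u, hu⟩ => by omega) fun ⟨u, hu⟩ => by omega
        obtain ⟨s', rfl⟩ := Nat.not_even_iff_odd.mp hs
        obtain ⟨u, hu⟩ := Nat.even_mul_succ_self s'
        rw [pow_succ, pow_succ] at h
        obtain ⟨v, hv⟩ : ∃ v, x' + y' + 1 = 2 * v := ⟨2 ^ k, by omega⟩
        obtain ⟨r, hr⟩ : ∃ r, x' * y' = r := ⟨_, rfl⟩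
        have h4 : 4 * r + 2 * (x' + y') + 1 = 4 * (s' * (s' + 1)) + 1 := by
          rw [← hr]; linear_combination h2
        omega

section four

variable {S : Finset α} {a b c d : α}

theorem sum_four (hab : a ≠ b) (hac : a ≠ c) (had : a ≠ d) (hbc : b ≠ c) (hbd : b ≠ d) (hcd : c ≠ d)
    (F : α → ℤ) : ∑ x ∈ ({a, b, c, d} : Finset α), F x = F a + F b + F c + F d := by
  rw [Finset.sum_insert (by simp [hab, hac, had]), Finset.sum_insert (by simp [hbc, hbd]),
    Finset.sum_pair hcd]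
  ring

/-- Four characters. -/
theorem frame_of_four {N : α → α → ℤ} {l : ℕ} (hS : S.card = 4) (hl : l = 1 ∨ l = 3)
    (hsym : ∀ x y, N x y = N y x)
    (hsq : ∀ x ∈ S, ∀ z ∈ S, ∑ y ∈ S, N x y * N y z = 4 * N x z)
    (htr : ∑ x ∈ S, N x x = 4 * (l : ℤ)) (hodd : ∀ x ∈ S, Odd (N x x)) :
    ∃ (j : ℕ) (w t : α → ℤ) (q : Fin j → α → ℤ), l = j + 1 ∧ Frame S N 2 j 4 w t q := by
  obtain ⟨a, b, c, d, hab, hac, had, hbc, hbd, hcd, hSeq⟩ : ∃ a b c d, a ≠ b ∧ a ≠ c ∧ a ≠ d ∧ b ≠ c ∧
      b ≠ d ∧ c ≠ d ∧ S = {a, b, c, d} := by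
    obtain ⟨a, T, ha, rfl, hT⟩ := Finset.card_eq_succ.mp hS
    obtain ⟨b, c, d, hbc, hbd, hcd, rfl⟩ := Finset.card_eq_three.mp hT
    simp only [Finset.mem_insert, Finset.mem_singleton, not_or] at ha
    exact ⟨a, b, c, d, ha.1, ha.2.1, ha.2.2, hbc, hbd, hcd, rfl⟩
  subst hSeq
  have hmem : ∀ {x}, x ∈ ({a, b, c, d} : Finset α) ↔ x = a ∨ x = b ∨ x = c ∨ x = d := fun {x} => by simp
  have h4 := sum_four hab hac had hbc hbd hcd
  let sgn : ℤ → ℤ → ℤ → ℤ → α → ℤ := fun sa sb sc sd x =>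
    if x = a then sa else if x = b then sb else if x = c then sc else sd
  have hsgn : ∀ sa sb sc sd, sgn sa sb sc sd a = sa ∧ sgn sa sb sc sd b = sb ∧ sgn sa sb sc sd c = sc ∧
      sgn sa sb sc sd d = sd := fun sa sb sc sd => by
    simp [sgn, hab.symm, hac.symm, had.symm, hbc.symm, hbd.symm, hcd.symm]
  have key : ∀ K : α → α → ℤ, (∀ x y, K x y = K y x) →
      (∀ x ∈ ({a, b, c, d} : Finset α), ∀ z ∈ ({a, b, c, d} : Finset α),
        ∑ y ∈ ({a, b, c, d} : Finset α), K x y * K y z = 4 * K x z) →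
      ∑ x ∈ ({a, b, c, d} : Finset α), K x x = 4 → (∀ x ∈ ({a, b, c, d} : Finset α), Odd (K x x)) →
      ∃ sb sc sd : ℤ, (sb = 1 ∨ sb = -1) ∧ (sc = 1 ∨ sc = -1) ∧ (sd = 1 ∨ sd = -1) ∧
        ∀ x ∈ ({a, b, c, d} : Finset α), ∀ y ∈ ({a, b, c, d} : Finset α),
          K x y = sgn 1 sb sc sd x * sgn 1 sb sc sd y := by
    intro K ks kq kt ko
    have hp : ∀ x ∈ ({a, b, c, d} : Finset α), 1 ≤ K x x := fun x hx => by
      have := (diag_nonneg ks kq (by norm_num) hx).1
      obtain ⟨r, hr⟩ := ko x hx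
      omega
    have ma := hmem.mpr (Or.inl (rfl : a = a))
    have mb := hmem.mpr (Or.inr (Or.inl (rfl : b = b)))
    have mc := hmem.mpr (Or.inr (Or.inr (Or.inl (rfl : c = c))))
    have md := hmem.mpr (Or.inr (Or.inr (Or.inr (rfl : d = d))))
    have kt' := kt
    rw [h4 fun x => K x x] at kt'
    have := hp a ma
    have := hp b mb
    have := hp c mc
    have := hp d md
    have hKa : K a a = 1 := by omega
    have hrow : ∀ x ∈ ({a, b, c, d} : Finset α), K a x = 1 ∨ K a x = -1 := fun x hx => by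
      refine mul_self_eq_one_iff.mp ?_
      rw [← rank_one ks kq kt ma hx hx, hKa, one_mul]
      rcases hmem.mp hx with rfl | rfl | rfl | rfl <;> omega
    refine ⟨K a b, K a c, K a d, hrow b mb, hrow c mc, hrow d md, fun x hx y hy => ?_⟩
    have hre : ∀ x ∈ ({a, b, c, d} : Finset α), sgn 1 (K a b) (K a c) (K a d) x = K a x := fun x hx => by
      obtain ⟨e1, e2, e3, e4⟩ := hsgn 1 (K a b) (K a c) (K a d)
      rcases hmem.mp hx with rfl | rfl | rfl | rfl
      · rw [e1, hKa]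
      · exact e2
      · exact e3
      · exact e4
    rw [hre x hx, hre y hy, ← rank_one ks kq kt ma hx hy, hKa, one_mul]
  rcases hl with rfl | rfl
  · obtain ⟨sb, sc, sd, hb, hc, hd, hN⟩ := key N hsym hsq (by rw [htr]; norm_num) hodd
    refine ⟨0, sgn 1 sb (-sc) (-sd), sgn 1 sb sc sd, fun i => i.elim0, rfl, ?_⟩
    obtain ⟨w1, w2, w3, w4⟩ := hsgn 1 sb (-sc) (-sd)
    obtain ⟨t1, t2, t3, t4⟩ := hsgn 1 sb sc sd
    have hval : ∀ x ∈ ({a, b, c, d} : Finset α), (sgn 1 sb (-sc) (-sd) x = 1 ∨ sgn 1 sb (-sc) (-sd) x = -1) ∧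
        (sgn 1 sb sc sd x = 1 ∨ sgn 1 sb sc sd x = -1) := fun x hx => by
      rcases hmem.mp hx with rfl | rfl | rfl | rfl
      · simp [w1, t1]
      · rw [w2, t2]; exact ⟨hb, hb⟩
      · rw [w3, t3]; exact ⟨by omega, hc⟩
      · rw [w4, t4]; exact ⟨by omega, hd⟩
    have hb2 := eq_one_or_sq hb
    have hc2 := eq_one_or_sq hc
    have hd2 := eq_one_or_sq hd
    refine { j_le := by norm_num
             ν_cases := Or.inl rfl
             two_card := by rw [hS]
             w_val := fun x hx => Or.inr (hval x hx).1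
             w_card := ?_
             t_on := fun x hx _ => (hval x hx).2
             t_off := fun x hx e => absurd e (by rcases (hval x hx).1 with e' | e' <;> rw [e'] <;> decide)
             q_on := fun _ i => i.elim0
             q_off := fun i => i.elim0
             wt := ?_
             wq := fun i => i.elim0
             qt := fun i => i.elim0
             qq := fun i => i.elim0
             tt := ?_
             mat := fun x hx y hy => ?_ }
    · rw [Finset.filter_true_of_mem fun x hx => by rcases (hval x hx).1 with e | e <;> rw [e] <;> decide, hS]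
    · rw [h4, w1, w2, w3, w4, t1, t2, t3, t4]; linear_combination hb2 - hc2 - hd2
    · rw [h4, t1, t2, t3, t4]; push_cast; linear_combination hb2 + hc2 + hd2
    · rw [hN x hx y hy]; simp
  · set K : α → α → ℤ := fun x y => (if x = y then 4 else 0) - N x y with hK
    have ks : ∀ x y, K x y = K y x := fun x y => by
      simp only [hK, hsym x y]
      by_cases e : x = y
      · rw [if_pos e, if_pos e.symm]
      · rw [if_neg e, if_neg (Ne.symm e)]
    obtain ⟨sb, sc, sd, hb, hc, hd, hKN⟩ := key K ks (fun x hx z hz => by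
        simp only [hK, sub_mul, mul_sub, Finset.sum_sub_distrib, ite_mul, mul_ite, zero_mul, mul_zero,
          Finset.sum_ite_eq, Finset.sum_ite_eq', hx, hz, if_true, hsq x hx z hz]
        split_ifs <;> ring)
      (by simp only [hK, if_true, Finset.sum_sub_distrib, htr, Finset.sum_const, hS]; norm_num)
      (fun x hx => by
        obtain ⟨r, hr⟩ := hodd x hx
        exact ⟨1 - r, by simp only [hK, if_true, hr]; ring⟩)
    refine ⟨2, sgn 1 sb sc sd, sgn 1 sb (-sc) (-sd),
      ![sgn 1 (-sb) sc (-sd), sgn 1 (-sb) (-sc) sd], rfl, ?_⟩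
    obtain ⟨w1, w2, w3, w4⟩ := hsgn 1 sb sc sd
    obtain ⟨t1, t2, t3, t4⟩ := hsgn 1 sb (-sc) (-sd)
    obtain ⟨p1, p2, p3, p4⟩ := hsgn 1 (-sb) sc (-sd)
    obtain ⟨r1, r2, r3, r4⟩ := hsgn 1 (-sb) (-sc) sd
    have hval : ∀ x ∈ ({a, b, c, d} : Finset α), (sgn 1 sb sc sd x = 1 ∨ sgn 1 sb sc sd x = -1) ∧
        (sgn 1 sb (-sc) (-sd) x = 1 ∨ sgn 1 sb (-sc) (-sd) x = -1) ∧
        (sgn 1 (-sb) sc (-sd) x = 1 ∨ sgn 1 (-sb) sc (-sd) x = -1) ∧
        (sgn 1 (-sb) (-sc) sd x = 1 ∨ sgn 1 (-sb) (-sc) sd x = -1) := fun x hx => by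
      rcases hmem.mp hx with rfl | rfl | rfl | rfl
      · simp [w1, t1, p1, r1]
      · rw [w2, t2, p2, r2]; omega
      · rw [w3, t3, p3, r3]; omega
      · rw [w4, t4, p4, r4]; omega
    have hb2 := eq_one_or_sq hb
    have hc2 := eq_one_or_sq hc
    have hd2 := eq_one_or_sq hd
    refine { j_le := le_rfl
             ν_cases := Or.inl rfl
             two_card := by rw [hS]
             w_val := fun x hx => Or.inr (hval x hx).1
             w_card := ?_
             t_on := fun x hx _ => (hval x hx).2.1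
             t_off := fun x hx e => absurd e (by rcases (hval x hx).1 with e' | e' <;> rw [e'] <;> decide)
             q_on := fun _ i x hx _ => ?_
             q_off := fun i x hx e => absurd e (by rcases (hval x hx).1 with e' | e' <;> rw [e'] <;> decide)
             wt := ?_
             wq := fun i => ?_
             qt := fun i => ?_
             qq := fun i i' => ?_
             tt := ?_
             mat := fun x hx y hy => ?_ }
    · rw [Finset.filter_true_of_mem fun x hx => by rcases (hval x hx).1 with e | e <;> rw [e] <;> decide, hS]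
    · fin_cases i
      · exact (hval x hx).2.2.1
      · exact (hval x hx).2.2.2
    · rw [h4, w1, w2, w3, w4, t1, t2, t3, t4]; linear_combination hb2 - hc2 - hd2
    · fin_cases i <;> simp [h4, w1, w2, w3, w4, p1, p2, p3, p4, r1, r2, r3, r4, hb2, hc2, hd2]
    · fin_cases i <;> simp [h4, t1, t2, t3, t4, p1, p2, p3, p4, r1, r2, r3, r4, hb2, hc2, hd2]
    · fin_cases i <;> fin_cases i' <;>
        simp [h4, p1, p2, p3, p4, r1, r2, r3, r4, hb2, hc2, hd2]
    · rw [h4, t1, t2, t3, t4]; push_cast; linear_combination hb2 + hc2 + hd2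
    · have hN : N x y = (if x = y then 4 else 0) - sgn 1 sb sc sd x * sgn 1 sb sc sd y := by
        rw [← hKN x hx y hy, hK]; ring
      rw [hN, Fin.sum_univ_two]
      rcases hb with rfl | rfl <;> rcases hc with rfl | rfl <;> rcases hd with rfl | rfl <;>
        rcases hmem.mp hx with rfl | rfl | rfl | rfl <;> rcases hmem.mp hy with rfl | rfl | rfl | rfl <;>
        simp [sgn, hab, hac, had, hbc, hbd, hcd, hab.symm, hac.symm, had.symm, hbc.symm, hbd.symm, hcd.symm]

end four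

/-- A flower of kernel vectors. -/
theorem frame_of_flower {S : Finset α} {N : α → α → ℤ} {h n k l : ℕ} (hh : h = 2 * (n + 1))
    (hk : h = 2 ^ k) (hn : 1 ≤ n) (hl1 : 1 ≤ l) (hl3 : l ≤ 3) {w : α → ℤ} {v : Fin n → α → ℤ}
    (hw1 : ∀ x ∈ S, w x = 0 ∨ w x = 1 ∨ w x = -1) (hw4 : (S.filter fun x => w x ≠ 0).card = 4)
    (hcard : S.card = n + 4)
    (hflower : ∀ x ∈ S, w x = 0 → ∃ i, (v i x = 1 ∨ v i x = -1) ∧ ∀ i', i' ≠ i → v i' x = 0)
    (hvv : ∀ i i', ∑ x ∈ S, v i x * v i' x = if i = i' then 3 else 2)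
    (hvw : ∀ i, ∑ x ∈ S, v i x * w x = 2)
    (hsym : ∀ x y, N x y = N y x)
    (hsq : ∀ x ∈ S, ∀ z ∈ S, ∑ y ∈ S, N x y * N y z = 2 * (h : ℤ) * N x z)
    (htr : ∑ x ∈ S, N x x = 2 * (h : ℤ) * l)
    (hNw : ∀ x ∈ S, ∑ y ∈ S, N x y * w y = 0) (hNv : ∀ x ∈ S, ∀ i, ∑ y ∈ S, N x y * v i y = 0)
    (hodd : ∀ x ∈ S, w x ≠ 0 → Odd (N x x)) (heven : ∀ x ∈ S, w x = 0 → Even (N x x))
    (hmix : ∀ x ∈ S, ∀ y ∈ S, w x ≠ 0 → w y = 0 → Even (N x y) ∧ ¬ (4 : ℤ) ∣ N x y) :
    ∃ (j ν : ℕ) (t : α → ℤ) (q : Fin j → α → ℤ), l = j + 1 ∧ Frame S N h j ν w t q := by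
  set W := S.filter fun x => w x ≠ 0 with hW
  set O := S.filter fun x => ¬ w x ≠ 0 with hO
  set P : Fin n → Finset α := fun i => (S.filter fun x => v i x ≠ 0) ∩ W with hP
  have hov : ∀ i, (P i).card = 2 ∧ ∀ x ∈ S, v i x ≠ 0 → w x ≠ 0 → w x = v i x := fun i =>
    CfsgLib.DihDefect.overlap_two S (v i) w (by simpa using hvv i i) hw1 (hvw i)
  have hmemP : ∀ {i x}, x ∈ P i ↔ x ∈ S ∧ v i x ≠ 0 ∧ w x ≠ 0 := fun {i x} => by
    simp only [hP, hW, Finset.mem_inter, Finset.mem_filter]; tauto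
  have hsplit : ∀ F : α → ℤ, ∑ x ∈ S, F x = ∑ x ∈ W, F x + ∑ x ∈ O, F x := fun F =>
    (Finset.sum_filter_add_sum_filter_not S _ F).symm
  have hWS : W ⊆ S := Finset.filter_subset _ _
  have hwsq : ∀ x ∈ W, w x * w x = 1 := fun x hx => by
    rcases hw1 x (hWS hx) with e | e | e
    · exact absurd e (Finset.mem_filter.mp hx).2
    · simp [e]
    · simp [e]
  have hPeq : ∀ i i', P i = P i' := fun i i' => by
    by_cases hii : i = i'
    · rw [hii]
    have h1 := hvv i i'
    rw [if_neg hii, hsplit, Finset.sum_eq_zero (s := O) fun x hx => ?_, add_zero] at h1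
    · have h2 : ∀ x ∈ W, v i x * v i' x = if x ∈ P i ∩ P i' then 1 else 0 := fun x hx => by
        obtain ⟨hxS, hx0⟩ := Finset.mem_filter.mp hx
        split_ifs with he
        · rw [← (hov i).2 x hxS (hmemP.mp (Finset.mem_inter.mp he).1).2.1 hx0,
            ← (hov i').2 x hxS (hmemP.mp (Finset.mem_inter.mp he).2).2.1 hx0, hwsq x hx]
        · by_contra hne
          exact he (Finset.mem_inter.mpr ⟨hmemP.mpr ⟨hxS, left_ne_zero_of_mul hne, hx0⟩,
            hmemP.mpr ⟨hxS, right_ne_zero_of_mul hne, hx0⟩⟩)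
      rw [Finset.sum_congr rfl h2, Finset.sum_boole, Finset.filter_mem_eq_inter,
        Finset.inter_eq_right.mpr (Finset.inter_subset_left.trans Finset.inter_subset_right)] at h1
      have h3 : (P i ∩ P i').card = 2 := by exact_mod_cast h1
      rw [← Finset.eq_of_subset_of_card_le Finset.inter_subset_left (by rw [(hov i).1, h3] : (P i).card ≤ _),
        Finset.eq_of_subset_of_card_le Finset.inter_subset_right (by rw [(hov i').1, h3] : (P i').card ≤ _)]
    · obtain ⟨hxS, hx0⟩ := Finset.mem_filter.mp hx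
      obtain ⟨i₀, -, hoth⟩ := hflower x hxS (not_not.mp hx0)
      by_cases h0 : i = i₀
      · rw [hoth i' (h0 ▸ Ne.symm hii), mul_zero]
      · rw [hoth i h0, zero_mul]
  let i₀ : Fin n := ⟨0, hn⟩
  obtain ⟨a, b, hab, hPab⟩ := Finset.card_eq_two.mp (hov i₀).1
  have hPW : P i₀ ⊆ W := Finset.inter_subset_right
  obtain ⟨c, d, hcd, hcdeq⟩ := Finset.card_eq_two.mp (show (W \ P i₀).card = 2 by
    rw [Finset.card_sdiff_of_subset hPW, hw4, (hov i₀).1])
  have haP : a ∈ P i₀ := by rw [hPab]; simp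
  have hbP : b ∈ P i₀ := by rw [hPab]; simp
  have hcP : c ∈ W ∧ c ∉ P i₀ := Finset.mem_sdiff.mp (by rw [hcdeq]; simp)
  have hdP : d ∈ W ∧ d ∉ P i₀ := Finset.mem_sdiff.mp (by rw [hcdeq]; simp)
  have hac : a ≠ c := fun e => hcP.2 (e ▸ haP)
  have had : a ≠ d := fun e => hdP.2 (e ▸ haP)
  have hbc : b ≠ c := fun e => hcP.2 (e ▸ hbP)
  have hbd : b ≠ d := fun e => hdP.2 (e ▸ hbP)
  have hWeq : W = {a, b, c, d} := by
    rw [← Finset.union_sdiff_of_subset hPW, hPab, ← hPab, hcdeq, hPab]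
    ext x; simp; tauto
  have hmW : ∀ {x}, x ∈ W → x ∈ S ∧ w x ≠ 0 := fun hx => Finset.mem_filter.mp hx
  obtain ⟨haS, ha0⟩ := hmW (hPW haP)
  obtain ⟨hbS, hb0⟩ := hmW (hPW hbP)
  obtain ⟨hcS, hc0⟩ := hmW hcP.1
  obtain ⟨hdS, hd0⟩ := hmW hdP.1
  -- the petals
  have hOc : O.card = n := by
    have := Finset.card_filter_add_card_filter_not (s := S) fun x => w x ≠ 0
    rw [← hO, hw4] at this
    omega
  have hpet : ∀ i, ∃ x ∈ O, v i x ≠ 0 := fun i => by
    by_contra! hno
    have h1 := hvv i i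
    rw [if_pos rfl, hsplit, Finset.sum_eq_zero (s := O) fun x hx => by rw [hno x hx, zero_mul], add_zero,
      hWeq, sum_four hab hac had hbc hbd hcd] at h1
    have hz : ∀ x ∈ W, x ∉ P i₀ → v i x = 0 := fun x hx hn => by
      by_contra hne
      exact hn (hPeq i i₀ ▸ hmemP.mpr ⟨hWS hx, hne, (hmW hx).2⟩)
    have e1 : v i a * v i a = 1 := by
      rw [← (hov i).2 a haS (hmemP.mp (hPeq i₀ i ▸ haP)).2.1 ha0, hwsq a (hPW haP)]
    have e2 : v i b * v i b = 1 := by
      rw [← (hov i).2 b hbS (hmemP.mp (hPeq i₀ i ▸ hbP)).2.1 hb0, hwsq b (hPW hbP)]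
    rw [e1, e2, hz c hcP.1 hcP.2, hz d hdP.1 hdP.2] at h1
    norm_num at h1
  choose p hpO hpv using hpet
  have hpS : ∀ i, p i ∈ S := fun i => (Finset.mem_filter.mp (hpO i)).1
  have hpw : ∀ i, w (p i) = 0 := fun i => not_not.mp (Finset.mem_filter.mp (hpO i)).2
  have hvp : ∀ i i', i' ≠ i → v i' (p i) = 0 := fun i i' hne => by
    obtain ⟨i₁, -, hoth⟩ := hflower (p i) (hpS i) (hpw i)
    by_cases e : i = i₁
    · exact hoth i' (e ▸ hne)
    · exact absurd (hoth i e) (hpv i)
  have hpinj : Function.Injective p := fun i i' e => by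
    by_contra hne
    exact hpv i' (e ▸ hvp i i' (Ne.symm hne))
  have hOeq : O = Finset.univ.image p := by
    refine (Finset.eq_of_subset_of_card_le (fun x hx => ?_) ?_).symm
    · obtain ⟨i, -, rfl⟩ := Finset.mem_image.mp hx
      exact hpO i
    · rw [hOc, Finset.card_image_of_injective _ hpinj, Finset.card_univ, Fintype.card_fin]
  have hσ : ∀ i, v i (p i) = 1 ∨ v i (p i) = -1 := fun i => by
    obtain ⟨i₁, hi₁, hoth⟩ := hflower (p i) (hpS i) (hpw i)
    by_cases e : i = i₁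
    · exact e ▸ hi₁
    · exact absurd (hoth i e) (hpv i)
  set σ : Fin n → ℤ := fun i => v i (p i) with hσdef
  have hsum : ∀ F : α → ℤ, ∑ x ∈ S, F x = F a + F b + F c + F d + ∑ i, F (p i) := fun F => by
    rw [hsplit, hWeq, sum_four hab hac had hbc hbd hcd, hOeq, Finset.sum_image fun i _ i' _ e => hpinj e]
  have hcases : ∀ x ∈ S, x = a ∨ x = b ∨ x = c ∨ x = d ∨ ∃ i, x = p i := fun x hx => by
    by_cases hx0 : w x ≠ 0
    · have h1 : x ∈ W := Finset.mem_filter.mpr ⟨hx, hx0⟩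
      rw [hWeq] at h1
      simp only [Finset.mem_insert, Finset.mem_singleton] at h1
      tauto
    · have h1 : x ∈ O := Finset.mem_filter.mpr ⟨hx, hx0⟩
      rw [hOeq] at h1
      obtain ⟨i, -, rfl⟩ := Finset.mem_image.mp h1
      exact Or.inr (Or.inr (Or.inr (Or.inr ⟨i, rfl⟩)))
  have hva : ∀ i, v i a = w a := fun i =>
    ((hov i).2 a haS (hmemP.mp (hPeq i₀ i ▸ haP)).2.1 ha0).symm
  have hvb : ∀ i, v i b = w b := fun i =>
    ((hov i).2 b hbS (hmemP.mp (hPeq i₀ i ▸ hbP)).2.1 hb0).symm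
  have hvc : ∀ i, v i c = 0 := fun i => by
    by_contra hne; exact hcP.2 (hPeq i i₀ ▸ hmemP.mpr ⟨hcS, hne, hc0⟩)
  have hvd : ∀ i, v i d = 0 := fun i => by
    by_contra hne; exact hdP.2 (hPeq i i₀ ▸ hmemP.mpr ⟨hdS, hne, hd0⟩)
  have wa2 := hwsq a (hPW haP)
  have wb2 := hwsq b (hPW hbP)
  have wc2 := hwsq c hcP.1
  have wd2 := hwsq d hdP.1
  have hσ2 : ∀ i, σ i * σ i = 1 := fun i => eq_one_or_sq (hσ i)
  -- vectors killed by the flower
  have hform : ∀ y : α → ℤ, ∑ x ∈ S, y x * w x = 0 → (∀ i, ∑ x ∈ S, y x * v i x = 0) →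
      (w a * y a + w b * y b + (w c * y c + w d * y d) = 0) ∧
        ∀ i, σ i * y (p i) = -(w a * y a + w b * y b) := by
    intro y h1 h2
    refine ⟨?_, fun i => ?_⟩
    · rw [hsum, Finset.sum_eq_zero fun i _ => by rw [hpw i, mul_zero]] at h1
      linear_combination h1
    · have h3 := h2 i
      rw [hsum, hva, hvb, hvc, hvd, Finset.sum_eq_single i (fun i' _ hne => by
        rw [hvp i' i (Ne.symm hne), mul_zero]) (by simp)] at h3
      linear_combination h3
  -- the vectors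
  let f : ℤ → ℤ → ℤ → ℤ → ℤ → α → ℤ := fun sa sb sc sd sp x =>
    if x = a then sa * w a else if x = b then sb * w b else if x = c then sc * w c else if x = d then sd * w d
    else sp * ∑ i, v i x
  have hf : ∀ sa sb sc sd sp, f sa sb sc sd sp a = sa * w a ∧ f sa sb sc sd sp b = sb * w b ∧
      f sa sb sc sd sp c = sc * w c ∧ f sa sb sc sd sp d = sd * w d ∧
      ∀ i, f sa sb sc sd sp (p i) = sp * σ i := fun sa sb sc sd sp => by
    refine ⟨by simp [f], by simp [f, hab.symm], by simp [f, hac.symm, hbc.symm],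
      by simp [f, had.symm, hbd.symm, hcd.symm], fun i => ?_⟩
    have hne : ∀ {x}, w x ≠ 0 → p i ≠ x := fun hx e => hx (e ▸ hpw i)
    simp only [f, if_neg (hne ha0), if_neg (hne hb0), if_neg (hne hc0), if_neg (hne hd0)]
    rw [Finset.sum_eq_single i (fun i' _ hne => hvp i i' hne) (by simp)]
  set t := f 1 1 (-1) (-1) (-2) with htdef
  set q₁ := f 1 (-1) 1 (-1) 0 with hq₁
  set q₂ := f 1 (-1) (-1) 1 0 with hq₂
  obtain ⟨ta, tb, tc, td, tp⟩ := hf 1 1 (-1) (-1) (-2)
  obtain ⟨pa, pb, pc, pd, pp⟩ := hf 1 (-1) 1 (-1) 0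
  obtain ⟨ra, rb, rc, rd, rp⟩ := hf 1 (-1) (-1) 1 0
  have hh' : (h : ℤ) = 2 * ((n : ℤ) + 1) := by exact_mod_cast hh
  set K₀ : α → α → ℤ := fun x y => ((n : ℤ) + 1) * (q₁ x * q₁ y + q₂ x * q₂ y) + t x * t y with hK₀
  have hproj : ∀ y : α → ℤ, ∑ x ∈ S, y x * w x = 0 → (∀ i, ∑ x ∈ S, y x * v i x = 0) →
      ∀ z ∈ S, ∑ x ∈ S, K₀ z x * y x = 2 * (h : ℤ) * y z := by
    intro y h1 h2 z hz
    obtain ⟨e1, e2⟩ := hform y h1 h2
    have hq1y : ∑ x ∈ S, q₁ x * y x = w a * y a - w b * y b + w c * y c - w d * y d := by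
      rw [hsum, hq₁, pa, pb, pc, pd, Finset.sum_eq_zero fun i _ => by rw [pp, zero_mul, zero_mul]]; ring
    have hq2y : ∑ x ∈ S, q₂ x * y x = w a * y a - w b * y b - w c * y c + w d * y d := by
      rw [hsum, hq₂, ra, rb, rc, rd, Finset.sum_eq_zero fun i _ => by rw [rp, zero_mul, zero_mul]]; ring
    have hty : ∑ x ∈ S, t x * y x = (h : ℤ) * (w a * y a + w b * y b) := by
      rw [hsum, htdef, ta, tb, tc, td, Finset.sum_congr rfl fun i _ => show
        f 1 1 (-1) (-1) (-2) (p i) * y (p i) = 2 * (w a * y a + w b * y b) by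
          rw [tp]; linear_combination (-2 : ℤ) * e2 i,
        Finset.sum_const, Finset.card_univ, Fintype.card_fin, nsmul_eq_mul, hh']
      linear_combination -e1
    have hexp : ∑ x ∈ S, K₀ z x * y x = ((n : ℤ) + 1) * (q₁ z * (∑ x ∈ S, q₁ x * y x) +
        q₂ z * ∑ x ∈ S, q₂ x * y x) + t z * ∑ x ∈ S, t x * y x := by
      simp only [Finset.mul_sum, ← Finset.sum_add_distrib]
      exact Finset.sum_congr rfl fun x _ => by simp only [hK₀]; ring
    rw [hexp, hq1y, hq2y, hty, hh', htdef, hq₁, hq₂]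
    rcases hcases z hz with rfl | rfl | rfl | rfl | ⟨i, rfl⟩
    · rw [ta, pa, ra]; linear_combination (4 * ((n : ℤ) + 1) * y z) * wa2
    · rw [tb, pb, rb]; linear_combination (4 * ((n : ℤ) + 1) * y z) * wb2
    · rw [tc, pc, rc]
      linear_combination (4 * ((n : ℤ) + 1) * y z) * wc2 - (2 * ((n : ℤ) + 1) * w z) * e1
    · rw [td, pd, rd]
      linear_combination (4 * ((n : ℤ) + 1) * y z) * wd2 - (2 * ((n : ℤ) + 1) * w z) * e1
    · rw [tp, pp, rp]
      linear_combination (4 * ((n : ℤ) + 1) * y (p i)) * hσ2 i - (4 * ((n : ℤ) + 1) * σ i) * e2 i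
  have hNform : ∀ x ∈ S, _ := fun x hx => hform (N x) (hNw x hx) (hNv x hx)
  have hK₀N : ∀ x ∈ S, ∀ z ∈ S, ∑ y ∈ S, K₀ x y * N y z = 2 * (h : ℤ) * N x z := fun x hx z hz => by
    rw [hsym x z, ← hproj (N z) (hNw z hz) (hNv z hz) x hx]
    exact Finset.sum_congr rfl fun y _ => by rw [hsym y z]
  have hK₀sym : ∀ x y, K₀ x y = K₀ y x := fun x y => by simp only [hK₀]; ring
  have hK₀w : ∀ x ∈ S, ∑ y ∈ S, K₀ x y * w y = 0 := fun x hx => by
    rw [hsum, Finset.sum_eq_zero fun i _ => by rw [hpw i, mul_zero]]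
    simp only [hK₀, hq₁, hq₂, htdef, ta, tb, tc, td, pa, pb, pc, pd, ra, rb, rc, rd]
    linear_combination (((n : ℤ) + 1) * (q₁ x + q₂ x) + t x) * wa2 +
      (-((n : ℤ) + 1) * (q₁ x + q₂ x) + t x) * wb2 + (((n : ℤ) + 1) * (q₁ x - q₂ x) - t x) * wc2 +
      (-((n : ℤ) + 1) * (q₁ x - q₂ x) - t x) * wd2
  have hK₀v : ∀ x ∈ S, ∀ i, ∑ y ∈ S, K₀ x y * v i y = 0 := fun x hx i => by
    rw [hsum, hva, hvb, hvc, hvd, Finset.sum_eq_single i (fun i' _ hne => by
        rw [hvp i' i (Ne.symm hne), mul_zero]) (by simp), show v i (p i) = σ i from rfl]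
    simp only [hK₀, hq₁, hq₂, htdef, ta, tb, pa, pb, ra, rb, tp, pp, rp]
    linear_combination (((n : ℤ) + 1) * (q₁ x + q₂ x) + t x) * wa2 +
      (-((n : ℤ) + 1) * (q₁ x + q₂ x) + t x) * wb2 + (-2 * t x) * hσ2 i
  have hK₀tr : ∑ x ∈ S, K₀ x x = 6 * (h : ℤ) := by
    rw [hsum, Finset.sum_congr rfl fun i _ => show K₀ (p i) (p i) = 4 by
      simp only [hK₀, hq₁, hq₂, htdef, tp, pp, rp]; linear_combination 4 * hσ2 i,
      Finset.sum_const, Finset.card_univ, Fintype.card_fin, nsmul_eq_mul, hh']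
    simp only [hK₀, hq₁, hq₂, htdef, ta, tb, tc, td, pa, pb, pc, pd, ra, rb, rc, rd]
    linear_combination (2 * (n : ℤ) + 3) * (wa2 + wb2 + wc2 + wd2)
  set K : α → α → ℤ := fun x y => K₀ x y - N x y with hK
  have hKsym : ∀ x y, K x y = K y x := fun x y => by simp only [hK, hK₀sym x y, hsym x y]
  have hKsq : ∀ x ∈ S, ∀ z ∈ S, ∑ y ∈ S, K x y * K y z = 2 * (h : ℤ) * K x z := fun x hx z hz => by
    have h1 : ∑ y ∈ S, K₀ x y * K₀ y z = 2 * (h : ℤ) * K₀ x z := by
      rw [hK₀sym x z, ← hproj (K₀ z) (hK₀w z hz) (hK₀v z hz) x hx]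
      exact Finset.sum_congr rfl fun y _ => by rw [hK₀sym y z]
    have h2 : ∑ y ∈ S, N x y * K₀ y z = 2 * (h : ℤ) * N x z := by
      rw [hsym x z, ← hK₀N z hz x hx]
      exact Finset.sum_congr rfl fun y _ => by rw [hK₀sym y z, hsym x y]; ring
    simp only [hK, sub_mul, mul_sub, Finset.sum_sub_distrib, h1, h2, hK₀N x hx z hz, hsq x hx z hz]
    ring
  have hKform : ∀ x ∈ S, _ := fun x hx => hform (K x)
    (by simp only [hK, sub_mul, Finset.sum_sub_distrib, hK₀w x hx, hNw x hx, sub_zero])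
    (fun i => by simp only [hK, sub_mul, Finset.sum_sub_distrib, hK₀v x hx i, hNv x hx i, sub_zero])
  have hKtr : ∑ x ∈ S, K x x = 2 * (h : ℤ) * (3 - l) := by
    simp only [hK, Finset.sum_sub_distrib, hK₀tr, htr]; ring
  have hhpos : (0 : ℤ) < 2 * (h : ℤ) := by omega
  have hNpos : ∀ x ∈ S, 0 ≤ N x x := fun x hx => (diag_nonneg hsym hsq hhpos hx).1
  -- the frame of the vectors
  have hOne : ∀ x ∈ S, w x ≠ 0 → x = a ∨ x = b ∨ x = c ∨ x = d := fun x hx hx0 => by
    rcases hcases x hx with e | e | e | e | ⟨i, rfl⟩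
    all_goals first | tauto | exact absurd (hpw i) hx0
  have hOff : ∀ x ∈ S, w x = 0 → ∃ i, x = p i := fun x hx hx0 => by
    rcases hcases x hx with rfl | rfl | rfl | rfl | e
    all_goals first | exact e | contradiction
  have mkFrame : ∀ (j ν : ℕ) (q : Fin j → α → ℤ), j ≤ 2 →
      (ν = 4 ∨ ν = 2 ∧ 1 ≤ j ∧ ∃ x ∈ S, w x ≠ 0 ∧ ∀ i, q i x = 0) →
      (ν = 4 → ∀ i, ∀ x ∈ S, w x ≠ 0 → q i x = 1 ∨ q i x = -1) →
      (∀ i i', q i (p i') = 0) → (∀ i, ∑ x ∈ S, w x * q i x = 0) → (∀ i, ∑ x ∈ S, q i x * t x = 0) →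
      (∀ i i', ∑ x ∈ S, q i x * q i' x = if i = i' then (ν : ℤ) else 0) →
      (∀ x ∈ S, ∀ y ∈ S, (ν : ℤ) * N x y = 2 * (h : ℤ) * (∑ i, q i x * q i y) + (ν : ℤ) * (t x * t y)) →
      Frame S N h j ν w t q := by
    intro j ν q h1 h2 h3 h4 h5 h6 h7 h8
    refine ⟨h1, h2, by omega, hw1, hw4, fun x hx hx0 => ?_, fun x hx hx0 => ?_, h3,
      fun i x hx hx0 => ?_, ?_, h5, h6, h7, ?_, h8⟩
    · have := (hw1 x hx).resolve_left hx0
      rcases hOne x hx hx0 with rfl | rfl | rfl | rfl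
      · rw [htdef, ta]; omega
      · rw [htdef, tb]; omega
      · rw [htdef, tc]; omega
      · rw [htdef, td]; omega
    · obtain ⟨i, rfl⟩ := hOff x hx hx0
      rw [htdef, tp]
      have := hσ i
      rcases hσ i with e | e
      · exact Or.inr (by rw [show σ i = 1 from e]; ring)
      · exact Or.inl (by rw [show σ i = -1 from e]; ring)
    · obtain ⟨i', rfl⟩ := hOff x hx hx0
      exact h4 i i'
    · rw [hsum, Finset.sum_eq_zero fun i _ => by rw [hpw i, zero_mul], htdef, ta, tb, tc, td]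
      linear_combination wa2 + wb2 - wc2 - wd2
    · rw [hsum, htdef, ta, tb, tc, td, Finset.sum_congr rfl fun i _ => show
        f 1 1 (-1) (-1) (-2) (p i) * f 1 1 (-1) (-1) (-2) (p i) = 4 by
          rw [tp]; linear_combination 4 * hσ2 i,
        Finset.sum_const, Finset.card_univ, Fintype.card_fin, nsmul_eq_mul, hh']
      linear_combination wa2 + wb2 + wc2 + wd2
  have hw01 : ∀ {x}, w x * w x = 1 → ∀ {r : ℤ}, r = 1 ∨ r = -1 → r * w x = 1 ∨ r * w x = -1 :=
    fun hx r hr => by rcases mul_self_eq_one_iff.mp hx with e | e <;> rcases hr with e' | e' <;> simp [e, e']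
  have hqpm : ∀ {sb sc sd : ℤ}, (sb = 1 ∨ sb = -1) → (sc = 1 ∨ sc = -1) → (sd = 1 ∨ sd = -1) →
      ∀ x ∈ S, w x ≠ 0 → f 1 sb sc sd 0 x = 1 ∨ f 1 sb sc sd 0 x = -1 := by
    intro sb sc sd hb hc hd x hx hx0
    obtain ⟨f1, f2, f3, f4, -⟩ := hf 1 sb sc sd 0
    rcases hOne x hx hx0 with rfl | rfl | rfl | rfl
    · rw [f1]; exact hw01 wa2 (Or.inl rfl)
    · rw [f2]; exact hw01 wb2 hb
    · rw [f3]; exact hw01 wc2 hc
    · rw [f4]; exact hw01 wd2 hd
  have hdot : ∀ sa sb sc sd sa' sb' sc' sd' : ℤ, ∑ x ∈ S, f sa sb sc sd 0 x * f sa' sb' sc' sd' 0 x =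
      sa * sa' + sb * sb' + sc * sc' + sd * sd' := fun sa sb sc sd sa' sb' sc' sd' => by
    obtain ⟨f1, f2, f3, f4, f5⟩ := hf sa sb sc sd 0
    obtain ⟨g1, g2, g3, g4, -⟩ := hf sa' sb' sc' sd' 0
    rw [hsum, f1, f2, f3, f4, g1, g2, g3, g4, Finset.sum_eq_zero fun i _ => by rw [f5, zero_mul, zero_mul]]
    linear_combination (sa * sa') * wa2 + (sb * sb') * wb2 + (sc * sc') * wc2 + (sd * sd') * wd2
  have hdotw : ∀ sa sb sc sd : ℤ, ∑ x ∈ S, w x * f sa sb sc sd 0 x = sa + sb + sc + sd := fun sa sb sc sd => by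
    obtain ⟨f1, f2, f3, f4, -⟩ := hf sa sb sc sd 0
    rw [hsum, f1, f2, f3, f4, Finset.sum_eq_zero fun i _ => by rw [hpw i, zero_mul]]
    linear_combination sa * wa2 + sb * wb2 + sc * wc2 + sd * wd2
  have hdott : ∀ sa sb sc sd : ℤ, ∑ x ∈ S, f sa sb sc sd 0 x * t x = sa + sb - sc - sd := fun sa sb sc sd => by
    obtain ⟨f1, f2, f3, f4, f5⟩ := hf sa sb sc sd 0
    rw [hsum, htdef, f1, f2, f3, f4, ta, tb, tc, td, Finset.sum_eq_zero fun i _ => by rw [f5, zero_mul, zero_mul]]
    linear_combination sa * wa2 + sb * wb2 - sc * wc2 - sd * wd2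
  have hfp : ∀ sa sb sc sd i, f sa sb sc sd 0 (p i) = 0 := fun sa sb sc sd i => by
    rw [(hf sa sb sc sd 0).2.2.2.2 i, zero_mul]
  rcases (show l = 3 ∨ l = 1 ∨ l = 2 by omega) with rfl | rfl | rfl
  · -- three
    have hKz : ∀ x ∈ S, ∀ y ∈ S, K x y = 0 := fun x hx => by
      refine (diag_nonneg hKsym hKsq hhpos hx).2 ?_
      have h1 := Finset.single_le_sum (f := fun x => K x x) (fun y hy => (diag_nonneg hKsym hKsq hhpos hy).1) hx
      rw [hKtr] at h1
      have h2 := (diag_nonneg hKsym hKsq hhpos hx).1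
      simp only [Nat.cast_ofNat, sub_self, mul_zero] at h1
      omega
    refine ⟨2, 4, t, ![q₁, q₂], rfl, mkFrame 2 4 _ le_rfl (Or.inl rfl) (fun _ i => ?_) (fun i i' => ?_)
      (fun i => ?_) (fun i => ?_) (fun i i' => ?_) fun x hx y hy => ?_⟩
    · fin_cases i
      · exact hqpm (Or.inr rfl) (Or.inl rfl) (Or.inr rfl)
      · exact hqpm (Or.inr rfl) (Or.inr rfl) (Or.inl rfl)
    · fin_cases i <;> exact hfp _ _ _ _ i'
    · fin_cases i <;> exact (hdotw _ _ _ _).trans (by norm_num)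
    · fin_cases i <;> exact (hdott _ _ _ _).trans (by norm_num)
    · fin_cases i <;> fin_cases i' <;> exact (hdot _ _ _ _ _ _ _ _).trans (by norm_num)
    · have h1 := hKz x hx y hy
      simp only [hK, hK₀, sub_eq_zero] at h1
      rw [← h1, Fin.sum_univ_two, hh']
      push_cast
      try simp only [Matrix.cons_val_zero, Matrix.cons_val_one]
      ring
  · -- one
    have htr' : ∑ x ∈ S, N x x = 2 * (h : ℤ) := by rw [htr]; push_cast; ring
    have hr1 : ∀ {x}, x ∈ S → ∀ {y z}, y ∈ S → z ∈ S → N x x * N y z = N x y * N x z :=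
      fun hx y z hy hz => rank_one hsym hsq htr' hx hy hz
    have hWge : ∀ x ∈ S, w x ≠ 0 → 1 ≤ N x x := fun x hx hx0 => by
      have := hNpos x hx
      obtain ⟨r, hr⟩ := hodd x hx hx0
      omega
    have hPge : ∀ i, 4 ≤ N (p i) (p i) := fun i => by
      obtain ⟨⟨r, hr⟩, hr4⟩ := hmix a haS (p i) (hpS i) ha0 (hpw i)
      have h1 := hr1 haS (hpS i) (hpS i)
      obtain ⟨u, hu⟩ := hodd a haS ha0
      obtain ⟨x', hx'⟩ := heven (p i) (hpS i) (hpw i)
      have h0 := hNpos (p i) (hpS i)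
      have hr0 : ¬ (2 : ℤ) ∣ r := fun ⟨r', hr'⟩ => hr4 ⟨r', by omega⟩
      have h2 : (2 * u + 1) * x' = 2 * (r * r) := by
        rw [hu, hx', hr] at h1; linarith
      have hx2 : (2 : ℤ) ∣ x' := (Int.prime_two.dvd_mul.mp ⟨r * r, h2⟩).resolve_left (by omega)
      obtain ⟨x'', rfl⟩ := hx2
      have : x'' ≠ 0 := fun e => by
        subst e
        have : r * r = 0 := by linarith
        exact hr0 (by rw [mul_self_eq_zero.mp this]; exact dvd_zero 2)
      omega
    have htr2 := htr'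
    rw [hsum fun x => N x x] at htr2
    have hbound : (4 : ℤ) * n ≤ ∑ i, N (p i) (p i) := by
      have := Finset.card_nsmul_le_sum Finset.univ (fun i => N (p i) (p i)) 4 fun i _ => hPge i
      rw [Finset.card_univ, Fintype.card_fin, nsmul_eq_mul] at this
      linarith
    have := hWge a haS ha0
    have := hWge b hbS hb0
    have := hWge c hcS hc0
    have := hWge d hdS hd0
    have hNaa : N a a = 1 := by omega
    have hNbb : N b b = 1 := by omega
    have hNpp : ∀ i, N (p i) (p i) = 4 := fun i => by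
      by_contra hne
      have hlt : ∑ _i : Fin n, (4 : ℤ) < ∑ i, N (p i) (p i) :=
        Finset.sum_lt_sum (fun i _ => hPge i) ⟨i, Finset.mem_univ _, lt_of_le_of_ne (hPge i) (Ne.symm hne)⟩
      rw [Finset.sum_const, Finset.card_univ, Fintype.card_fin, nsmul_eq_mul] at hlt
      omega
    obtain ⟨e1, e2⟩ := hNform a haS
    set A := w a * N a a with hA
    set B' := w b * N a b with hB'
    have hs2 : (A + B') * (A + B') = 4 := by
      have := hr1 haS (hpS i₀) (hpS i₀)
      rw [hNaa, hNpp, one_mul] at this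
      calc (A + B') * (A + B') = (σ i₀ * N a (p i₀)) * (σ i₀ * N a (p i₀)) := by rw [e2 i₀]; ring
        _ = 4 := by linear_combination (N a (p i₀) * N a (p i₀)) * hσ2 i₀ - this
    have hA2 : A * A = 1 := by rw [hA, hNaa, mul_one]; exact wa2
    have hB2 : B' * B' = 1 := by
      have := hr1 haS hbS hbS
      rw [hNaa, hNbb, one_mul] at this
      calc B' * B' = (w b * w b) * (N a b * N a b) := by rw [hB']; ring
        _ = 1 := by rw [wb2, ← this, one_mul]
    have hBA : B' = A := by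
      rcases mul_self_eq_one_iff.mp hA2 with e | e <;> rcases mul_self_eq_one_iff.mp hB2 with e' | e' <;>
        first | omega | (rw [e, e'] at hs2; norm_num at hs2)
    have hcd2 : ∀ x ∈ S, w x ≠ 0 → N x x = 1 → (w x * N a x) * (w x * N a x) = 1 := fun x hx hx0 hxx => by
      have := hr1 haS hx hx
      rw [hNaa, hxx, one_mul] at this
      calc (w x * N a x) * (w x * N a x) = (w x * w x) * (N a x * N a x) := by ring
        _ = 1 := by rw [hwsq x (Finset.mem_filter.mpr ⟨hx, hx0⟩), ← this, one_mul]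
    have hC := hcd2 c hcS hc0 (by omega)
    have hD := hcd2 d hdS hd0 (by omega)
    have hCD : w c * N a c = -A ∧ w d * N a d = -A := by
      rcases mul_self_eq_one_iff.mp hA2 with e | e <;> rcases mul_self_eq_one_iff.mp hC with e' | e' <;>
        rcases mul_self_eq_one_iff.mp hD with e'' | e'' <;> exact ⟨by omega, by omega⟩
    have hu : ∀ x ∈ S, N a x = A * t x := fun x hx => by
      rw [htdef]
      rcases hcases x hx with rfl | rfl | rfl | rfl | ⟨i, rfl⟩
      · rw [ta, hA]; linear_combination -(N x x) * wa2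
      · rw [tb, ← hBA, hB']; linear_combination -(N a x) * wb2
      · rw [tc]; linear_combination w x * hCD.1 - N a x * wc2
      · rw [td]; linear_combination w x * hCD.2 - N a x * wd2
      · rw [tp]
        have := e2 i
        rw [hBA] at this
        linear_combination σ i * this - N a (p i) * hσ2 i
    refine ⟨0, 4, t, fun i => i.elim0, rfl, mkFrame 0 4 _ (by norm_num) (Or.inl rfl) (fun _ i => i.elim0)
      (fun i => i.elim0) (fun i => i.elim0) (fun i => i.elim0) (fun i => i.elim0) fun x hx y hy => ?_⟩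
    have h1 := hr1 haS hx hy
    rw [hNaa, one_mul, hu x hx, hu y hy] at h1
    rw [h1]
    simp only [Finset.univ_eq_empty, Finset.sum_empty, mul_zero, zero_add]
    push_cast
    linear_combination (4 * t x * t y) * hA2
  · -- two
    have hKtr' : ∑ x ∈ S, K x x = 2 * (h : ℤ) := by rw [hKtr]; push_cast; ring
    have hr1 : ∀ {x}, x ∈ S → ∀ {y z}, y ∈ S → z ∈ S → K x x * K y z = K x y * K x z :=
      fun hx y z hy hz => rank_one hKsym hKsq hKtr' hx hy hz
    have hK0 : ∀ i, ∀ y ∈ S, K (p i) y = 0 := fun i => by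
      refine (diag_nonneg hKsym hKsq hhpos (hpS i)).2 ?_
      have hK₀pp : K₀ (p i) (p i) = 4 := by
        simp only [hK₀, hq₁, hq₂, htdef, tp, pp, rp]; linear_combination 4 * hσ2 i
      have h1 : K (p i) (p i) = 4 - N (p i) (p i) := by rw [hK]; simp only [hK₀pp]
      have h2 := hNpos (p i) (hpS i)
      have h3 := (diag_nonneg hKsym hKsq hhpos (hpS i)).1
      obtain ⟨r, hr⟩ := heven (p i) (hpS i) (hpw i)
      have h4 : N (p i) (p i) ≠ 0 := fun e =>
        (hmix a haS (p i) (hpS i) ha0 (hpw i)).2 (by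
          rw [hsym, (diag_nonneg hsym hsq hhpos (hpS i)).2 e a haS]; exact dvd_zero 4)
      by_contra hne
      have h5 : K (p i) (p i) = 2 := by omega
      obtain ⟨-, e2⟩ := hKform (p i) (hpS i)
      have h6 := e2 i
      rw [h5] at h6
      have hdiv : ∀ x ∈ S, w x ≠ 0 → (K₀ (p i) x = 2 ∨ K₀ (p i) x = -2) → (4 : ℤ) ∣ K (p i) x :=
        fun x hx hx0 hv => by
          obtain ⟨⟨r', hr'⟩, h7⟩ := hmix x hx (p i) (hpS i) hx0 (hpw i)
          have hr0 : ¬ (2 : ℤ) ∣ r' := fun ⟨u, hu⟩ => h7 ⟨u, by omega⟩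
          show (4 : ℤ) ∣ K₀ (p i) x - N (p i) x
          rw [hsym (p i) x]
          omega
      have h8 := hdiv a haS ha0 (by
        simp only [hK₀, hq₁, hq₂, htdef, tp, pp, rp, ta]
        rcases hσ i with e | e <;> rcases (hw1 a haS).resolve_left ha0 with e' | e' <;>
          simp [show σ i = _ from e, e'])
      have h9 := hdiv b hbS hb0 (by
        simp only [hK₀, hq₁, hq₂, htdef, tp, pp, rp, tb]
        rcases hσ i with e | e <;> rcases (hw1 b hbS).resolve_left hb0 with e' | e' <;>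
          simp [show σ i = _ from e, e'])
      have h10 : (4 : ℤ) ∣ σ i * 2 := by
        rw [h6]; exact (dvd_add (h8.mul_left _) (h9.mul_left _)).neg_right
      rcases hσ i with e | e <;> rw [show σ i = _ from e] at h10 <;> norm_num at h10
    have hrow : ∀ x ∈ S, (∀ i, K x (p i) = 0) ∧ w a * K x a + w b * K x b = 0 ∧
        w c * K x c + w d * K x d = 0 := fun x hx => by
      obtain ⟨e1, e2⟩ := hKform x hx
      have hp0 : ∀ i, K x (p i) = 0 := fun i => (hKsym _ _).trans (hK0 i x hx)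
      have := e2 i₀
      rw [hp0, mul_zero] at this
      exact ⟨hp0, by linarith, by linarith⟩
    obtain ⟨-, ea, ea'⟩ := hrow a haS
    obtain ⟨-, eb, -⟩ := hrow b hbS
    obtain ⟨-, ec, ec'⟩ := hrow c hcS
    obtain ⟨-, -, ed'⟩ := hrow d hdS
    have hbb : K b b = K a a := by
      have h1 : w a * w b * K a b = -K a a := by
        linear_combination w a * ea - K a a * wa2
      have h2 : w a * w b * K b a = -K b b := by
        linear_combination w b * eb - K b b * wb2
      rw [hKsym b a] at h2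
      omega
    have hdd : K d d = K c c := by
      have h1 : w c * w d * K c d = -K c c := by
        linear_combination w c * ec' - K c c * wc2
      have h2 : w c * w d * K d c = -K d d := by
        linear_combination w d * ed' - K d d * wd2
      rw [hKsym d c] at h2
      omega
    have htrK := hKtr'
    rw [hsum fun x => K x x, Finset.sum_eq_zero fun i _ => hK0 i _ (hpS i), hbb, hdd] at htrK
    have hsum2 : K a a + K c c = (h : ℤ) := by linarith
    have hprod : K a a * K c c = K a c * K a c := hr1 haS hcS hcS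
    obtain ⟨x', hx'⟩ := Int.eq_ofNat_of_zero_le (diag_nonneg hKsym hKsq hhpos haS).1
    obtain ⟨y', hy'⟩ := Int.eq_ofNat_of_zero_le (diag_nonneg hKsym hKsq hhpos hcS).1
    have hcase := sq_sum_two_pow k x' y' (K a c).natAbs (by rw [← hk]; rw [hx', hy'] at hsum2; exact_mod_cast hsum2)
      (by
        have : ((x' * y' : ℕ) : ℤ) = (((K a c).natAbs * (K a c).natAbs : ℕ) : ℤ) := by
          rw [Nat.cast_mul, Nat.cast_mul, Int.natAbs_mul_self', ← hx', ← hy', hprod]
        exact_mod_cast this)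
    have hpair : ∀ x y : α, K₀ x y - N x y = K x y := fun x y => rfl
    rcases hcase with rfl | rfl | rfl
    · -- nothing on `a`, `b`
      have hcc : K c c = h := by rw [hx'] at hsum2; simpa using hsum2
      have hca : K c a = 0 := by
        have h0 := (diag_nonneg hKsym hKsq hhpos haS).2 (by rw [hx']; rfl) c hcS
        rw [hKsym]; exact h0
      have hu : ∀ y ∈ S, K c y = (h : ℤ) * w c * f 0 0 1 (-1) 0 y := fun y hy => by
        obtain ⟨g1, g2, g3, g4, g5⟩ := hf 0 0 1 (-1) 0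
        rcases hcases y hy with rfl | rfl | rfl | rfl | ⟨i, rfl⟩
        · rw [g1, hca]; ring
        · rw [g2]
          have : w y * K c y = 0 := by rw [hca] at ec; linarith
          rw [(mul_eq_zero.mp this).resolve_left hb0]; ring
        · rw [g3, hcc]; linear_combination -(h : ℤ) * wc2
        · rw [g4]; rw [hcc] at ec'; linear_combination w y * ec' - K c y * wd2
        · rw [g5, (hrow c hcS).1 i]; ring
      refine ⟨1, 2, t, fun _ => f 1 (-1) 0 0 0, rfl, mkFrame 1 2 _ (by norm_num)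
        (Or.inr ⟨rfl, le_rfl, c, hcS, hc0, fun _ => by rw [(hf 1 (-1) 0 0 0).2.2.1, zero_mul]⟩)
        (fun e => absurd e (by norm_num)) (fun _ i' => hfp _ _ _ _ i')
        (fun _ => (hdotw _ _ _ _).trans (by norm_num)) (fun _ => (hdott _ _ _ _).trans (by norm_num))
        (fun i i' => by rw [if_pos (Subsingleton.elim i i')]; exact (hdot _ _ _ _ _ _ _ _).trans (by norm_num))
        fun x hx y hy => ?_⟩
      have h1 := hr1 hcS hx hy
      rw [hcc, hu x hx, hu y hy] at h1
      have h2 : K x y = (h : ℤ) * (f 0 0 1 (-1) 0 x * f 0 0 1 (-1) 0 y) := mul_left_cancel₀ (by omega : (h : ℤ) ≠ 0) (by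
        linear_combination h1 + ((h : ℤ) * h * f 0 0 1 (-1) 0 x * f 0 0 1 (-1) 0 y) * wc2)
      have h3 : q₁ x * q₁ y + q₂ x * q₂ y =
          2 * (f 1 (-1) 0 0 0 x * f 1 (-1) 0 0 0 y + f 0 0 1 (-1) 0 x * f 0 0 1 (-1) 0 y) := by
        simp only [hq₁, hq₂]
        rcases hcases x hx with rfl | rfl | rfl | rfl | ⟨i, rfl⟩ <;>
          rcases hcases y hy with rfl | rfl | rfl | rfl | ⟨i', rfl⟩ <;>
          simp only [(hf _ _ _ _ _).1, (hf _ _ _ _ _).2.1, (hf _ _ _ _ _).2.2.1, (hf _ _ _ _ _).2.2.2.1, hfp] <;>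
          ring
      rw [← hpair x y] at h2
      simp only [hK₀, h3, hh'] at h2
      simp only [Finset.univ_unique, Finset.sum_singleton, hh']
      push_cast
      linear_combination -2 * h2
    · -- nothing on `c`, `d`
      have haa : K a a = h := by rw [hy'] at hsum2; simpa using hsum2
      have hac' : K a c = 0 := by
        rw [hKsym]; exact (diag_nonneg hKsym hKsq hhpos hcS).2 (by rw [hy']; rfl) a haS
      have hu : ∀ y ∈ S, K a y = (h : ℤ) * w a * f 1 (-1) 0 0 0 y := fun y hy => by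
        obtain ⟨g1, g2, g3, g4, g5⟩ := hf 1 (-1) 0 0 0
        rcases hcases y hy with rfl | rfl | rfl | rfl | ⟨i, rfl⟩
        · rw [g1, haa]; linear_combination -(h : ℤ) * wa2
        · rw [g2]; rw [haa] at ea; linear_combination w y * ea - K a y * wb2
        · rw [g3, hac']; ring
        · rw [g4]
          have : w y * K a y = 0 := by rw [hac'] at ea'; linarith
          rw [(mul_eq_zero.mp this).resolve_left hd0]; ring
        · rw [g5, (hrow a haS).1 i]; ring
      refine ⟨1, 2, t, fun _ => f 0 0 1 (-1) 0, rfl, mkFrame 1 2 _ (by norm_num)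
        (Or.inr ⟨rfl, le_rfl, a, haS, ha0, fun _ => by rw [(hf 0 0 1 (-1) 0).1, zero_mul]⟩)
        (fun e => absurd e (by norm_num)) (fun _ i' => hfp _ _ _ _ i')
        (fun _ => (hdotw _ _ _ _).trans (by norm_num)) (fun _ => (hdott _ _ _ _).trans (by norm_num))
        (fun i i' => by rw [if_pos (Subsingleton.elim i i')]; exact (hdot _ _ _ _ _ _ _ _).trans (by norm_num))
        fun x hx y hy => ?_⟩
      have h1 := hr1 haS hx hy
      rw [haa, hu x hx, hu y hy] at h1
      have h2 : K x y = (h : ℤ) * (f 1 (-1) 0 0 0 x * f 1 (-1) 0 0 0 y) := mul_left_cancel₀ (by omega : (h : ℤ) ≠ 0) (by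
        linear_combination h1 + ((h : ℤ) * h * f 1 (-1) 0 0 0 x * f 1 (-1) 0 0 0 y) * wa2)
      have h3 : q₁ x * q₁ y + q₂ x * q₂ y =
          2 * (f 1 (-1) 0 0 0 x * f 1 (-1) 0 0 0 y + f 0 0 1 (-1) 0 x * f 0 0 1 (-1) 0 y) := by
        simp only [hq₁, hq₂]
        rcases hcases x hx with rfl | rfl | rfl | rfl | ⟨i, rfl⟩ <;>
          rcases hcases y hy with rfl | rfl | rfl | rfl | ⟨i', rfl⟩ <;>
          simp only [(hf _ _ _ _ _).1, (hf _ _ _ _ _).2.1, (hf _ _ _ _ _).2.2.1, (hf _ _ _ _ _).2.2.2.1, hfp] <;>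
          ring
      rw [← hpair x y] at h2
      simp only [hK₀, h3, hh'] at h2
      simp only [Finset.univ_unique, Finset.sum_singleton, hh']
      push_cast
      linear_combination -2 * h2
    · -- equal
      have haa : K a a = (n : ℤ) + 1 := by rw [hy'] at hsum2; rw [hx'] at hsum2 ⊢; omega
      have hsq' : (w a * w c * K a c) * (w a * w c * K a c) = ((n : ℤ) + 1) * ((n : ℤ) + 1) := by
        have e : K a c * K a c = ((n : ℤ) + 1) * ((n : ℤ) + 1) := by
          rw [← hprod, hy', ← hx', haa]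
        calc _ = (w a * w a) * (w c * w c) * (K a c * K a c) := by ring
          _ = _ := by rw [wa2, wc2, e, one_mul, one_mul]
      rcases mul_self_eq_mul_self_iff.mp hsq' with e | e
      · have hu : ∀ y ∈ S, K a y = ((n : ℤ) + 1) * w a * q₁ y := fun y hy => by
          rw [hq₁]
          rcases hcases y hy with rfl | rfl | rfl | rfl | ⟨i, rfl⟩
          · rw [pa, haa]; linear_combination -((n : ℤ) + 1) * wa2
          · rw [pb]; rw [haa] at ea; linear_combination w y * ea - K a y * wb2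
          · rw [pc]
            linear_combination (w a * w y) * e - K a y * wa2 - (w a * w a * K a y) * wc2
          · rw [pd]
            linear_combination w y * ea' - K a y * wd2 - (w a * w y) * e + (w c * w y * K a c) * wa2
          · rw [pp, (hrow a haS).1 i]; ring
        refine ⟨1, 4, t, fun _ => q₂, rfl, mkFrame 1 4 _ (by norm_num) (Or.inl rfl)
          (fun _ _ => hqpm (Or.inr rfl) (Or.inr rfl) (Or.inl rfl)) (fun _ i' => hfp _ _ _ _ i')
          (fun _ => (hdotw _ _ _ _).trans (by norm_num)) (fun _ => (hdott _ _ _ _).trans (by norm_num))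
          (fun i i' => by rw [if_pos (Subsingleton.elim i i')]; exact (hdot _ _ _ _ _ _ _ _).trans (by norm_num))
          fun x hx y hy => ?_⟩
        have h1 := hr1 haS hx hy
        rw [haa, hu x hx, hu y hy] at h1
        have h2 : K x y = ((n : ℤ) + 1) * (q₁ x * q₁ y) := mul_left_cancel₀ (by omega : ((n : ℤ) + 1) ≠ 0) (by
          linear_combination h1 + (((n : ℤ) + 1) * ((n : ℤ) + 1) * q₁ x * q₁ y) * wa2)
        rw [← hpair x y] at h2
        simp only [hK₀] at h2
        simp only [Finset.univ_unique, Finset.sum_singleton, hh']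
        push_cast
        linear_combination -4 * h2
      · have hu : ∀ y ∈ S, K a y = ((n : ℤ) + 1) * w a * q₂ y := fun y hy => by
          rw [hq₂]
          rcases hcases y hy with rfl | rfl | rfl | rfl | ⟨i, rfl⟩
          · rw [ra, haa]; linear_combination -((n : ℤ) + 1) * wa2
          · rw [rb]; rw [haa] at ea; linear_combination w y * ea - K a y * wb2
          · rw [rc]
            linear_combination (w a * w y) * e - K a y * wa2 - (w a * w a * K a y) * wc2
          · rw [rd]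
            linear_combination w y * ea' - K a y * wd2 - (w a * w y) * e + (w c * w y * K a c) * wa2
          · rw [rp, (hrow a haS).1 i]; ring
        refine ⟨1, 4, t, fun _ => q₁, rfl, mkFrame 1 4 _ (by norm_num) (Or.inl rfl)
          (fun _ _ => hqpm (Or.inr rfl) (Or.inl rfl) (Or.inr rfl)) (fun _ i' => hfp _ _ _ _ i')
          (fun _ => (hdotw _ _ _ _).trans (by norm_num)) (fun _ => (hdott _ _ _ _).trans (by norm_num))
          (fun i i' => by rw [if_pos (Subsingleton.elim i i')]; exact (hdot _ _ _ _ _ _ _ _).trans (by norm_num))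
          fun x hx y hy => ?_⟩
        have h1 := hr1 haS hx hy
        rw [haa, hu x hx, hu y hy] at h1
        have h2 : K x y = ((n : ℤ) + 1) * (q₂ x * q₂ y) := mul_left_cancel₀ (by omega : ((n : ℤ) + 1) ≠ 0) (by
          linear_combination h1 + (((n : ℤ) + 1) * ((n : ℤ) + 1) * q₂ x * q₂ y) * wa2)
        rw [← hpair x y] at h2
        simp only [hK₀] at h2
        simp only [Finset.univ_unique, Finset.sum_singleton, hh']
        push_cast
        linear_combination -4 * h2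

end CfsgLib.QuatDefect
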