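import Cfsg.Agent.Lib.BlockArith.QuotientRank
import Cfsg.Agent.Lib.Blocks.Heights

/-!
# Defect groups of the block of `G ⧸ P`

* `blockCoeff_inflSet`: the idempotent of the block of `G ⧸ P`;
* `isDefectGroup_inflSet`: its defect groups are the images of those of the block of `G`;
* `blockHeight_inflSet`: inflation preserves heights;
* `sum_regular_lift`: regular elements correspond.
-/

set_option autoImplicit false

noncomputable section

namespace CfsgLib.QuatDefect

open Cfsg CfsgLib.Blocks CfsgLib.BlockArith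
open scoped ComplexConjugate

variable {M : Ideal AlgInt} [M.IsMaximal] {G : Type*} [Group G] [Fintype G] {p : ℕ} [hp : Fact p.Prime]
  {P : Subgroup G} [P.Normal] [Fintype (G ⧸ P)] {B : Set (IrrCharacter G)}

omit hp in
theorem blockCoeff_inflSet_sum (hB : IsPBlock M B) (hB' : IsPBlock M (inflSet P B)) (q : G ⧸ P)
    [DecidableEq (G ⧸ P)] :
    blockCoeff (inflSet P B) q = ∑ x : G, if (x : G ⧸ P) = q then blockCoeff B x else 0 := by
  classical
  set ebar : CA (G ⧸ P) := ofFun fun q => ∑ x : G, if (x : G ⧸ P) = q then blockCoeff B x else 0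
  have hcenter : ebar ∈ Subsemiring.center (CA (G ⧸ P)) := by
    rw [mem_center_iff]
    intro q w
    obtain ⟨u, rfl⟩ := QuotientGroup.mk_surjective w
    simp only [ebar, coeff_ofFun]
    refine Fintype.sum_equiv (MulAut.conj u⁻¹).toEquiv _ _ fun x => ?_
    have h1 : (MulAut.conj u⁻¹).toEquiv x = u⁻¹ * x * u := by simp
    rw [h1]
    refine if_congr ?_ ?_ rfl
    · rw [QuotientGroup.mk_mul, QuotientGroup.mk_mul, QuotientGroup.mk_inv]
      constructor
      · intro h; rw [h]; group
      · intro h; rw [← h]; group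
    · have := (mem_Zint_iff.mp (idem hB : Zint M G).2).2 x u⁻¹
      simp only [idem, blockElt, coeff_ofFun, inv_inv] at this
      exact this.symm
  have heq : ebar = ((idem hB' : Zint M (G ⧸ P)) : CA (G ⧸ P)) := by
    refine eq_of_omega_eq hcenter (Zint_center _) fun χ => ?_
    set η : IrrCharacter G := ⟨_, CfsgLib.CharNormal.isIrr_comp_mk' P χ.2⟩
    have h1 : charLin (χ : G ⧸ P → ℂ) ebar = charLin (η : G → ℂ) ((idem hB : Zint M G) : CA G) := by
      simp only [charLin_apply, ebar, coeff_ofFun, idem, blockElt, Finset.sum_mul, ite_mul, zero_mul]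
      rw [Finset.sum_comm]
      refine Finset.sum_congr rfl fun x _ => ?_
      rw [Finset.sum_ite_eq, if_pos (Finset.mem_univ _)]
      rfl
    have h2 : omega (χ : G ⧸ P → ℂ) ebar = omega (η : G → ℂ) ((idem hB : Zint M G) : CA G) := by
      rw [omega, omega, h1]
      rfl
    rw [h2, ← coe_zomega, zomega_idem hB, ← coe_zomega, zomega_idem hB']
    by_cases h : χ ∈ inflSet P B
    · rw [if_pos h, if_pos (show η ∈ B from h)]
    · rw [if_neg h, if_neg (show η ∉ B from h)]
  have h0 := congrArg (fun a : CA (G ⧸ P) => a.coeff q) heq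
  simp only [ebar, idem, blockElt, coeff_ofFun] at h0
  rw [← h0]

theorem blockCoeff_inflSet (hM : IsPModular p M) (hP : IsPGroup p P)
    (hC : ∃ k : ℕ, (Subgroup.centralizer (P : Set G)).index = p ^ k) (hB : IsPBlock M B) {y : G}
    (hy : ¬ p ∣ orderOf y) : blockCoeff (inflSet P B) (y : G ⧸ P) = blockCoeff B y := by
  classical
  rw [blockCoeff_inflSet_sum hB (isPBlock_inflSet hM hP hC hB), Finset.sum_eq_single y, if_pos rfl]
  · intro x _ hx
    split_ifs with he
    · refine blockCoeff_eq_zero hM hB ?_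
      by_contra hs
      exact hx (eq_of_mk_eq_of_regular hP hC hs hy he)
    · rfl
  · simp

omit [M.IsMaximal] [Fintype (G ⧸ P)] in
/-- The centraliser of the image of a regular element. -/
theorem centralizer_mk (hP : IsPGroup p P)
    (hC : ∃ k : ℕ, (Subgroup.centralizer (P : Set G)).index = p ^ k) {y : G} (hy : ¬ p ∣ orderOf y) :
    Subgroup.centralizer ({(y : G ⧸ P)} : Set (G ⧸ P)) =
      (Subgroup.centralizer ({y} : Set G)).map (QuotientGroup.mk' P) := by
  have hle : (Subgroup.centralizer ({y} : Set G)).map (QuotientGroup.mk' P) ≤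
      Subgroup.centralizer ({(y : G ⧸ P)} : Set (G ⧸ P)) := by
    rintro q ⟨w, hw, rfl⟩
    rw [SetLike.mem_coe, Subgroup.mem_centralizer_singleton_iff] at hw
    rw [Subgroup.mem_centralizer_singleton_iff]
    exact congrArg (QuotientGroup.mk' P) hw
  refine (Subgroup.eq_of_le_of_card_ge hle (le_of_eq ?_)).symm
  have h1 := Subgroup.card_mul_index ((Subgroup.centralizer ({y} : Set G)).map (QuotientGroup.mk' P))
  rw [Subgroup.index_map_eq _ (QuotientGroup.mk'_surjective P), ← index_centralizer_mk hP hC hy,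
    ← Subgroup.card_mul_index (Subgroup.centralizer ({(y : G ⧸ P)} : Set (G ⧸ P)))] at h1
  · exact (Nat.eq_of_mul_eq_mul_right (Nat.pos_of_ne_zero Subgroup.index_ne_zero_of_finite) h1).symm
  · rw [QuotientGroup.ker_mk']
    exact fun x hx => Subgroup.mem_centralizer_singleton_iff.mpr
      (Subgroup.mem_centralizer_iff.mp (mem_centralizer_of_regular hC hy) x hx)

theorem isDefectGroup_inflSet (hM : IsPModular p M) (hP : IsPGroup p P)
    (hC : ∃ k : ℕ, (Subgroup.centralizer (P : Set G)).index = p ^ k) (hB : IsPBlock M B) {D : Subgroup G}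
    (hD : IsDefectGroup p M B D) :
    IsDefectGroup p M (inflSet P B) (D.map (QuotientGroup.mk' P)) := by
  obtain ⟨y, hy, hyD⟩ := isDefectGroup_iff.mp hD
  have hyr := defectClass_pRegular hM hB hy
  obtain ⟨hy1, hy2, hy3⟩ := hy
  refine isDefectGroup_iff.mpr ⟨(y : G ⧸ P), ⟨?_, ?_, fun χ hχ => ?_⟩, ?_⟩
  · rwa [blockCoeff_inflSet hM hP hC hB hyr]
  · rwa [blockCoeff_inflSet hM hP hC hB hyr]
  · have h := hy3 ⟨_, CfsgLib.CharNormal.isIrr_comp_mk' P χ.2⟩ hχ
    convert h using 2
    simp only [centralChar, Function.comp_apply, index_centralizer_mk hP hC hyr, QuotientGroup.mk_one]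
  · obtain ⟨S, hS⟩ := hyD
    have hle : D.map (QuotientGroup.mk' P) ≤ Subgroup.centralizer ({(y : G ⧸ P)} : Set (G ⧸ P)) := by
      rw [centralizer_mk hP hC hyr]
      refine Subgroup.map_mono ?_
      rw [hS]
      exact Subgroup.map_subtype_le _
    have hDp : IsPGroup p D := IsDefectGroup.isPGroup hD
    have hsub : (D.map (QuotientGroup.mk' P)).subgroupOf (Subgroup.centralizer ({(y : G ⧸ P)} : Set (G ⧸ P))) =
        (D.map (QuotientGroup.mk' P)).subgroupOf _ := rfl
    have hp' : IsPGroup p ((D.map (QuotientGroup.mk' P)).subgroupOf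
        (Subgroup.centralizer ({(y : G ⧸ P)} : Set (G ⧸ P)))) :=
      (hDp.map _).of_equiv (Subgroup.subgroupOfEquivOfLe hle).symm
    have hidx : ¬ p ∣ ((D.map (QuotientGroup.mk' P)).subgroupOf
        (Subgroup.centralizer ({(y : G ⧸ P)} : Set (G ⧸ P)))).index := by
      refine fun hd => S.not_dvd_index (hd.trans ?_)
      rw [show (S : Subgroup (Subgroup.centralizer ({y} : Set G))) =
          D.subgroupOf (Subgroup.centralizer ({y} : Set G)) by
        rw [hS, Subgroup.subgroupOf, Subgroup.comap_map_eq_self_of_injective (Subgroup.subtype_injective _)]]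
      show Subgroup.relIndex _ (Subgroup.centralizer ({(y : G ⧸ P)} : Set (G ⧸ P))) ∣
        D.relIndex (Subgroup.centralizer ({y} : Set G))
      rw [centralizer_mk hP hC hyr, Subgroup.relIndex_map_map, QuotientGroup.ker_mk']
      refine dvd_trans (Subgroup.relIndex_dvd_of_le_left _ (le_sup_left : D ≤ D ⊔ P)) (dvd_of_eq ?_)
      rw [sup_eq_left.mpr fun x hx => Subgroup.mem_centralizer_singleton_iff.mpr
        (Subgroup.mem_centralizer_iff.mp (mem_centralizer_of_regular hC hyr) x hx)]
    refine ⟨hp'.toSylow hidx, ?_⟩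
    rw [IsPGroup.toSylow_coe, Subgroup.map_subgroupOf_eq_of_le hle]

/-- Inflation preserves heights. -/
theorem blockHeight_inflSet (hM : IsPModular p M) (hP : IsPGroup p P)
    (hC : ∃ k : ℕ, (Subgroup.centralizer (P : Set G)).index = p ^ k) (hB : IsPBlock M B)
    {ψ : IrrCharacter (G ⧸ P)} (hψ : ψ ∈ inflSet P B) :
    blockHeight p (inflSet P B) (ψ : G ⧸ P → ℂ) =
      blockHeight p B ((ψ : G ⧸ P → ℂ) ∘ QuotientGroup.mk) := by
  let η : IrrCharacter G := ⟨_, CfsgLib.CharNormal.isIrr_comp_mk' P ψ.2⟩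
  have e1 := degree_height hM (isPBlock_inflSet hM hP hC hB) hψ
  have e2 := degree_height hM hB (show η ∈ B from hψ)
  have e3 := blockDefect_inflSet hM hP hC hB
  have hcard : (Nat.card G).factorization p =
      (Nat.card (G ⧸ P)).factorization p + (Nat.card P).factorization p := by
    rw [Subgroup.card_eq_card_quotient_mul_card_subgroup P,
      Nat.factorization_mul Nat.card_pos.ne' Nat.card_pos.ne', Finsupp.add_apply]
  have e4 : charDegree (η : G → ℂ) = charDegree (ψ : G ⧸ P → ℂ) := charDegree_comp_mk _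
  rw [e4] at e2
  show _ = blockHeight p B (η : G → ℂ)
  omega

omit [M.IsMaximal] in
/-- Regular elements of `G ⧸ P` and of `G` correspond. -/
theorem sum_regular_lift (hP : IsPGroup p P)
    (hC : ∃ k : ℕ, (Subgroup.centralizer (P : Set G)).index = p ^ k) (F : G ⧸ P → ℂ) :
    ∑ g : G, (if p ∣ orderOf g then 0 else F (g : G ⧸ P)) =
      ∑ q : G ⧸ P, if p ∣ orderOf q then 0 else F q := by
  classical
  choose lift hlift1 hlift2 using fun q : {q : G ⧸ P // ¬ p ∣ orderOf q} => exists_regular_lift q.1 q.2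
  have hreg : ∀ g : G, ¬ p ∣ orderOf g → ¬ p ∣ orderOf (g : G ⧸ P) := fun g hg hd =>
    hg (hd.trans (orderOf_map_dvd (QuotientGroup.mk' P) g))
  simp only [Finset.sum_ite, Finset.sum_const_zero, zero_add]
  refine Finset.sum_bij (fun g _ => (g : G ⧸ P)) (fun g hg => ?_) (fun a ha b hb hab => ?_)
    (fun q hq => ?_) fun g _ => rfl
  · exact Finset.mem_filter.mpr ⟨Finset.mem_univ _, hreg g (Finset.mem_filter.mp hg).2⟩
  · exact eq_of_mk_eq_of_regular hP hC (Finset.mem_filter.mp ha).2 (Finset.mem_filter.mp hb).2 hab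
  · exact ⟨lift ⟨q, (Finset.mem_filter.mp hq).2⟩,
      Finset.mem_filter.mpr ⟨Finset.mem_univ _, hlift1 _⟩, hlift2 ⟨q, (Finset.mem_filter.mp hq).2⟩⟩

end CfsgLib.QuatDefect
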