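import Cfsg.Agent.Lib.Blocks.QuatDefect.Group
import Cfsg.Agent.Lib.Blocks.QuatDefect.Quotient
import Cfsg.Agent.Lib.Blocks.QuatDefect.QuotComb
import Cfsg.Agent.Lib.BlockArith.DihDefect.Main
import Cfsg.Agent.Lib.BlockArith.CyclicQuotientBound
import Cfsg.Agent.Lib.BlockArith.KleinDefect

/-!
# The block of the quotient by the central involution

* `mapEquiv`: the image of the defect group is dihedral;
* `sum_blockMat_eq_zero`, `sum_blockMat_mul_char`: the block matrix and the regular parts;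
* `exists_frame`: the shape of the block matrix of the quotient.
-/

set_option autoImplicit false

noncomputable section

open scoped Classical

namespace CfsgLib.QuatDefect

open Cfsg CfsgLib.Blocks CfsgLib.BlockArith CfsgLib.Char CfsgLib.BrauerPairs CfsgLib.NilBlock
open scoped ComplexConjugate

universe u

section general

variable {G : Type*} [Group G] [Fintype G] {p : ℕ} [hp : Fact p.Prime] {M : Ideal AlgInt} [M.IsMaximal]
  {B : Set (IrrCharacter G)}

theorem blockMat_eq_zero_of_notMem {χ ψ : IrrCharacter G} (h : ψ ∉ B) : blockMat p B χ ψ = 0 := by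
  rw [blockMat, if_neg fun h' => h h'.2]

theorem sum_bset_blockMat_mul (hM : IsPModular p M) (hB : IsPBlock M B) {χ η : IrrCharacter G}
    (hχ : χ ∈ B) (hη : η ∈ B) :
    ∑ ψ ∈ bset B, blockMat p B χ ψ * blockMat p B ψ η = (p : ℤ) ^ blockDefect p B * blockMat p B χ η := by
  rw [← blockMat_sum_mul hM hB hχ hη]
  refine Finset.sum_subset (Finset.subset_univ _) fun ψ _ hψ => ?_
  rw [blockMat_eq_zero_of_notMem (fun h => hψ (mem_bset.mpr h)), zero_mul]

/-- A relation between the regular parts is killed by the block matrix. -/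
theorem sum_blockMat_eq_zero (hM : IsPModular p M) (hB : IsPBlock M B) (f : IrrCharacter G → ℤ)
    (hf : ∀ g : G, ¬ p ∣ orderOf g → ∑ ψ ∈ bset B, (ψ : G → ℂ) g * (f ψ : ℂ) = 0) {χ : IrrCharacter G}
    (hχ : χ ∈ B) : ∑ ψ ∈ bset B, blockMat p B χ ψ * f ψ = 0 := by
  have hq : ((p : ℤ) ^ ((Nat.card G).factorization p - blockDefect p B)) ≠ 0 :=
    pow_ne_zero _ (by exact_mod_cast hp.out.ne_zero)
  refine (mul_eq_zero.mp ?_).resolve_left hq
  rw [Finset.mul_sum, Finset.sum_congr rfl fun ψ _ => by rw [← mul_assoc, blockMat_mul hM hB hχ]]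
  have h1 : (Nat.card G : ℂ) * ((∑ ψ ∈ bset B, regCoef p χ ψ * f ψ : ℤ) : ℂ) = 0 := by
    push_cast
    rw [Finset.mul_sum]
    simp only [← mul_assoc, card_mul_regCoef]
    simp only [Finset.mul_sum, Finset.sum_mul]
    rw [Finset.sum_comm]
    refine Finset.sum_eq_zero fun g _ => ?_
    by_cases hg : p ∣ orderOf g
    · simp [hg]
    · simp only [if_neg hg]
      calc _ = ((p ^ (Nat.card G).factorization p : ℕ) : ℂ) * (χ : G → ℂ) g *
            conj (∑ ψ ∈ bset B, (ψ : G → ℂ) g * (f ψ : ℂ)) := by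
            rw [map_sum, Finset.mul_sum]
            refine Finset.sum_congr rfl fun ψ _ => ?_
            rw [map_mul, map_intCast]
            push_cast
            ring
        _ = 0 := by rw [hf g hg, map_zero, mul_zero]
  exact_mod_cast (mul_eq_zero.mp h1).resolve_left CfsgLib.Char.card_ne_zero'

/-- The block matrix applied to the members. -/
theorem sum_blockMat_mul_char (hM : IsPModular p M) (hB : IsPBlock M B) {χ : IrrCharacter G} (hχ : χ ∈ B)
    (g : G) : ∑ ψ ∈ bset B, (blockMat p B χ ψ : ℂ) * (ψ : G → ℂ) g =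
      if p ∣ orderOf g then 0 else ((p ^ blockDefect p B : ℕ) : ℂ) * (χ : G → ℂ) g := by
  set q := (Nat.card G).factorization p - blockDefect p B
  have hq : ((p : ℂ) ^ q) ≠ 0 := pow_ne_zero _ (by exact_mod_cast hp.out.ne_zero)
  refine mul_left_cancel₀ hq ?_
  have h1 := congrFun (paReg_eq_sum (p := p) χ) g
  simp only [Finset.sum_apply, Pi.smul_apply, smul_eq_mul] at h1
  have h2 : (p : ℂ) ^ q * ∑ ψ ∈ bset B, (blockMat p B χ ψ : ℂ) * (ψ : G → ℂ) g =
      ∑ ψ : IrrCharacter G, (regCoef p χ ψ : ℂ) * (ψ : G → ℂ) g := by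
    rw [Finset.mul_sum, Finset.sum_subset (Finset.subset_univ (bset B)) fun ψ _ hψ => by
      rw [blockMat_eq_zero_of_notMem (fun h => hψ (mem_bset.mpr h))]; simp]
    refine Finset.sum_congr rfl fun ψ _ => ?_
    rw [← blockMat_mul hM hB hχ]
    push_cast
    ring
  rw [h2, ← h1, paReg]
  split_ifs
  · ring
  · have : (Nat.card G).factorization p = q + blockDefect p B := (Nat.sub_add_cancel blockDefect_le).symm
    rw [this, pow_add]
    push_cast
    ring

theorem sum_bset_blockMat_self (hM : IsPModular p M) (hB : IsPBlock M B) :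
    ∑ i ∈ bset B, blockMat p B i i = ((p ^ blockDefect p B : ℕ) : ℤ) * (blockRank p B : ℤ) := by
  have h := CfsgLib.CycQuotBound.sum_blockMat_self (p := p) hM hB
  rw [Finset.sum_congr (s₂ := bset B) (by ext; simp) fun _ _ => rfl] at h
  apply Int.cast_injective (α := ℂ)
  push_cast at h ⊢
  exact h

end general

variable {G : Type u} [Group G] [Fintype G] {M : Ideal AlgInt} [M.IsMaximal] {h : ℕ}
  {D : Subgroup G} {ι : QuaternionGroup h →* G}

theorem mem_zpowers_zz (d : QData D ι) {y : G} (hy : y ∈ Subgroup.zpowers (zz ι)) : y = 1 ∨ y = zz ι := by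
  refine d.eq_one_or_zz (Subgroup.zpowers_le.mpr d.zz_mem hy) ?_
  obtain ⟨i, rfl⟩ := Subgroup.mem_zpowers_iff.mp hy
  rw [← zpow_add, ← two_mul, zpow_mul, zpow_two, d.zz_sq, one_zpow]

variable [(Subgroup.zpowers (zz ι)).Normal]

/-- The image of the defect group is dihedral. -/
theorem exists_mapEquiv (d : QData D ι) :
    Nonempty (D.map (QuotientGroup.mk' (Subgroup.zpowers (zz ι))) ≃* DihedralGroup h) := by
  have := d.neZero
  set π := (QuotientGroup.mk' (Subgroup.zpowers (zz ι))).comp ι with hπ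
  have hr : π.range = D.map (QuotientGroup.mk' (Subgroup.zpowers (zz ι))) := by
    rw [hπ, MonoidHom.range_comp, d.range]
  have hk : π.ker = (toDihedral h).ker := by
    ext x
    rw [MonoidHom.mem_ker, MonoidHom.mem_ker, toDihedral_eq_one_iff, hπ, MonoidHom.comp_apply,
      QuotientGroup.mk'_apply, QuotientGroup.eq_one_iff]
    constructor
    · intro hx
      rcases mem_zpowers_zz d hx with e | e
      · exact Or.inl (d.inj (by rw [e, map_one]))
      · exact Or.inr (d.inj e)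
    · rintro (rfl | rfl)
      · rw [map_one]; exact one_mem _
      · exact Subgroup.mem_zpowers _
  exact ⟨(MulEquiv.subgroupCongr hr).symm.trans ((QuotientGroup.quotientKerEquivRange π).symm.trans
    ((QuotientGroup.quotientMulEquivOfEq hk).trans
      (QuotientGroup.quotientKerEquivOfSurjective (toDihedral h) toDihedral_surjective)))⟩

variable [Fintype (G ⧸ Subgroup.zpowers (zz ι))] {b : Set (IrrCharacter G)}

set_option maxHeartbeats 1000000 in
/-- **The shape of the block of the quotient.** -/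
theorem exists_frame (hM : IsPModular 2 M) (hb : IsPBlock M b) (hD : IsDefectGroup 2 M b D) (d : QData D ι)
    (hz : zz ι ∈ Subgroup.center G) :
    2 ^ blockDefect 2 (inflSet (Subgroup.zpowers (zz ι)) b) = 2 * h ∧
    ∃ (j ν : ℕ) (w t : IrrCharacter (G ⧸ Subgroup.zpowers (zz ι)) → ℤ)
      (q : Fin j → IrrCharacter (G ⧸ Subgroup.zpowers (zz ι)) → ℤ),
      blockRank 2 b = j + 1 ∧
      Frame (bset (inflSet (Subgroup.zpowers (zz ι)) b))
        (blockMat 2 (inflSet (Subgroup.zpowers (zz ι)) b)) h j ν w t q ∧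
      ∀ χ ∈ inflSet (Subgroup.zpowers (zz ι)) b,
        (blockHeight 2 (inflSet (Subgroup.zpowers (zz ι)) b)
          (χ : G ⧸ Subgroup.zpowers (zz ι) → ℂ) = 0 ↔ w χ ≠ 0) := by
  have : Fact (Nat.Prime 2) := ⟨Nat.prime_two⟩
  have hP : IsPGroup 2 (Subgroup.zpowers (zz ι)) := d.isPGroup.to_le (Subgroup.zpowers_le.mpr d.zz_mem)
  have hC : ∃ k : ℕ, (Subgroup.centralizer ((Subgroup.zpowers (zz ι)) : Set G)).index = 2 ^ k :=
    centralizer_central_index (Subgroup.zpowers_le.mpr hz)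
  set b' := inflSet (Subgroup.zpowers (zz ι)) b with hb'def
  have hb' : IsPBlock M b' := isPBlock_inflSet hM hP hC hb
  have hD' : IsDefectGroup 2 M b' (D.map (QuotientGroup.mk' (Subgroup.zpowers (zz ι)))) := isDefectGroup_inflSet hM hP hC hb hD
  obtain ⟨ε⟩ := exists_mapEquiv d
  have hcard' : Nat.card (D.map (QuotientGroup.mk' (Subgroup.zpowers (zz ι)))) = 2 * h := by
    rw [Nat.card_congr ε.toEquiv, DihedralGroup.nat_card]
  have hdef : 2 ^ blockDefect 2 b' = 2 * h := (card_defectGroup hM hb' hD').symm.trans hcard'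
  refine ⟨hdef, ?_⟩
  have hrk : blockRank 2 b = blockRank 2 b' := blockRank_inflSet hM hP hC hb
  set S := bset b' with hS
  set N := blockMat 2 b' with hN
  have hsym : ∀ x y, N x y = N y x := fun x y => blockMat_symm x y
  have hdefZ : ((2 : ℕ) : ℤ) ^ blockDefect 2 b' = 2 * (h : ℤ) := by exact_mod_cast hdef
  have hsq : ∀ x ∈ S, ∀ z ∈ S, ∑ y ∈ S, N x y * N y z = 2 * (h : ℤ) * N x z := fun x hx z hz => by
    rw [← hdefZ]; exact sum_bset_blockMat_mul hM hb' (mem_bset.mp hx) (mem_bset.mp hz)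
  have htr : ∑ x ∈ S, N x x = 2 * (h : ℤ) * (blockRank 2 b' : ℤ) := by
    rw [hS, hN, sum_bset_blockMat_self hM hb', hdef]; push_cast; ring
  have hodd : ∀ x ∈ S, (Odd (N x x) ↔ blockHeight 2 b' (x : G ⧸ (Subgroup.zpowers (zz ι)) → ℂ) = 0) := fun x hx => by
    constructor
    · intro ho
      by_contra hne
      have h1 := pow_height_dvd_blockMat (p := 2) hM hb' (mem_bset.mp hx) x
      refine Int.not_even_iff_odd.mpr ho (even_iff_two_dvd.mpr ((dvd_pow_self (2 : ℤ) hne).trans ?_))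
      exact_mod_cast h1
    · intro h0
      rw [← Int.not_even_iff_odd, even_iff_two_dvd]
      intro hd
      refine (not_dvd_blockMat_iff (p := 2) hM hb' (mem_bset.mp hx) (mem_bset.mp hx)).mpr h0 ?_
      rw [h0, zero_add, pow_one]
      exact_mod_cast hd
  obtain ⟨k, hk⟩ := d.pow
  rcases (show k = 1 ∨ 2 ≤ k by
    rcases k with _ | _ | k
    · have := d.two_le; rw [hk] at this; norm_num at this
    · exact Or.inl rfl
    · right; omega) with rfl | hk2
  · -- a four group
    have hh : h = 2 := by rw [hk, pow_one]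
    subst hh
    have hV : IsKleinFour (D.map (QuotientGroup.mk' (Subgroup.zpowers (zz ι)))) :=
      { card_four := by rw [hcard']
        exponent_two := by rw [Monoid.exponent_eq_of_mulEquiv ε]; exact IsKleinFour.exponent_two }
    obtain ⟨e', hmax'⟩ := exists_maximal_at hM hb' hD'
    obtain ⟨he, hk4, hl⟩ := klein_counts hM hmax' hV
    have hS4 : S.card = 4 := by
      rw [← hk4, ← Nat.card_eq_finsetCard]
      exact Nat.card_congr (Equiv.subtypeEquivRight fun χ => by simp [hS])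
    have hh0 : ∀ x ∈ b', blockHeight 2 b' (x : G ⧸ (Subgroup.zpowers (zz ι)) → ℂ) = 0 := fun x hx => by
      by_contra hne
      have h1 := height_le (p := 2) hM hb' hx hne
      have : blockDefect 2 b' = 2 := Nat.pow_right_injective le_rfl (show 2 ^ blockDefect 2 b' = 2 ^ 2 by rw [hdef])
      omega
    obtain ⟨j, w, t, q, hj, hF⟩ := frame_of_four (N := N) hS4 (l := blockRank 2 b') (by rw [hl]; exact he)
      hsym (fun x hx z hz => by rw [hsq x hx z hz]; norm_num) (by rw [htr]; norm_num)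
      (fun x hx => (hodd x hx).mpr (hh0 x (mem_bset.mp hx)))
    refine ⟨j, 4, w, t, q, hrk.trans hj, ?_, fun χ hχ => iff_of_true (hh0 χ hχ) fun e => ?_⟩
    · exact hF
    have h1 := hF.w_card
    have h2 : (S.filter fun x => w x ≠ 0).card < S.card :=
      Finset.card_lt_card (Finset.filter_ssubset.mpr ⟨χ, mem_bset.mpr hχ, fun h' => h' e⟩)
    omega
  · -- a dihedral group
    obtain ⟨k', rfl⟩ : ∃ k', k = k' + 1 := ⟨k - 1, by omega⟩
    obtain ⟨e', hmax'⟩ := exists_maximal_at hM hb' hD'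
    subst hk
    obtain ⟨hkc, hl1, hl3, hz4, hht⟩ :=
      CfsgLib.DihDefect.dihedral_defect_invariants hM hb' hD' (k := k') (by omega) ε
    set κ : DihedralGroup (2 ^ (k' + 1)) →* G ⧸ (Subgroup.zpowers (zz ι)) :=
      (D.map (QuotientGroup.mk' (Subgroup.zpowers (zz ι)))).subtype.comp ε.symm.toMonoidHom with hκ
    have dd : CfsgLib.DihDefect.DData (D.map (QuotientGroup.mk' (Subgroup.zpowers (zz ι)))) κ (2 ^ k') :=
      { inj := (Subgroup.subtype_injective _).comp ε.symm.injective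
        range := by
          ext x
          refine ⟨?_, fun hx => ⟨ε ⟨x, hx⟩, ?_⟩⟩
          · rintro ⟨y, rfl⟩
            exact (ε.symm y).2
          · simp [hκ]
        hm := by rw [pow_succ]; ring
        hpos := Nat.pos_of_ne_zero (pow_ne_zero _ two_ne_zero)
        even := Nat.even_pow.mpr ⟨even_two, by omega⟩
        pow := ⟨k' + 1, rfl⟩ }
    obtain ⟨R, hR⟩ := CfsgLib.DihDefect.exists_rotRows hM hmax' dd
    have := dd.neZero
    set ψ : AddChar (ZMod (2 ^ (k' + 1))) ℂ := ZMod.stdAddChar with hψdef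
    have hψ : ψ.IsPrimitive := ZMod.isPrimitive_stdAddChar _
    choose u hu using fun χ i => hR.int ψ χ i
    obtain ⟨hh0, hnh, hidx⟩ := CfsgLib.DihDefect.idx_facts dd
    have hgram : ∀ i i' : ZMod (2 ^ (k' + 1)), i ≠ 0 → i' ≠ 0 → ∑ χ ∈ S, u χ i * u χ i' =
        (if i = i' then 1 else 0) + (if i = -i' then 1 else 0) + 2 := fun i i' hi hi' => by
      have hg := CfsgLib.DihDefect.coef_gram hψ S R hR.orth hi hi'
      simp only [hu, map_intCast] at hg
      exact_mod_cast hg
    set n := 2 ^ k' - 1 with hndef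
    set v : Fin n → IrrCharacter (G ⧸ (Subgroup.zpowers (zz ι))) → ℤ := fun i χ => u χ (CfsgLib.DihDefect.idx _ i) with hv
    set w : IrrCharacter (G ⧸ (Subgroup.zpowers (zz ι))) → ℤ := fun χ => u χ ((2 ^ k' : ℕ) : ZMod (2 ^ (k' + 1))) with hw
    set f : IrrCharacter (G ⧸ (Subgroup.zpowers (zz ι))) → ℤ := fun χ => w χ + 2 * ∑ i : Fin n, (-1) ^ ((i : ℕ) + 1) * v i χ with hf
    have hfR : ∀ χ, R χ ((2 ^ k' : ℕ) : ZMod (2 ^ (k' + 1))) = (f χ : ℂ) :=
      CfsgLib.DihDefect.zval_eq dd hψ hR hu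
    obtain ⟨bz, vz, hle, hind, hdf, hnorm, hval, -⟩ := hR.sec _ hh0
    have hdB : blockDefect 2 bz = blockDefect 2 b' := by
      rw [if_pos rfl] at hdf
      refine Nat.pow_right_injective le_rfl ?_
      show 2 ^ blockDefect 2 bz = 2 ^ blockDefect 2 b'
      rw [hdf, hdef]
    obtain ⟨hfodd, hdvd⟩ := CfsgLib.DihDefect.height_facts hM (cen_zpowers _)
      (exists_pow_of_mem hmax'.1.1.1 (dd.mem _)) hind hdB f
      (fun χ η => by rw [hR.ctr_eq hnorm hval, hfR, hfR])
    obtain ⟨χ₀, hχ₀, hh₀⟩ := exists_height_zero (p := 2) hM hb'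
    have hpar : ∀ χ, Odd (f χ) ↔ Odd (w χ) := fun χ => by
      simp [hf, parity_simps]
    have hvv' : ∀ i i', ∑ χ ∈ S, v i χ * v i' χ = if i = i' then 3 else 2 := fun i i' => by
      show ∑ χ ∈ S, u χ (CfsgLib.DihDefect.idx _ i) * u χ (CfsgLib.DihDefect.idx _ i') = _
      rw [hgram _ _ (hidx i).1 (hidx i').1, if_neg ((hidx i).2.2.2 i').2]
      by_cases hij : i = i'
      · subst hij; simp
      · rw [if_neg fun e => hij (((hidx i).2.2.2 i').1.mp e), if_neg hij]; norm_num
    have hvw : ∀ i, ∑ χ ∈ S, v i χ * w χ = 2 := fun i => by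
      show ∑ χ ∈ S, u χ (CfsgLib.DihDefect.idx _ i) * u χ ((2 ^ k' : ℕ) : ZMod (2 ^ (k' + 1))) = _
      rw [hgram _ _ (hidx i).1 hh0, if_neg (hidx i).2.1, if_neg (hidx i).2.2.1]; norm_num
    obtain ⟨hw1, hw4, hshape⟩ := CfsgLib.DihDefect.shapes S (t := n)
      ⟨2 ^ (k' - 1) - 1, by
        obtain ⟨k'', rfl⟩ : ∃ k'', k' = k'' + 1 := ⟨k' - 1, by omega⟩
        have := Nat.one_le_two_pow (n := k'')
        rw [hndef, pow_succ, Nat.add_sub_cancel]; omega⟩ v w hvv' hvw
      (by
        show ∑ χ ∈ S, u χ ((2 ^ k' : ℕ) : ZMod (2 ^ (k' + 1))) * u χ ((2 ^ k' : ℕ) : ZMod (2 ^ (k' + 1))) = _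
        rw [hgram _ _ hh0 hh0, hnh, if_pos rfl]; norm_num)
      ⟨χ₀, mem_bset.mpr hχ₀, (hpar χ₀).mp (hfodd χ₀ hχ₀ hh₀)⟩
      (fun χ hχ => by
        by_contra hno
        push Not at hno
        refine (hdvd χ₀ hχ₀ hh₀ χ (mem_bset.mp hχ)).1 ?_
        show w χ + 2 * ∑ i : Fin n, (-1) ^ ((i : ℕ) + 1) * v i χ = 0
        simp [hno.1, hno.2])
    rcases hshape with ⟨hcS, hflower⟩ | ⟨ht, hE⟩
    swap
    · exfalso
      obtain rfl : k' = 2 := Nat.pow_right_injective le_rfl (show 2 ^ k' = 2 ^ 2 by omega)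
      exact CfsgLib.DihDefect.no_exceptional hM hmax' dd hR hψ hu hE
    have hh0iff : ∀ χ ∈ b', (blockHeight 2 b' (χ : G ⧸ (Subgroup.zpowers (zz ι)) → ℂ) = 0 ↔ w χ ≠ 0) := fun χ hχ => by
      refine ⟨fun h0 e => ?_, fun hne => ?_⟩
      · obtain ⟨r, hr⟩ := (hpar χ).mp (hfodd χ hχ h0)
        omega
      · by_contra hne0
        have h1 : (2 : ℤ) ∣ f χ₀ * f χ :=
          (Dvd.dvd.trans (by exact_mod_cast dvd_pow_self 2 hne0)) (hdvd χ₀ hχ₀ hh₀ χ hχ).2
        refine Int.not_even_iff_odd.mpr ((hfodd χ₀ hχ₀ hh₀).mul ((hpar χ).mpr ?_)) (even_iff_two_dvd.mpr h1)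
        rcases (hw1 χ (mem_bset.mpr hχ)).resolve_left hne with e | e <;> rw [e]
        · exact odd_one
        · exact odd_neg.mpr odd_one
    have hker : ∀ i, ∀ x ∈ S, ∑ y ∈ S, N x y * u y i = 0 := fun i x hx => by
      refine sum_blockMat_eq_zero hM hb' (fun y => u y i) (fun g hg => ?_) (mem_bset.mp hx)
      simp only [← hu, CfsgLib.DihDefect.coef, Finset.mul_sum]
      rw [Finset.sum_comm]
      refine Finset.sum_eq_zero fun l _ => ?_
      by_cases hl : l = 0
      · simp [hl]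
      · calc _ = ((2 ^ (k' + 1) : ℕ) : ℂ)⁻¹ * (ψ (-(i * l)) - 1) *
              ∑ χ ∈ S, (χ : G ⧸ (Subgroup.zpowers (zz ι)) → ℂ) g * R χ l := by
              rw [Finset.mul_sum]
              exact Finset.sum_congr rfl fun χ _ => by ring
          _ = 0 := by rw [hR.reg l hl g hg, mul_zero]
    have hn1 : 1 ≤ n := by
      have : 2 ≤ 2 ^ k' := Nat.le_self_pow (by omega) 2
      omega
    obtain ⟨j, ν, t, q, hj, hF⟩ := frame_of_flower (S := S) (N := N) (h := 2 ^ (k' + 1)) (n := n) (k := k' + 1)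
      (l := blockRank 2 b') (by have := Nat.one_le_two_pow (n := k'); rw [hndef, pow_succ]; omega) rfl hn1 hl1 hl3
      hw1 hw4 (by rw [hcS]) hflower hvv' hvw hsym hsq htr (hker _) (fun x hx i => hker _ x hx)
      (fun x hx hx0 => (hodd x hx).mpr ((hh0iff x (mem_bset.mp hx)).mpr hx0))
      (fun x hx hx0 => Int.not_odd_iff_even.mp fun ho =>
        (hh0iff x (mem_bset.mp hx)).mp ((hodd x hx).mp ho) hx0)
      (fun x hx y hy hx0 hy0 => by
        have hy1 : blockHeight 2 b' (y : G ⧸ (Subgroup.zpowers (zz ι)) → ℂ) = 1 := by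
          have h1 := hht y (mem_bset.mp hy)
          have h2 : blockHeight 2 b' (y : G ⧸ (Subgroup.zpowers (zz ι)) → ℂ) ≠ 0 := fun e => (hh0iff y (mem_bset.mp hy)).mp e hy0
          omega
        have h3 := pow_height_dvd_blockMat (p := 2) hM hb' (mem_bset.mp hy) x
        have h4 := (not_dvd_blockMat_iff (p := 2) hM hb' (mem_bset.mp hy) (mem_bset.mp hx)).mpr
          ((hh0iff x (mem_bset.mp hx)).mpr hx0)
        rw [hy1] at h3 h4
        rw [hsym x y]
        refine ⟨even_iff_two_dvd.mpr (by exact_mod_cast h3), fun h5 => h4 ?_⟩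
        exact_mod_cast h5)
    refine ⟨j, ν, w, t, q, hrk.trans hj, ?_, hh0iff⟩
    exact hF

end CfsgLib.QuatDefect
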