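import Cfsg.Agent.Lib.Blocks.QuatDefect.Group
import Cfsg.Agent.Lib.BlockArith.DihDefect.Local
import Cfsg.Agent.Lib.Blocks.SectionOrth

/-!
# Sections of the elements of the cyclic half of a quaternion defect group

* `rot_fusion`: elements with conjugate subpairs are equal or inverse;
* `exists_section_vectors`: orthogonal vectors on the members negative at the central involution.
-/

set_option autoImplicit false

noncomputable section

open scoped Classical

namespace CfsgLib.QuatDefect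

open Cfsg CfsgLib.Blocks CfsgLib.BlockArith CfsgLib.Char CfsgLib.BrauerPairs CfsgLib.NilBlock
open QuaternionGroup
open scoped ComplexConjugate

universe u

variable {h : ℕ}

/-- The cyclic half. -/
def aHom {G : Type*} [Group G] (ι : QuaternionGroup h →* G) : Multiplicative (ZMod (2 * h)) →* G :=
  MonoidHom.mk' (fun i => ι (a i.toAdd)) fun x y => by rw [← map_mul, a_mul_a]; rfl

/-- Equal orders in the cyclic half give equal subgroups. -/
theorem zpowers_a_eq {G : Type*} [Group G] {D : Subgroup G} {ι : QuaternionGroup h →* G} (d : QData D ι)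
    {l l' : ZMod (2 * h)} (ho : orderOf (ι (a l')) = orderOf (ι (a l))) :
    Subgroup.zpowers (ι (a l')) = Subgroup.zpowers (ι (a l)) := by
  have := d.neZero
  have : IsCyclic (aHom ι).range := isCyclic_of_surjective _ (aHom ι).rangeRestrict_surjective
  have : Finite (aHom ι).range := Finite.of_surjective _ (aHom ι).rangeRestrict_surjective
  have := Fintype.ofFinite (aHom ι).range
  set x : (aHom ι).range := ⟨_, ⟨Multiplicative.ofAdd l, rfl⟩⟩ with hx
  set y : (aHom ι).range := ⟨_, ⟨Multiplicative.ofAdd l', rfl⟩⟩ with hy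
  set n := orderOf (ι (a l)) with hn
  have hox : orderOf x = n := Subgroup.orderOf_mk _ _
  have hoy : orderOf y = n := (Subgroup.orderOf_mk _ _).trans ho
  suffices hs : Subgroup.zpowers y = Subgroup.zpowers x by
    have := congrArg (Subgroup.map (aHom ι).range.subtype) hs
    rwa [MonoidHom.map_zpowers, MonoidHom.map_zpowers] at this
  have hpos : 0 < n := hox ▸ orderOf_pos x
  have hsub : ∀ c : (aHom ι).range, orderOf c = n → (Subgroup.zpowers c : Set (aHom ι).range).toFinset =
      Finset.univ.filter fun x => x ^ n = 1 := fun c hc => by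
    refine Finset.eq_of_subset_of_card_le (fun w hw => ?_) ?_
    · rw [Set.mem_toFinset, SetLike.mem_coe] at hw
      refine Finset.mem_filter.mpr ⟨Finset.mem_univ _, orderOf_dvd_iff_pow_eq_one.mp ?_⟩
      rw [← hc]
      exact orderOf_dvd_of_mem_zpowers hw
    · refine (IsCyclic.card_pow_eq_one_le hpos).trans_eq ?_
      rw [Set.toFinset_card, ← Nat.card_eq_fintype_card]
      exact (Nat.card_zpowers c).trans hc |>.symm
  exact SetLike.coe_injective (Set.toFinset_inj.mp ((hsub y hoy).trans (hsub x hox).symm))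

variable {G : Type u} [Group G] [Fintype G] {M : Ideal AlgInt} [M.IsMaximal] [hp : Fact (Nat.Prime 2)]
  {B : Set (IrrCharacter G)} {D : Subgroup G} {e : Set (IrrCharacter (Cen D))}
  {ι : QuaternionGroup h →* G}

/-- **Elements of the cyclic half with conjugate subpairs are equal or inverse.** -/
theorem rot_fusion (hM : IsPModular 2 M) (hmax : IsMaximalBrauerPair 2 M B D e) (d : QData D ι)
    {l l' : ZMod (2 * h)} {A A' : BrauerPairIdx G} (hA : A.1 = Subgroup.zpowers (ι (a l)))
    (hA' : A'.1 = Subgroup.zpowers (ι (a l'))) (hle : Relation.ReflTransGen (NormalSubpairRel 2 M) A ⟨D, e⟩)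
    (hle' : Relation.ReflTransGen (NormalSubpairRel 2 M) A' ⟨D, e⟩) {g : G}
    (hg : g * ι (a l') * g⁻¹ = ι (a l)) (hgA : cjPair g A' = A) : l' = l ∨ l' = -l := by
  have hP := hmax.1.1
  have hQ : Subgroup.zpowers (ι (a l')) = Subgroup.zpowers (ι (a l)) :=
    zpowers_a_eq d (by rw [← hg]; exact (SemiconjBy.conj_mk g (ι (a l'))).orderOf_eq)
  rw [pair_eq_of_le hM hP hle' hle (by rw [hA', hA, hQ])] at hgA
  obtain ⟨Q, b⟩ := A
  dsimp only at hA
  subst hA
  have hgs : g ∈ stab M (Subgroup.zpowers (ι (a l))) b := by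
    refine ⟨Subgroup.mem_normalizer_iff_map_conj_eq.mpr (congrArg Sigma.fst hgA), ?_⟩
    show cjA g (pid M (⟨Subgroup.zpowers (ι (a l)), b⟩ : BrauerPairIdx G)) =
      pid M (⟨Subgroup.zpowers (ι (a l)), b⟩ : BrauerPairIdx G)
    rw [← pid_cjPair, hgA]
  have hconj : ∀ w : QuaternionGroup h,
      w * a l * w⁻¹ = a l ∨ w * a l * w⁻¹ = (a l)⁻¹ := by
    rintro (i | i)
    · left; rw [a_inv, a_mul_a, a_mul_a]; congr 1; ring
    · right
      rw [xa_inv, xa_mul_a, xa_mul_xa, a_inv]
      congr 1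
      linear_combination (half_add_half (h := h))
  have hDN : D ≤ Subgroup.normalizer ((Subgroup.zpowers (ι (a l)) : Subgroup G) : Set G) := by
    intro y hy
    obtain ⟨w, rfl⟩ := d.surj hy
    rw [Subgroup.mem_normalizer_iff_map_conj_eq]
    show (Subgroup.zpowers (ι (a l))).map (MulAut.conj (ι w)).toMonoidHom = Subgroup.zpowers (ι (a l))
    rw [map_conj_zpowers, ← map_inv, ← map_mul, ← map_mul]
    rcases hconj w with e | e <;> rw [e]
    rw [map_inv]
    exact Subgroup.zpowers_inv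
  have hfn : (blockFusion hM hmax).IsFullyNormalized (Subgroup.zpowers (ι (a l))) :=
    ⟨Subgroup.zpowers_le.mpr (d.mem _), fun Q' _ => by
      show Nat.card (D ⊓ _ : Subgroup G) ≤ Nat.card (D ⊓ _ : Subgroup G)
      rw [inf_eq_left.mpr hDN]; exact Subgroup.card_le_of_le inf_le_left⟩
  have hcyc : ∀ y ∈ stab M (Subgroup.zpowers (ι (a l))) b, IsPRegular 2 y →
      y ∈ Cen (Subgroup.zpowers (ι (a l))) :=
    fun y hy hr => CfsgLib.DihDefect.odd_centralizes_cyclic
      (d.isPGroup.to_le (Subgroup.zpowers_le.mpr (d.mem _))) hy.1 hr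
  obtain ⟨v, hv, c, hc, hvc⟩ := exists_mul_of_mem_sup
    (H := D ⊓ Subgroup.normalizer ((Subgroup.zpowers (ι (a l)) : Subgroup G) : Set G))
    (K := Cen (Subgroup.zpowers (ι (a l))))
    (fun y hy => mem_normalizer_centralizer hy.2)
    (sup_cen_eq_stab hM (blockFusion_spec hM hmax) hle hfn hcyc hgs)
  have hcx : c * ι (a l') = ι (a l') * c :=
    (Subgroup.mem_centralizer_iff.mp hc _ (hQ ▸ Subgroup.mem_zpowers (ι (a l')))).symm
  obtain ⟨w, rfl⟩ := d.surj hv.1
  rw [hvc, show ι w * c * ι (a l') * (ι w * c)⁻¹ = ι w * (c * ι (a l')) * c⁻¹ * (ι w)⁻¹ by group, hcx,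
    show ι w * (ι (a l') * c) * c⁻¹ * (ι w)⁻¹ = ι w * ι (a l') * (ι w)⁻¹ by group, ← map_inv, ← map_mul,
    ← map_mul, d.inj.eq_iff] at hg
  rcases w with i | i
  · rw [a_inv, a_mul_a, a_mul_a, a.injEq] at hg
    left; linear_combination hg
  · rw [xa_inv, xa_mul_a, xa_mul_xa, a.injEq] at hg
    right
    linear_combination -hg + half_add_half (h := h)

omit [Fintype G] [M.IsMaximal] hp in
theorem zpowers_add_half (d : QData D ι) {l : ZMod (2 * h)} (h0 : l ≠ 0) (h1 : l ≠ (h : ZMod (2 * h))) :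
    Subgroup.zpowers (ι (a (l + (h : ZMod (2 * h))))) = Subgroup.zpowers (ι (a l)) := by
  have hne : ∀ {i : ZMod (2 * h)}, i ≠ 0 → ι (a i) ≠ 1 := fun hi e => hi (by
    rw [← map_one ι, d.inj.eq_iff, one_def, a.injEq] at e; exact e)
  have hne1 := hne h0
  have hne2 : ι (a (l + (h : ZMod (2 * h)))) ≠ 1 := hne fun e => h1 (by
    linear_combination e - half_add_half (h := h))
  have e1 : ι (a (l + (h : ZMod (2 * h)))) = ι (a l) * zz ι := by rw [← map_mul, a_mul_a]
  refine le_antisymm (Subgroup.zpowers_le.mpr ?_) (Subgroup.zpowers_le.mpr ?_)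
  · rw [e1]
    exact mul_mem (Subgroup.mem_zpowers _) (d.zz_mem_zpowers (d.mem _) hne1)
  · have h2 : ι (a l) = ι (a (l + (h : ZMod (2 * h)))) * zz ι := by
      rw [e1, mul_assoc, d.zz_sq, mul_one]
    rw [h2]
    exact mul_mem (Subgroup.mem_zpowers _) (d.zz_mem_zpowers (d.mem _) hne2)

omit hp in
theorem blockPart_const_mul (b : Set (IrrCharacter G)) (r : ℂ) (f : G → ℂ) (y : G) :
    blockPart b (fun c => r * f c) y = r * blockPart b f y := by
  classical
  rw [blockPart_apply, blockPart_apply, Finset.mul_sum]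
  refine Finset.sum_congr rfl fun χ _ => ?_
  split_ifs
  · rw [classInner_def, classInner_def]
    simp only [Finset.sum_mul, Finset.mul_sum]
    exact Finset.sum_congr rfl fun c _ => by ring
  · rw [mul_zero]

set_option maxHeartbeats 1000000 in
/-- **Vectors from the sections of the cyclic half.** -/
theorem exists_section_vectors (hM : IsPModular 2 M) (hmax : IsMaximalBrauerPair 2 M B D e) (d : QData D ι)
    (hz : zz ι ∈ Subgroup.center G) (hsc : ∀ χ ∈ B, centScal χ (zz ι) = 1 ∨ centScal χ (zz ι) = -1)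
    {h' : ℕ} (hh' : h = 2 * h') :
    ∃ c : Fin (h' - 1) → IrrCharacter G → ℂ,
      (∀ i, ∀ u : G, ¬ 2 ∣ orderOf u →
        ∑ ψ ∈ (bset B).filter (fun ψ => centScal ψ (zz ι) = -1), (ψ : G → ℂ) u * conj (c i ψ) = 0) ∧
      (∀ i i', i ≠ i' →
        ∑ ψ ∈ (bset B).filter (fun ψ => centScal ψ (zz ι) = -1), c i ψ * conj (c i' ψ) = 0) ∧
      ∀ i, ∑ ψ ∈ (bset B).filter (fun ψ => centScal ψ (zz ι) = -1), c i ψ * conj (c i ψ) ≠ 0 := by
  have hP := hmax.1.1
  have hB := hmax.1.2.1
  let L : Fin (h' - 1) → ZMod (2 * h) := fun i => (((i : ℕ) + 1 : ℕ) : ZMod (2 * h))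
  have := d.neZero
  have hcast : ∀ {r s : ℕ}, r < 2 * h → s < 2 * h → (r : ZMod (2 * h)) = (s : ZMod (2 * h)) → r = s := by
    intro r s hr hs e
    have := congrArg ZMod.val e
    rwa [ZMod.val_natCast_of_lt hr, ZMod.val_natCast_of_lt hs] at this
  have hLne : ∀ i, L i ≠ 0 ∧ L i ≠ (h : ZMod (2 * h)) := fun i => by
    have hi := i.2
    refine ⟨fun e => ?_, fun e => ?_⟩
    · have := hcast (r := (i : ℕ) + 1) (s := 0) (by omega) (by omega) (by rw [Nat.cast_zero]; exact e)
      omega
    · have := hcast (r := (i : ℕ) + 1) (s := h) (by omega) (by omega) e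
      omega
  have hLpm : ∀ i i', i ≠ i' → L i ≠ L i' ∧ L i ≠ -L i' := fun i i' hne => by
    have hi := i.2
    have hi' := i'.2
    refine ⟨fun e => hne (Fin.ext (by
      have := hcast (r := (i : ℕ) + 1) (s := (i' : ℕ) + 1) (by omega) (by omega) e
      omega)), fun e => ?_⟩
    have := hcast (r := ((i : ℕ) + 1) + ((i' : ℕ) + 1)) (s := 0) (by omega) (by omega)
      (by rw [Nat.cast_add, Nat.cast_zero]; exact eq_neg_iff_add_eq_zero.mp e)
    omega
  have hLh : ∀ i i', L i ≠ L i' + (h : ZMod (2 * h)) ∧ L i ≠ -(L i' + (h : ZMod (2 * h))) := fun i i' => by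
    have hi := i.2
    have hi' := i'.2
    refine ⟨fun e => ?_, fun e => ?_⟩
    · have := hcast (r := (i : ℕ) + 1) (s := ((i' : ℕ) + 1) + h) (by omega) (by omega) (by simp only [L] at e; push_cast at e ⊢; linear_combination e)
      omega
    · have := hcast (r := ((i : ℕ) + 1) + (((i' : ℕ) + 1) + h)) (s := 0) (by omega) (by omega)
        (by simp only [L] at e; push_cast at e ⊢; linear_combination e)
      omega
  let x : Fin (h' - 1) → G := fun i => ι (a (L i))
  have hx1 : ∀ i, x i ≠ 1 := fun i e => (hLne i).1 (by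
    simp only [x] at e
    rw [← map_one ι, d.inj.eq_iff, one_def, a.injEq] at e; exact e)
  have hxz : ∀ i, x i ≠ zz ι := fun i e => (hLne i).2 (by
    simp only [x] at e
    rw [d.inj.eq_iff, a.injEq] at e; exact e)
  have hxp : ∀ i, ∃ k : ℕ, orderOf (x i) = 2 ^ k := fun i => exists_pow_of_mem hP.1 (d.mem _)
  choose b hb using fun i => (existsUnique_subpair hM (Subgroup.zpowers_le.mpr (d.mem (a (L i)))) hP).exists
  have hof : ∀ i, IsBrauerPairOf 2 M B (Subgroup.zpowers (x i)) (b i) := fun i =>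
    (brauerPairOf_iff_of_subpair hM (a := ⟨_, b i⟩) (b := ⟨D, e⟩) (hb i)).mp hmax.1
  have hind : ∀ i, IsInducedBlock M (Cen (Subgroup.zpowers (x i))) (b i) B := fun i =>
    (brauerPairOf_iff_induced hM (NilBlock.isPGroup_zpowers (hxp i)) (hof i).1.2 hB).mp (hof i)
  choose s hs η hη hne using fun i => CfsgLib.DihDefect.exists_column hM (cen_zpowers (x i)) (hxp i) (hind i)
  set F : Fin (h' - 1) → IrrCharacter G → ℂ :=
    fun i ψ => secH (x i) (Cen (Subgroup.zpowers (x i))) (b i) ψ (s i) with hF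
  have hoff : ∀ i, ∀ ψ, ψ ∉ B → F i ψ = 0 := fun i ψ hψ =>
    secH_eq_zero (cen_zpowers (x i)) hM (hxp i) (hind i) hψ (hs i)
  set O := (bset B).filter (fun ψ => centScal ψ (zz ι) = -1) with hO
  have hhalf : ∀ T : IrrCharacter G → ℂ, ∑ ψ ∈ bset B, T ψ = 0 →
      ∑ ψ ∈ bset B, centScal ψ (zz ι) * T ψ = ∑ ψ ∈ bset B, T ψ - 2 * ∑ ψ ∈ O, T ψ := fun T _ => by
    rw [hO, Finset.sum_filter, Finset.mul_sum, ← Finset.sum_sub_distrib]
    refine Finset.sum_congr rfl fun ψ hψ => ?_
    rcases hsc ψ (mem_bset.mp hψ) with e | e <;> rw [e] <;> norm_num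
    ring
  refine ⟨F, fun i u hu => ?_, fun i i' hii => ?_, fun i => ?_⟩
  · have h1 := CfsgLib.DihDefect.sum_char_mul_secH hM (hxp i) (hind i).1 (u := 1) (isPPart_one_iff.mpr hu)
      (fun hc => hx1 i (isConj_one_left.mp hc.symm)) (hs i)
    have hcomm : Commute (zz ι) u := (Subgroup.mem_center_iff.mp hz u).symm
    have h2 := CfsgLib.DihDefect.sum_char_mul_secH hM (hxp i) (hind i).1 (g := zz ι * u) (u := zz ι)
      (isPPart_mul hcomm ⟨1, by rw [d.orderOf_zz, pow_one]⟩ hu) (fun hc => by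
        obtain ⟨w, hw⟩ := isConj_iff.mp hc
        rw [Subgroup.mem_center_iff.mp hz w, mul_inv_cancel_right] at hw
        exact hxz i hw.symm) (hs i)
    rw [← Finset.sum_subset (Finset.subset_univ (bset B)) fun ψ _ hψ => by
      rw [show secH (x i) (Cen (Subgroup.zpowers (x i))) (b i) ψ (s i) = 0 from
        hoff i ψ fun hh => hψ (mem_bset.mpr hh)]; simp] at h1 h2
    simp only [char_central_mul _ hz, mul_assoc] at h2
    have h3 := hhalf _ h1
    rw [h2, h1] at h3
    linear_combination h3 / 2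
  · -- two sections
    have hsub : ∀ (T : IrrCharacter G → ℂ), ∑ ψ ∈ Finset.univ.filter (· ∈ B), T ψ = ∑ ψ ∈ bset B, T ψ :=
      fun T => Finset.sum_congr (by ext; simp) fun _ _ => rfl
    have hcross : ∀ (y : G) (hy : y = x i' ∨ y = ι (a (L i' + (h : ZMod (2 * h))))),
        ∑ ψ ∈ bset B, F i ψ * conj (secH y (Cen (Subgroup.zpowers (x i'))) (b i') ψ (s i')) = 0 := by
      intro y hy
      obtain ⟨l, rfl, hzl, hl1, hl2⟩ : ∃ l, y = ι (a l) ∧ Subgroup.zpowers (ι (a l)) = Subgroup.zpowers (x i') ∧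
          L i ≠ l ∧ L i ≠ -l := by
        rcases hy with rfl | rfl
        · exact ⟨L i', rfl, rfl, (hLpm i i' hii).1, (hLpm i i' hii).2⟩
        · exact ⟨_, rfl, zpowers_add_half d (hLne i').1 (hLne i').2, (hLh i i').1, (hLh i i').2⟩
      rw [← hsub]
      refine CfsgLib.Blocks.sum_secH_orth hM (cen_zpowers (x i))
        (by rw [← cen_zpowers (ι (a l)), hzl]) (hxp i) (exists_pow_of_mem hP.1 (d.mem _)) (hind i)
        (hind i').1 (fun g hg hgid => ?_) (hs i) (hs i')
      have hgA : cjPair g (⟨Subgroup.zpowers (x i), b i⟩ : BrauerPairIdx G) = ⟨Subgroup.zpowers (x i'), b i'⟩ := by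
        refine pair_ext (M := M) (isBrauerPair_cjPair g (a := ⟨Subgroup.zpowers (x i), b i⟩) (hof i).1).2
          (hof i').1.2 ?_ ?_
        · rw [cjPair_fst, map_conj_zpowers, hg, hzl]
        · rw [pid_cjPair]; exact hgid
      exact (rot_fusion hM hmax d (l := l) (l' := L i) (A := ⟨Subgroup.zpowers (x i'), b i'⟩)
        (A' := ⟨Subgroup.zpowers (x i), b i⟩) hzl.symm rfl (hb i') (hb i) hg hgA).elim hl1 hl2
    have h1 := hcross (x i') (Or.inl rfl)
    have h2 := hcross (ι (a (L i' + (h : ZMod (2 * h))))) (Or.inr rfl)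
    have hshift : ∀ ψ : IrrCharacter G, secH (ι (a (L i' + (h : ZMod (2 * h)))))
        (Cen (Subgroup.zpowers (x i'))) (b i') ψ (s i') = centScal ψ (zz ι) * F i' ψ := fun ψ => by
      simp only [hF, secH]
      rw [← blockPart_const_mul]
      congr 1
      funext c
      rw [← char_central_mul ψ hz, ← mul_assoc, show ι (a (L i' + (h : ZMod (2 * h)))) = zz ι * x i' by
        rw [← map_mul, a_mul_a, add_comm]]
    have h3 := hhalf (fun ψ => F i ψ * conj (F i' ψ)) h1
    rw [Finset.sum_congr rfl fun ψ hψ => show centScal ψ (zz ι) * (F i ψ * conj (F i' ψ)) =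
      F i ψ * conj (secH (ι (a (L i' + (h : ZMod (2 * h))))) (Cen (Subgroup.zpowers (x i'))) (b i') ψ (s i')) by
        rw [hshift, map_mul]
        rcases hsc ψ (mem_bset.mp hψ) with e | e <;> rw [e] <;> simp, h2, h1] at h3
    linear_combination h3 / 2
  · -- the norm
    intro h0
    have hyz : x i * zz ι = ι (a (L i + (h : ZMod (2 * h)))) := by rw [← map_mul, a_mul_a]
    have h2 : ∑ ψ ∈ Finset.univ.filter (· ∈ B), secH (x i) (Cen (Subgroup.zpowers (x i))) (b i) ψ (s i) *
        conj (secH (x i * zz ι) (Cen (Subgroup.zpowers (x i))) (b i) ψ (s i)) = 0 := by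
      refine CfsgLib.Blocks.sum_secH_orth hM (cen_zpowers (x i)) ?_ (hxp i) ?_ (hind i) (hind i).1
        (fun g hg hgid => ?_) (hs i) (hs i)
      · rw [hyz, ← cen_zpowers, zpowers_add_half d (hLne i).1 (hLne i).2]
      · rw [hyz]; exact exists_pow_of_mem hP.1 (d.mem _)
      · have hzp : Subgroup.zpowers (x i * zz ι) = Subgroup.zpowers (x i) := by
          rw [hyz]; exact zpowers_add_half d (hLne i).1 (hLne i).2
        have hgA : cjPair g (⟨Subgroup.zpowers (x i), b i⟩ : BrauerPairIdx G) = ⟨Subgroup.zpowers (x i), b i⟩ := by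
          refine pair_ext (M := M) (isBrauerPair_cjPair g (a := ⟨Subgroup.zpowers (x i), b i⟩) (hof i).1).2
            (hof i).1.2 ?_ ?_
          · rw [cjPair_fst, map_conj_zpowers, hg, hzp]
          · rw [pid_cjPair]; exact hgid
        rcases rot_fusion hM hmax d (l := L i + (h : ZMod (2 * h))) (l' := L i)
          (A := ⟨Subgroup.zpowers (x i), b i⟩) (A' := ⟨Subgroup.zpowers (x i), b i⟩)
          (zpowers_add_half d (hLne i).1 (hLne i).2).symm rfl (hb i) (hb i) (hyz ▸ hg) hgA with e | e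
        · exact (hLh i i).1 e
        · exact (hLh i i).2 e
    rw [Finset.sum_congr (s₂ := bset B) (by ext; simp) fun _ _ => rfl] at h2
    have h4 : ∀ ψ, secH (x i * zz ι) (Cen (Subgroup.zpowers (x i))) (b i) ψ (s i) =
        centScal ψ (zz ι) * F i ψ := fun ψ => by
      simp only [hF, secH]
      rw [← blockPart_const_mul]
      congr 1
      funext c
      rw [← char_central_mul ψ hz, ← mul_assoc, Subgroup.mem_center_iff.mp hz (x i)]
    have h5 : ∑ ψ ∈ bset B, centScal ψ (zz ι) * (F i ψ * conj (F i ψ)) = 0 := by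
      refine Eq.trans (Finset.sum_congr rfl fun ψ hψ => ?_) h2
      rw [h4, map_mul]
      rcases hsc ψ (mem_bset.mp hψ) with e | e <;> rw [e] <;> simp [hF]
    have h6 : ∑ ψ ∈ bset B, F i ψ * conj (F i ψ) = 0 := by
      rw [hO, Finset.sum_filter] at h0
      calc ∑ ψ ∈ bset B, F i ψ * conj (F i ψ)
          = ∑ ψ ∈ bset B, centScal ψ (zz ι) * (F i ψ * conj (F i ψ)) +
            2 * ∑ ψ ∈ bset B, (if centScal ψ (zz ι) = -1 then F i ψ * conj (F i ψ) else 0) := by
            rw [Finset.mul_sum, ← Finset.sum_add_distrib]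
            refine Finset.sum_congr rfl fun ψ hψ => ?_
            rcases hsc ψ (mem_bset.mp hψ) with e | e <;> rw [e] <;> norm_num
            ring
        _ = 0 := by rw [h5, h0, mul_zero, add_zero]
    refine hne i ?_
    simp only [Complex.mul_conj] at h6
    rw [← Complex.ofReal_sum, Complex.ofReal_eq_zero,
      Finset.sum_eq_zero_iff_of_nonneg fun _ _ => Complex.normSq_nonneg _] at h6
    exact Complex.normSq_eq_zero.mp (h6 (η i) (mem_bset.mpr (hη i)))

end CfsgLib.QuatDefect
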