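import Cfsg.Agent.Lib.Blocks.QuatDefect.Bar
import Cfsg.Agent.Lib.Blocks.QuatDefect.Fusion

/-!
# A block with quaternion defect group and central involution

* `CentralData`: orthogonal integral vectors through which the values at `z y` are expressed;
* `exists_centralData`: their existence.
-/

set_option autoImplicit false

noncomputable section

open scoped Classical

namespace CfsgLib.QuatDefect

open Cfsg CfsgLib.Blocks CfsgLib.BlockArith CfsgLib.Char CfsgLib.BrauerPairs CfsgLib.NilBlock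
open QuaternionGroup
open scoped ComplexConjugate

universe u

/-- The norms of the vectors of the quotient. -/
def nn (h : ℕ) {j : ℕ} : Option (Fin j) → ℕ
  | none => 2 * h
  | some _ => 4

/-- The vectors of a block of a group with a central involution `z`. -/
structure CentralData {G : Type u} [Group G] [Fintype G] (b : Set (IrrCharacter G)) (z : G) (h j : ℕ)
    (w : IrrCharacter G → ℤ) (a : Option (Fin j) → IrrCharacter G → ℤ) (Φ : Option (Fin j) → G → ℂ) :
    Prop where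
  j_le : j ≤ 2
  rank : blockRank 2 b = j + 1
  card : Nat.card b = j + 1 + (h + 2)
  kerw : ∀ y : G, ¬ 2 ∣ orderOf y → ∑ ψ ∈ bset b, (w ψ : ℂ) * (ψ : G → ℂ) y = 0
  kera : ∀ k, ∀ y : G, ¬ 2 ∣ orderOf y → ∑ ψ ∈ bset b, (a k ψ : ℂ) * (ψ : G → ℂ) y = 0
  ww : ∑ ψ ∈ bset b, w ψ * w ψ = 4
  wa : ∀ k, ∑ ψ ∈ bset b, w ψ * a k ψ = 0
  aa : ∀ k k', ∑ ψ ∈ bset b, a k ψ * a k' ψ = if k = k' then 2 * (nn h k : ℤ) else 0
  parity : ∀ k, ∀ ψ ∈ bset b, (2 : ℤ) ∣ a k ψ - w ψ
  val : ∀ ψ ∈ b, ∀ y : G, ¬ 2 ∣ orderOf y →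
    (ψ : G → ℂ) (z * y) = ∑ k, (a k ψ : ℂ) * Φ k y / (nn h k : ℂ)
  inner : ∀ k k', 2 * regSum 2 (Φ k) (Φ k') = (if k = k' then (nn h k : ℂ) else 0) * (Nat.card G : ℂ)

/-- Orthogonal nonzero vectors on a finite set. -/
theorem card_le_of_orth {ι α : Type*} [Fintype ι] (O : Finset α) (c : ι → α → ℂ)
    (horth : ∀ i i', i ≠ i' → ∑ x ∈ O, c i x * conj (c i' x) = 0)
    (hne : ∀ i, ∑ x ∈ O, c i x * conj (c i x) ≠ 0) : Fintype.card ι ≤ O.card := by
  have hli : LinearIndependent ℂ (fun i => fun x : O => c i x) := by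
    rw [Fintype.linearIndependent_iff]
    intro g hg i
    have h1 : ∀ x : O, ∑ i', g i' * c i' x = 0 := fun x => by
      simpa [Finset.sum_apply] using congrFun hg x
    have h2 : ∑ x : O, (∑ i', g i' * c i' x) * conj (c i x) = 0 :=
      Finset.sum_eq_zero fun x _ => by rw [h1 x, zero_mul]
    simp only [Finset.sum_mul, mul_assoc] at h2
    rw [Finset.sum_comm, Finset.sum_eq_single i (fun i' _ hne' => ?_) (by simp)] at h2
    · rw [← Finset.mul_sum, Finset.sum_coe_sort O (fun x => c i x * conj (c i x))] at h2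
      exact (mul_eq_zero.mp h2).resolve_right (hne i)
    · rw [← Finset.mul_sum, Finset.sum_coe_sort O (fun x => c i' x * conj (c i x)), horth i' i hne', mul_zero]
  have := hli.fintype_card_le_finrank
  rwa [Module.finrank_fintype_fun_eq_card, Fintype.card_coe] at this

/-- Scalar products of combinations of irreducible characters. -/
theorem sum_comb_mul_conj {K : Type*} [Group K] [Fintype K] (S : Finset (IrrCharacter K))
    (f f' : IrrCharacter K → ℤ) :
    ∑ x : K, (∑ φ ∈ S, (f φ : ℂ) * (φ : K → ℂ) x) * conj (∑ φ ∈ S, (f' φ : ℂ) * (φ : K → ℂ) x) =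
      (Nat.card K : ℂ) * ((∑ φ ∈ S, f φ * f' φ : ℤ) : ℂ) := by
  calc ∑ x : K, (∑ φ ∈ S, (f φ : ℂ) * (φ : K → ℂ) x) * conj (∑ φ ∈ S, (f' φ : ℂ) * (φ : K → ℂ) x)
      = ∑ φ ∈ S, ∑ φ' ∈ S, (f φ : ℂ) * (f' φ' : ℂ) * ∑ x : K, (φ : K → ℂ) x * conj ((φ' : K → ℂ) x) := by
        simp only [map_sum, map_mul, map_intCast]
        rw [Finset.sum_congr rfl fun x _ => Finset.sum_mul_sum S S _ _]
        simp only [Finset.mul_sum]
        rw [Finset.sum_comm]
        refine Finset.sum_congr rfl fun φ _ => ?_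
        rw [Finset.sum_comm]
        exact Finset.sum_congr rfl fun φ' _ => Finset.sum_congr rfl fun x _ => by ring
    _ = _ := by
        push_cast
        rw [Finset.mul_sum]
        refine Finset.sum_congr rfl fun φ hφ => ?_
        rw [Finset.sum_eq_single φ (fun φ' _ hne => ?_) (fun hn => absurd hφ hn)]
        · rw [← card_mul_classInner, classInner_irr_self φ.2]; ring
        · rw [← card_mul_classInner, classInner_irr_ne φ.2 φ'.2 fun e => hne (Subtype.ext e).symm]; ring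

variable {G : Type u} [Group G] [Fintype G] {M : Ideal AlgInt} [M.IsMaximal] {h : ℕ}
  {b : Set (IrrCharacter G)} {D : Subgroup G} {e : Set (IrrCharacter (Cen D))} {ι : QuaternionGroup h →* G}

set_option maxHeartbeats 2000000 in
/-- **The vectors.** -/
theorem exists_centralData (hM : IsPModular 2 M) (hmax : IsMaximalBrauerPair 2 M b D e) (d : QData D ι)
    (hz : zz ι ∈ Subgroup.center G) :
    ∃ (j : ℕ) (w : IrrCharacter G → ℤ) (a : Option (Fin j) → IrrCharacter G → ℤ)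
      (Φ : Option (Fin j) → G → ℂ), CentralData b (zz ι) h j w a Φ := by
  have hfact : Fact (Nat.Prime 2) := ⟨Nat.prime_two⟩
  have hnorm : ((Subgroup.zpowers (zz ι))).Normal := ⟨fun n hn g => by
    rw [Subgroup.mem_center_iff.mp (Subgroup.zpowers_le.mpr hz hn) g, mul_inv_cancel_right]; exact hn⟩
  let _ : Fintype (G ⧸ (Subgroup.zpowers (zz ι))) := Fintype.ofFinite _
  have hb := hmax.1.2.1
  have hD := isDefectGroup_of_maximal hM hmax
  have hP : IsPGroup 2 (Subgroup.zpowers (zz ι)) := d.isPGroup.to_le (Subgroup.zpowers_le.mpr d.zz_mem)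
  have hC : ∃ k : ℕ, (Subgroup.centralizer (((Subgroup.zpowers (zz ι))) : Set G)).index = 2 ^ k :=
    centralizer_central_index (Subgroup.zpowers_le.mpr hz)
  obtain ⟨hdef, j, ν, w', t, q, hrank, hF, hht⟩ := exists_frame hM hb hD d hz
  have hb' : IsPBlock M (inflSet (Subgroup.zpowers (zz ι)) b) := isPBlock_inflSet hM hP hC hb
  set S := bset (inflSet (Subgroup.zpowers (zz ι)) b) with hS
  set N := blockMat 2 (inflSet (Subgroup.zpowers (zz ι)) b) with hN
  obtain ⟨k, hk⟩ := d.pow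
  obtain ⟨h', hh'⟩ : ∃ h', h = 2 * h' := by
    rcases k with _ | k
    · exfalso; have := d.two_le; rw [hk] at this; norm_num at this
    · exact ⟨2 ^ k, by rw [hk, pow_succ]; ring⟩
  have hh2 := d.two_le
  have hν0 : (ν : ℤ) ≠ 0 := by rcases hF.ν_cases with e | ⟨e, -⟩ <;> rw [e] <;> norm_num
  -- the vectors of the quotient
  let yv : Option (Fin j) → IrrCharacter (G ⧸ (Subgroup.zpowers (zz ι))) → ℤ := fun k => k.elim t q
  let mm : Option (Fin j) → ℕ := fun k => k.elim (2 * h) fun _ => ν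
  have hmm : ∀ k, (mm k : ℂ) ≠ 0 := fun k => by
    rcases k with _ | i
    · show ((2 * h : ℕ) : ℂ) ≠ 0
      exact Nat.cast_ne_zero.mpr (by omega)
    · show ((ν : ℕ) : ℂ) ≠ 0
      exact_mod_cast hν0
  have hyy : ∀ k k', ∑ φ ∈ S, yv k φ * yv k' φ = if k = k' then (mm k : ℤ) else 0 := by
    rintro (_ | i) (_ | i')
    · simp only [yv, mm, Option.elim, if_true]; rw [hF.tt]; push_cast; ring
    · simp only [yv, Option.elim, reduceCtorEq, if_false]
      rw [← hF.qt i']; exact Finset.sum_congr rfl fun φ _ => mul_comm _ _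
    · simp only [yv, Option.elim, reduceCtorEq, if_false]; exact hF.qt i
    · simp only [yv, mm, Option.elim, Option.some.injEq]; exact hF.qq i i'
  have hwy : ∀ k, ∑ φ ∈ S, w' φ * yv k φ = 0 := by
    rintro (_ | i)
    · exact hF.wt
    · exact hF.wq i
  have hNsym : ∀ x y, N x y = N y x := fun x y => blockMat_symm x y
  have hmatC : ∀ x ∈ S, ∀ y ∈ S, (N x y : ℂ) =
      ∑ k, (2 * (h : ℂ)) / (mm k : ℂ) * (yv k x : ℂ) * (yv k y : ℂ) := by
    intro x hx y hy
    have h1 : ((ν : ℤ) : ℂ) * (N x y : ℂ) =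
        ((2 * (h : ℤ) * (∑ i, q i x * q i y) + (ν : ℤ) * (t x * t y) : ℤ) : ℂ) := by
      rw [← hF.mat x hx y hy]; push_cast; ring
    have hν : (ν : ℂ) ≠ 0 := by exact_mod_cast hν0
    have hh0 : (h : ℂ) ≠ 0 := Nat.cast_ne_zero.mpr (by omega)
    refine mul_left_cancel₀ hν ?_
    rw [Fintype.sum_option]
    push_cast at h1
    simp only [yv, mm, Option.elim, mul_add, Finset.mul_sum, Nat.cast_mul, Nat.cast_ofNat]
    rw [h1, Finset.mul_sum, add_comm]
    congr 1
    · field_simp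
    · exact Finset.sum_congr rfl fun i _ => by field_simp
  have hNy : ∀ k, ∀ x ∈ S, ∑ y ∈ S, N x y * yv k y = 2 * (h : ℤ) * yv k x := by
    intro k x hx
    apply Int.cast_injective (α := ℂ)
    push_cast
    calc ∑ y ∈ S, (N x y : ℂ) * (yv k y : ℂ)
        = ∑ l, (2 * (h : ℂ)) / (mm l : ℂ) * (yv l x : ℂ) * ((∑ y ∈ S, yv l y * yv k y : ℤ) : ℂ) := by
          push_cast
          simp only [Finset.mul_sum]
          rw [Finset.sum_comm]
          refine Finset.sum_congr rfl fun y hy => ?_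
          rw [hmatC x hx y hy, Finset.sum_mul]
          exact Finset.sum_congr rfl fun l _ => by ring
      _ = _ := by
          rw [Finset.sum_eq_single k (fun l _ hne => by rw [hyy, if_neg hne]; simp) (by simp), hyy, if_pos rfl]
          push_cast
          field_simp [hmm k]
  have hNw : ∀ x ∈ S, ∑ y ∈ S, N x y * w' y = 0 := by
    intro x hx
    apply Int.cast_injective (α := ℂ)
    push_cast
    calc ∑ y ∈ S, (N x y : ℂ) * (w' y : ℂ)
        = ∑ l, (2 * (h : ℂ)) / (mm l : ℂ) * (yv l x : ℂ) * ((∑ y ∈ S, w' y * yv l y : ℤ) : ℂ) := by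
          push_cast
          simp only [Finset.mul_sum]
          rw [Finset.sum_comm]
          refine Finset.sum_congr rfl fun y hy => ?_
          rw [hmatC x hx y hy, Finset.sum_mul]
          exact Finset.sum_congr rfl fun l _ => by ring
      _ = 0 := Finset.sum_eq_zero fun l _ => by rw [hwy l]; simp
  -- the functions on the quotient
  let Φb : Option (Fin j) → G ⧸ (Subgroup.zpowers (zz ι)) → ℂ := fun k g => ∑ φ ∈ S, (yv k φ : ℂ) * (φ : G ⧸ (Subgroup.zpowers (zz ι)) → ℂ) g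
  have h2h : (2 * (h : ℂ)) ≠ 0 := mul_ne_zero two_ne_zero (Nat.cast_ne_zero.mpr (by omega))
  have hid : ∀ (f : IrrCharacter (G ⧸ (Subgroup.zpowers (zz ι))) → ℤ) (g : G ⧸ (Subgroup.zpowers (zz ι))),
      ∑ ψ ∈ S, ((∑ φ ∈ S, f φ * N φ ψ : ℤ) : ℂ) * (ψ : G ⧸ (Subgroup.zpowers (zz ι)) → ℂ) g =
        if 2 ∣ orderOf g then 0 else 2 * (h : ℂ) * ∑ φ ∈ S, (f φ : ℂ) * (φ : G ⧸ (Subgroup.zpowers (zz ι)) → ℂ) g := by
    intro f g
    have h1 : ∀ φ ∈ S, ∑ ψ ∈ S, (N φ ψ : ℂ) * (ψ : G ⧸ (Subgroup.zpowers (zz ι)) → ℂ) g =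
        if 2 ∣ orderOf g then 0 else 2 * (h : ℂ) * (φ : G ⧸ (Subgroup.zpowers (zz ι)) → ℂ) g := fun φ hφ => by
      rw [hS, hN, sum_blockMat_mul_char hM hb' (mem_bset.mp hφ) g, hdef]; push_cast; rfl
    push_cast
    simp only [Finset.sum_mul, mul_assoc]
    rw [Finset.sum_comm]
    simp only [← Finset.mul_sum]
    rw [Finset.sum_congr rfl fun φ hφ => by rw [h1 φ hφ]]
    split_ifs
    · simp
    · rw [Finset.mul_sum]; rw [Finset.mul_sum]
      exact Finset.sum_congr rfl fun φ _ => by ring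
  have hΦ0 : ∀ k, ∀ g : G ⧸ (Subgroup.zpowers (zz ι)), 2 ∣ orderOf g → Φb k g = 0 := fun k g hg => by
    have h1 := hid (yv k) g
    rw [if_pos hg, Finset.sum_congr rfl fun ψ hψ => by
      rw [show ∑ φ ∈ S, yv k φ * N φ ψ = 2 * (h : ℤ) * yv k ψ by
        rw [← hNy k ψ hψ]; exact Finset.sum_congr rfl fun φ _ => by rw [hNsym φ ψ, mul_comm]]] at h1
    refine (mul_eq_zero.mp ?_).resolve_left h2h
    refine Eq.trans ?_ h1
    simp only [Φb, Finset.mul_sum]
    exact Finset.sum_congr rfl fun φ _ => by push_cast; ring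
  have hw0 : ∀ g : G ⧸ (Subgroup.zpowers (zz ι)), ¬ 2 ∣ orderOf g → ∑ φ ∈ S, (w' φ : ℂ) * (φ : G ⧸ (Subgroup.zpowers (zz ι)) → ℂ) g = 0 := fun g hg => by
    have h1 := hid w' g
    rw [if_neg hg, Finset.sum_congr rfl fun ψ hψ => by
      rw [show ∑ φ ∈ S, w' φ * N φ ψ = 0 by
        rw [← hNw ψ hψ]; exact Finset.sum_congr rfl fun φ _ => by rw [hNsym φ ψ, mul_comm]]] at h1
    simp only [Int.cast_zero, zero_mul, Finset.sum_const_zero] at h1
    exact (mul_eq_zero.mp h1.symm).resolve_left h2h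
  have hvalb : ∀ φ ∈ S, ∀ g : G ⧸ (Subgroup.zpowers (zz ι)), ¬ 2 ∣ orderOf g →
      (φ : G ⧸ (Subgroup.zpowers (zz ι)) → ℂ) g = ∑ k, (yv k φ : ℂ) * Φb k g / (mm k : ℂ) := by
    intro φ hφ g hg
    refine mul_left_cancel₀ h2h ?_
    have h1 := sum_blockMat_mul_char (p := 2) hM hb' (mem_bset.mp hφ) g
    rw [if_neg hg, hdef] at h1
    push_cast at h1
    rw [← h1, ← hS, ← hN, Finset.mul_sum]
    simp only [Φb, Finset.mul_sum, Finset.sum_div]
    rw [Finset.sum_comm]
    refine Finset.sum_congr rfl fun ψ hψ => ?_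
    rw [hmatC φ hφ ψ hψ, Finset.sum_mul]
    exact Finset.sum_congr rfl fun k _ => by ring
  -- the functions on the group
  let Φ : Option (Fin j) → G → ℂ := fun k g => Φb k (g : G ⧸ (Subgroup.zpowers (zz ι)))
  have hregq : ∀ g : G, ¬ 2 ∣ orderOf g → ¬ 2 ∣ orderOf (g : G ⧸ (Subgroup.zpowers (zz ι))) := fun g hg hd =>
    hg (hd.trans (orderOf_map_dvd (QuotientGroup.mk' (Subgroup.zpowers (zz ι))) g))
  set C : ℂ := (Nat.card (G ⧸ (Subgroup.zpowers (zz ι))) : ℂ) with hCdef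
  have hC0 : C ≠ 0 := Nat.cast_ne_zero.mpr Nat.card_pos.ne'
  have hinner : ∀ k k', regSum 2 (Φ k) (Φ k') = C * (if k = k' then (mm k : ℂ) else 0) := by
    intro k k'
    rw [regSum_eq]
    show ∑ g : G, (if 2 ∣ orderOf g then 0 else Φb k (g : G ⧸ (Subgroup.zpowers (zz ι))) * conj (Φb k' (g : G ⧸ (Subgroup.zpowers (zz ι))))) = _
    rw [sum_regular_lift hP hC fun x : G ⧸ (Subgroup.zpowers (zz ι)) => Φb k x * conj (Φb k' x),
      Finset.sum_congr rfl fun x _ => show (if 2 ∣ orderOf x then (0 : ℂ) else Φb k x * conj (Φb k' x)) =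
        Φb k x * conj (Φb k' x) by
          split_ifs with hx
          · rw [hΦ0 k x hx, zero_mul]
          · rfl,
      sum_comb_mul_conj, hyy]
    split_ifs <;> simp [hCdef]
  have hcardG : (Nat.card G : ℂ) = C * 2 := by
    rw [hCdef, Subgroup.card_eq_card_quotient_mul_card_subgroup (Subgroup.zpowers (zz ι)), Nat.card_zpowers, d.orderOf_zz]
    push_cast; ring
  -- members of the block
  let inf : IrrCharacter (G ⧸ (Subgroup.zpowers (zz ι))) → IrrCharacter G := fun φ => ⟨_, CfsgLib.CharNormal.isIrr_comp_mk' (Subgroup.zpowers (zz ι)) φ.2⟩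
  have hinf : Function.Injective inf := fun φ φ' e => Subtype.ext
    (QuotientGroup.mk_surjective.injective_comp_right (congrArg Subtype.val e))
  have hinfS : ∀ φ, φ ∈ S ↔ inf φ ∈ b := fun φ => mem_bset
  have hsinf : ∀ φ, centScal (inf φ) (zz ι) = 1 := fun φ => by
    show (φ : G ⧸ (Subgroup.zpowers (zz ι)) → ℂ) ((zz ι : G) : G ⧸ (Subgroup.zpowers (zz ι))) / (φ : G ⧸ (Subgroup.zpowers (zz ι)) → ℂ) ((1 : G) : G ⧸ (Subgroup.zpowers (zz ι))) = 1
    rw [(QuotientGroup.eq_one_iff (zz ι)).mpr (Subgroup.mem_zpowers _), QuotientGroup.mk_one,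
      div_self (irr_one_ne_zero φ.2)]
  have hsq : ∀ ψ : IrrCharacter G, centScal ψ (zz ι) = 1 ∨ centScal ψ (zz ι) = -1 := fun ψ => by
    have h1 := centScal_mul ψ hz (zz ι)
    rw [d.zz_sq, centScal_one] at h1
    exact mul_self_eq_one_iff.mp h1.symm
  set O := (bset b).filter (fun ψ => centScal ψ (zz ι) = -1) with hO
  have hrange : ∀ ψ ∈ b, centScal ψ (zz ι) = 1 → ∃ φ ∈ S, inf φ = ψ := by
    intro ψ hψ hs
    obtain ⟨φ, hφ, hφe⟩ := CfsgLib.CharNormal.exists_irr_eq_comp_mk' ((Subgroup.zpowers (zz ι))) ψ.2 fun n hn => by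
      rcases mem_zpowers_zz d hn with rfl | rfl
      · rfl
      · rw [← mul_one (zz ι), char_central_mul ψ hz, hs, one_mul]
    have he : inf ⟨φ, hφ⟩ = ψ := Subtype.ext hφe
    exact ⟨⟨φ, hφ⟩, (hinfS _).mpr (he ▸ hψ), he⟩
  have hnotrange : ∀ ψ ∈ O, ¬ ∃ φ, inf φ = ψ := by
    rintro ψ hψ ⟨φ, rfl⟩
    have h1 := (Finset.mem_filter.mp hψ).2
    rw [hsinf] at h1
    norm_num at h1
  have hsplit : ∀ F : IrrCharacter G → ℂ, ∑ ψ ∈ bset b, F ψ = ∑ φ ∈ S, F (inf φ) + ∑ ψ ∈ O, F ψ := by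
    intro F
    rw [← Finset.sum_filter_add_sum_filter_not (bset b) (fun ψ => ¬ centScal ψ (zz ι) = -1)]
    simp only [not_not]
    congr 1
    rw [← Finset.sum_image fun φ _ φ' _ e => hinf e]
    refine Finset.sum_congr (Finset.ext fun ψ => ?_) fun _ _ => rfl
    simp only [Finset.mem_filter, Finset.mem_image, mem_bset]
    constructor
    · rintro ⟨hψ, hs⟩
      exact hrange ψ hψ ((hsq ψ).resolve_right hs)
    · rintro ⟨φ, hφ, rfl⟩
      exact ⟨(hinfS φ).mp hφ, by rw [hsinf]; norm_num⟩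
  have hsplitZ : ∀ F : IrrCharacter G → ℤ, ∑ ψ ∈ bset b, F ψ = ∑ φ ∈ S, F (inf φ) + ∑ ψ ∈ O, F ψ :=
    fun F => Int.cast_injective (α := ℂ) (by push_cast; exact hsplit fun ψ => (F ψ : ℂ))
  -- the vectors of the block
  have hcex : ∀ ψ : IrrCharacter G, ∃ c : IrrCharacter (G ⧸ (Subgroup.zpowers (zz ι))) → ℤ, ψ ∈ b →
      ∀ g : G, ¬ 2 ∣ orderOf g → (ψ : G → ℂ) g = ∑ φ ∈ S, (c φ : ℂ) * (φ : G ⧸ (Subgroup.zpowers (zz ι)) → ℂ) g := by
    intro ψ
    by_cases hψ : ψ ∈ b
    · obtain ⟨c, hc⟩ := exists_quotient_combination (P := (Subgroup.zpowers (zz ι))) hM hP hC hb hψ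
      refine ⟨c, fun _ g hg => ?_⟩
      rw [hc g hg, ← Finset.sum_filter]
      exact Finset.sum_congr (by ext; simp [hS]) fun _ _ => rfl
    · exact ⟨0, fun h => absurd h hψ⟩
  choose c hc using hcex
  let a : Option (Fin j) → IrrCharacter G → ℤ := fun k =>
    Function.extend inf (yv k) fun ψ => -∑ φ ∈ S, c ψ φ * yv k φ
  let w : IrrCharacter G → ℤ := Function.extend inf w' fun _ => 0
  have hainf : ∀ k φ, a k (inf φ) = yv k φ := fun k φ => hinf.extend_apply _ _ φ
  have haO : ∀ k, ∀ ψ ∈ O, a k ψ = -∑ φ ∈ S, c ψ φ * yv k φ := fun k ψ hψ =>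
    Function.extend_apply' _ _ _ (hnotrange ψ hψ)
  have hwinf : ∀ φ, w (inf φ) = w' φ := fun φ => hinf.extend_apply _ _ φ
  have hwO : ∀ ψ ∈ O, w ψ = 0 := fun ψ hψ => Function.extend_apply' _ _ _ (hnotrange ψ hψ)
  have hval : ∀ ψ ∈ b, ∀ g : G, ¬ 2 ∣ orderOf g →
      centScal ψ (zz ι) * (ψ : G → ℂ) g = ∑ k, (a k ψ : ℂ) * Φ k g / (mm k : ℂ) := by
    intro ψ hψ g hg
    rcases hsq ψ with hs | hs
    · obtain ⟨φ, hφ, rfl⟩ := hrange ψ hψ hs
      rw [hs, one_mul]
      simp only [hainf]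
      exact hvalb φ hφ _ (hregq g hg)
    · have hψO : ψ ∈ O := Finset.mem_filter.mpr ⟨mem_bset.mpr hψ, hs⟩
      rw [hs, neg_one_mul, hc ψ hψ g hg, Finset.sum_congr rfl fun φ hφ => by rw [hvalb φ hφ _ (hregq g hg)]]
      simp only [haO _ ψ hψO, Int.cast_neg, Int.cast_sum, Int.cast_mul, neg_mul, neg_div,
        Finset.sum_neg_distrib, Finset.sum_mul, Finset.mul_sum, Finset.sum_div, Φ]
      rw [Finset.sum_comm]
      exact congrArg _ (Finset.sum_congr rfl fun k _ => Finset.sum_congr rfl fun φ _ => by ring)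
  have hform : ∀ k, ∀ ψ ∈ b, (a k ψ : ℂ) * C =
      centScal ψ (zz ι) * regSum 2 (ψ : G → ℂ) (Φ k) := by
    intro k ψ hψ
    rw [regSum_eq, Finset.mul_sum, Finset.sum_congr rfl fun g _ => show
      centScal ψ (zz ι) * (if 2 ∣ orderOf g then 0 else (ψ : G → ℂ) g * conj (Φ k g)) =
        ∑ l, (a l ψ : ℂ) / (mm l : ℂ) * (if 2 ∣ orderOf g then 0 else Φ l g * conj (Φ k g)) by
      split_ifs with hg
      · simp
      · rw [← mul_assoc, hval ψ hψ g hg, Finset.sum_mul]
        exact Finset.sum_congr rfl fun l _ => by ring,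
      Finset.sum_comm]
    simp only [← Finset.mul_sum, ← regSum_eq, hinner]
    rw [Finset.sum_eq_single k (fun l _ hne => by rw [if_neg hne]; ring) (by simp), if_pos rfl]
    field_simp [hmm k]
  have hweak : ∀ g u : G, ¬ 2 ∣ orderOf g → ¬ 2 ∣ orderOf u →
      ∑ ψ ∈ O, (ψ : G → ℂ) g * conj ((ψ : G → ℂ) u) =
        ∑ φ ∈ S, (φ : G ⧸ (Subgroup.zpowers (zz ι)) → ℂ) g * conj ((φ : G ⧸ (Subgroup.zpowers (zz ι)) → ℂ) u) := by
    intro g u hg hu
    have hzu : 2 ∣ orderOf (zz ι * u) := by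
      have hcm : Commute (zz ι) u := (Subgroup.mem_center_iff.mp hz u).symm
      rw [hcm.orderOf_mul_eq_mul_orderOf_of_coprime
        (by rw [d.orderOf_zz]; exact (Nat.prime_two.coprime_iff_not_dvd).mpr hu), d.orderOf_zz]
      exact dvd_mul_right 2 _
    have h1 := weak_orthogonality hM hb hg hzu
    rw [← Finset.sum_filter, Finset.sum_congr (s₂ := bset b) (by ext; simp) fun _ _ => rfl, hsplit] at h1
    simp only [char_central_mul _ hz, map_mul, hsinf, map_one, one_mul] at h1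
    rw [Finset.sum_congr rfl (s₁ := O) fun ψ hψ => show
      (ψ : G → ℂ) g * (conj (centScal ψ (zz ι)) * conj ((ψ : G → ℂ) u)) =
        -((ψ : G → ℂ) g * conj ((ψ : G → ℂ) u)) by
        rw [(Finset.mem_filter.mp hψ).2, map_neg, map_one]; ring, Finset.sum_neg_distrib] at h1
    exact (neg_inj.mp (eq_neg_of_add_eq_zero_right h1 : _)).trans rfl
  have hOb : ∀ ψ ∈ O, ψ ∈ b := fun ψ hψ => mem_bset.mp (Finset.mem_filter.mp hψ).1
  have hOs : ∀ ψ ∈ O, centScal ψ (zz ι) = -1 := fun ψ hψ => (Finset.mem_filter.mp hψ).2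
  have hdualO : ∀ k, ∀ T : IrrCharacter G → ℂ, C * ∑ ψ ∈ O, (a k ψ : ℂ) * T ψ =
      -∑ u : G, if 2 ∣ orderOf u then 0 else conj (Φ k u) * ∑ ψ ∈ O, (ψ : G → ℂ) u * T ψ := by
    intro k T
    rw [Finset.mul_sum, Finset.sum_congr rfl fun ψ hψ => show C * ((a k ψ : ℂ) * T ψ) =
      -∑ u : G, if 2 ∣ orderOf u then 0 else conj (Φ k u) * ((ψ : G → ℂ) u * T ψ) by
      rw [← mul_assoc, mul_comm C, hform k ψ (hOb ψ hψ), hOs ψ hψ, regSum_eq, neg_one_mul, neg_mul,
        Finset.sum_mul]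
      exact congrArg _ (Finset.sum_congr rfl fun u _ => by split_ifs <;> ring),
      Finset.sum_neg_distrib, Finset.sum_comm]
    refine congrArg _ (Finset.sum_congr rfl fun u _ => ?_)
    split_ifs
    · simp
    · rw [Finset.mul_sum]
  have haC : ∀ k g, ¬ 2 ∣ orderOf g → ∑ ψ ∈ O, (a k ψ : ℂ) * (ψ : G → ℂ) g = -Φ k g := by
    intro k g hg
    refine mul_left_cancel₀ hC0 ?_
    have h1 : ∀ ψ ∈ O, C * ((a k ψ : ℂ) * (ψ : G → ℂ) g) =
        -∑ u : G, if 2 ∣ orderOf u then 0 else Φ k u * ((ψ : G → ℂ) g * conj ((ψ : G → ℂ) u)) := by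
      intro ψ hψ
      have e1 := congrArg conj (hform k ψ (hOb ψ hψ))
      rw [hOs ψ hψ, regSum_eq] at e1
      simp only [map_mul, map_intCast, hCdef, map_natCast, map_neg, map_one, map_sum, apply_ite conj,
        map_zero, Complex.conj_conj] at e1
      rw [← hCdef] at e1
      rw [← mul_assoc, mul_comm C, e1, neg_one_mul, neg_mul, Finset.sum_mul]
      exact congrArg _ (Finset.sum_congr rfl fun u _ => by split_ifs <;> ring)
    rw [Finset.mul_sum, Finset.sum_congr rfl h1, Finset.sum_neg_distrib, Finset.sum_comm, mul_neg]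
    congr 1
    calc ∑ u : G, ∑ ψ ∈ O, (if 2 ∣ orderOf u then 0 else Φ k u * ((ψ : G → ℂ) g * conj ((ψ : G → ℂ) u)))
        = ∑ u : G, if 2 ∣ orderOf u then 0 else
            ∑ φ ∈ S, (φ : G ⧸ (Subgroup.zpowers (zz ι)) → ℂ) g * (Φb k u * conj ((φ : G ⧸ (Subgroup.zpowers (zz ι)) → ℂ) u)) := by
          refine Finset.sum_congr rfl fun u _ => ?_
          split_ifs with hu
          · simp
          · rw [← Finset.mul_sum, hweak g u hg hu, Finset.mul_sum]
            exact Finset.sum_congr rfl fun φ _ => by simp only [Φ]; ring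
      _ = ∑ q' : G ⧸ (Subgroup.zpowers (zz ι)), ∑ φ ∈ S, (φ : G ⧸ (Subgroup.zpowers (zz ι)) → ℂ) g * (Φb k q' * conj ((φ : G ⧸ (Subgroup.zpowers (zz ι)) → ℂ) q')) := by
          rw [sum_regular_lift hP hC fun q' : G ⧸ (Subgroup.zpowers (zz ι)) =>
            ∑ φ ∈ S, (φ : G ⧸ (Subgroup.zpowers (zz ι)) → ℂ) g * (Φb k q' * conj ((φ : G ⧸ (Subgroup.zpowers (zz ι)) → ℂ) q'))]
          refine Finset.sum_congr rfl fun q' _ => ?_
          split_ifs with hq'
          · exact (Finset.sum_eq_zero fun φ _ => by rw [hΦ0 k q' hq']; ring).symm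
          · rfl
      _ = C * Φ k g := by
          rw [Finset.sum_comm]
          simp only [Φ, Φb, Finset.mul_sum]
          refine Finset.sum_congr rfl fun φ hφ => ?_
          have h2 : ∑ q' : G ⧸ (Subgroup.zpowers (zz ι)), (∑ φ' ∈ S, (yv k φ' : ℂ) * (φ' : G ⧸ (Subgroup.zpowers (zz ι)) → ℂ) q') *
              conj ((φ : G ⧸ (Subgroup.zpowers (zz ι)) → ℂ) q') = C * (yv k φ : ℂ) := by
            have := sum_comb_mul_conj S (yv k) fun φ' => if φ' = φ then 1 else 0
            simpa [hφ, hCdef, Finset.sum_ite_eq'] using this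
          rw [← Finset.mul_sum, h2]; ring
  have haa : ∀ k k', ∑ ψ ∈ O, a k ψ * a k' ψ = if k = k' then (mm k : ℤ) else 0 := by
    intro k k'
    apply Int.cast_injective (α := ℂ)
    refine mul_left_cancel₀ hC0 ?_
    push_cast
    rw [hdualO k fun ψ => (a k' ψ : ℂ), Finset.sum_congr rfl fun u _ => show
      (if 2 ∣ orderOf u then 0 else conj (Φ k u) * ∑ ψ ∈ O, (ψ : G → ℂ) u * (a k' ψ : ℂ)) =
        -(if 2 ∣ orderOf u then 0 else Φ k' u * conj (Φ k u)) by
        split_ifs with hu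
        · simp
        · rw [show ∑ ψ ∈ O, (ψ : G → ℂ) u * (a k' ψ : ℂ) = -Φ k' u by
            rw [← haC k' u hu]; exact Finset.sum_congr rfl fun ψ _ => mul_comm _ _]
          ring,
      Finset.sum_neg_distrib, neg_neg, ← regSum_eq, hinner]
    by_cases e : k = k'
    · subst e; simp
    · rw [if_neg e, if_neg (Ne.symm e)]
  -- the matrix of the block
  have hdb : 2 ^ blockDefect 2 b = 4 * h := (card_defectGroup hM hb hD).symm.trans d.card
  have hNH : ∀ χ ∈ b, ∀ ψ ∈ b, (blockMat 2 b χ ψ : ℂ) =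
      centScal χ (zz ι) * centScal ψ (zz ι) * ∑ k, (2 * (h : ℂ)) / (mm k : ℂ) * (a k χ : ℂ) * (a k ψ : ℂ) := by
    intro χ hχ ψ hψ
    refine mul_left_cancel₀ (mul_ne_zero hC0 two_ne_zero) ?_
    rw [← hcardG, card_pow_mul_blockMat hM hb hχ ψ, hdb]
    have hss : ∀ ξ : IrrCharacter G,
        conj (centScal ξ (zz ι)) = centScal ξ (zz ι) ∧ centScal ξ (zz ι) * centScal ξ (zz ι) = 1 := fun ξ => by
      rcases hsq ξ with e | e <;> rw [e] <;> simp
    rw [Finset.sum_congr rfl fun g _ => show (if 2 ∣ orderOf g then (0 : ℂ) else (χ : G → ℂ) g * conj ((ψ : G → ℂ) g)) =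
      centScal χ (zz ι) * centScal ψ (zz ι) * ∑ k, ∑ l, (a k χ : ℂ) / (mm k : ℂ) * ((a l ψ : ℂ) / (mm l : ℂ)) *
        (if 2 ∣ orderOf g then 0 else Φ k g * conj (Φ l g)) by
      split_ifs with hg
      · simp
      · calc (χ : G → ℂ) g * conj ((ψ : G → ℂ) g)
            = (centScal χ (zz ι) * centScal χ (zz ι)) * (χ : G → ℂ) g *
              ((centScal ψ (zz ι) * centScal ψ (zz ι)) * conj ((ψ : G → ℂ) g)) := by
              rw [(hss χ).2, (hss ψ).2, one_mul, one_mul]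
          _ = centScal χ (zz ι) * centScal ψ (zz ι) *
              ((centScal χ (zz ι) * (χ : G → ℂ) g) * conj (centScal ψ (zz ι) * (ψ : G → ℂ) g)) := by
              rw [map_mul, (hss ψ).1]; ring
          _ = _ := by
              rw [hval χ hχ g hg, hval ψ hψ g hg, map_sum, Finset.sum_mul_sum]
              refine congrArg _ (Finset.sum_congr rfl fun k _ => Finset.sum_congr rfl fun l _ => ?_)
              simp only [map_div₀, map_mul, map_intCast, map_natCast]
              ring, ← Finset.mul_sum, Finset.sum_comm, Finset.sum_congr rfl fun k _ => Finset.sum_comm]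
    simp only [← Finset.mul_sum, ← regSum_eq, hinner]
    rw [hcardG]
    push_cast
    simp only [Finset.mul_sum]
    refine Finset.sum_congr rfl fun k _ => ?_
    rw [Finset.sum_eq_single k (fun l _ hne => by rw [if_neg (Ne.symm hne)]; ring) (by simp), if_pos rfl]
    field_simp [hmm k]
    ring
  have hνN : ∀ χ ∈ b, ∀ ψ ∈ b, ∀ sχ sψ : ℤ, centScal χ (zz ι) = sχ → centScal ψ (zz ι) = sψ →
      (ν : ℤ) * blockMat 2 b χ ψ = sχ * sψ * (2 * (h : ℤ) * (∑ i, a (some i) χ * a (some i) ψ) +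
        (ν : ℤ) * (a none χ * a none ψ)) := by
    intro χ hχ ψ hψ sχ sψ h1 h2
    apply Int.cast_injective (α := ℂ)
    push_cast
    rw [hNH χ hχ ψ hψ, h1, h2, Fintype.sum_option]
    have hν : (ν : ℂ) ≠ 0 := by exact_mod_cast hν0
    have hh0 : (h : ℂ) ≠ 0 := Nat.cast_ne_zero.mpr (by omega)
    simp only [mm, Option.elim, Nat.cast_mul, Nat.cast_ofNat, Finset.mul_sum, mul_add]
    rw [add_comm]
    congr 1
    · exact Finset.sum_congr rfl fun i _ => by field_simp
    · field_simp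
  -- odd members have positive height
  have hOpos : ∀ ψ ∈ O, blockHeight 2 b (ψ : G → ℂ) ≠ 0 := by
    intro ψ hψ h0
    obtain ⟨y, hy, hyD⟩ := isDefectGroup_iff.mp hD
    set x := ι (QuaternionGroup.a (h' : ZMod (2 * h))) with hx
    set u := ι (QuaternionGroup.xa (0 : ZMod (2 * h))) with hu
    have hxD : x ∈ D := d.mem _
    have hcx : Commute x y := Subgroup.mem_centralizer_iff.mp hyD.mem_centralizer _ hxD
    have hcu : Commute u y := Subgroup.mem_centralizer_iff.mp hyD.mem_centralizer _ (d.mem _)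
    have hconj : u * x * u⁻¹ = zz ι * x := by
      rw [hx, hu, ← map_inv, ← map_mul, ← map_mul, ← map_mul, xa_inv, xa_mul_a, xa_mul_xa, a_mul_a]
      congr 2
      have : (h : ZMod (2 * h)) = (h' : ZMod (2 * h)) + (h' : ZMod (2 * h)) := by
        rw [← Nat.cast_add]; congr 1; omega
      linear_combination this
    have hzero : (ψ : G → ℂ) (x * y) = 0 := by
      have h1 := isClassFunction_of_isIrr ψ.2 (x * y) u
      rw [show u * (x * y) * u⁻¹ = zz ι * (x * y) by
        rw [show u * (x * y) * u⁻¹ = u * x * u⁻¹ * (u * y * u⁻¹) by group, hconj,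
          show u * y * u⁻¹ = y by rw [hcu.eq, mul_inv_cancel_right], mul_assoc],
        char_central_mul ψ hz, hOs ψ hψ] at h1
      linear_combination -h1 / 2
    obtain ⟨r, hr⟩ := IsPGroup.iff_orderOf.mp d.isPGroup ⟨x, hxD⟩
    rw [Subgroup.orderOf_mk] at hr
    have h2 := cval_defectClass_ne_zero hM hb hy (hOb ψ hψ) h0
    rw [← cval_mul hM ψ hcx (x := x) (k := r) (by rw [← hr]; exact pow_orderOf_eq_one x), Ne,
      ← memLocalIdeal_iff_cval, hzero] at h2
    exact h2 ⟨0, 1, M.zero_mem, fun h1 => hM.2.1.ne_top ((Ideal.eq_top_iff_one _).mpr h1), by simp⟩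
  have hOeven : ∀ ψ ∈ O, Even (blockMat 2 b ψ ψ) := fun ψ hψ => by
    rw [even_iff_two_dvd]
    have h1 : ¬ ¬ ((2 : ℕ) : ℤ) ^ (blockHeight 2 b (ψ : G → ℂ) + 1) ∣ blockMat 2 b ψ ψ := fun hn =>
      hOpos ψ hψ ((not_dvd_blockMat_iff (p := 2) hM hb (hOb ψ hψ) (hOb ψ hψ)).mp hn)
    exact (dvd_pow_self (2 : ℤ) (Nat.succ_ne_zero _)).trans (by exact_mod_cast not_not.mp h1)
  have hOdiag : ∀ ψ ∈ O, (ν : ℤ) * blockMat 2 b ψ ψ =
      2 * (h : ℤ) * (∑ i, a (some i) ψ * a (some i) ψ) + (ν : ℤ) * (a none ψ * a none ψ) := fun ψ hψ => by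
    rw [hνN ψ (hOb ψ hψ) ψ (hOb ψ hψ) (-1) (-1) (by rw [hOs ψ hψ]; norm_num) (by rw [hOs ψ hψ]; norm_num)]
    ring
  -- a member of height zero, and the rows on the odd members
  have hrow : ∀ φ ∈ S, w' φ ≠ 0 → ∀ ψ ∈ O,
      2 * (h : ℤ) * (∑ i, q i φ * a (some i) ψ) + (ν : ℤ) * (t φ * a none ψ) ≠ 0 := by
    intro φ hφ hφ0 ψ hψ h1
    have hb1 := (hinfS φ).mp hφ
    have h0 : blockHeight 2 b (inf φ : G → ℂ) = 0 := by
      have := (hht φ (mem_bset.mp hφ)).mpr hφ0
      rwa [blockHeight_inflSet hM hP hC hb (mem_bset.mp hφ)] at this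
    refine (not_dvd_blockMat_iff (p := 2) hM hb (hOb ψ hψ) hb1).mpr h0 ?_
    have h2 := hνN (inf φ) hb1 ψ (hOb ψ hψ) 1 (-1) (by rw [hsinf]; norm_num) (by rw [hOs ψ hψ]; norm_num)
    simp only [hainf, yv, Option.elim] at h2
    rw [h1, mul_zero] at h2
    rw [blockMat_symm, (mul_eq_zero.mp h2).resolve_left hν0]
    exact dvd_zero _
  -- the lower bound
  obtain ⟨cv, hcv1, hcv2, hcv3⟩ := exists_section_vectors hM hmax d hz (fun χ _ => hsq χ) hh'
  rw [← hO] at hcv1 hcv2 hcv3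
  let vec : Option (Fin j) ⊕ Fin (h' - 1) → IrrCharacter G → ℂ := Sum.elim (fun k ψ => (a k ψ : ℂ)) cv
  have hac : ∀ k i, ∑ ψ ∈ O, (a k ψ : ℂ) * conj (cv i ψ) = 0 := fun k i => by
    refine (mul_eq_zero.mp ?_).resolve_left hC0
    rw [hdualO k fun ψ => conj (cv i ψ), neg_eq_zero]
    refine Finset.sum_eq_zero fun u _ => ?_
    split_ifs with hu
    · rfl
    · rw [hcv1 i u hu, mul_zero]
  have haaC : ∀ k k', ∑ ψ ∈ O, (a k ψ : ℂ) * conj (a k' ψ : ℂ) = if k = k' then (mm k : ℂ) else 0 := fun k k' => by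
    simp only [map_intCast]
    have := congrArg (fun z : ℤ => (z : ℂ)) (haa k k')
    push_cast at this
    rw [this]
  have hlow : j + h' ≤ O.card := by
    have h1 := card_le_of_orth O vec (fun i i' hne => ?_) (fun i => ?_)
    · simp only [Fintype.card_sum, Fintype.card_option, Fintype.card_fin] at h1
      omega
    · rcases i with k | i <;> rcases i' with k' | i'
      · exact (haaC k k').trans (if_neg fun e => hne (congrArg Sum.inl e))
      · exact hac k i'
      · have := congrArg conj (hac k' i)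
        simp only [map_sum, map_mul, map_zero, Complex.conj_conj] at this
        refine Eq.trans (Finset.sum_congr rfl fun ψ _ => ?_) this
        simp only [vec, Sum.elim_inl, Sum.elim_inr]
        ring
      · exact hcv2 i i' fun e => hne (congrArg Sum.inr e)
    · rcases i with k | i
      · simp only [vec, Sum.elim_inl, haaC, if_true]; exact hmm k
      · exact hcv3 i
  have hdj : ∀ (P : IrrCharacter G → Prop), ∀ ψ ∈ O, Even (a none ψ) → a none ψ ≠ 0 →
      4 ≤ a none ψ * a none ψ := fun _ ψ _ ⟨r, hr⟩ hne => by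
    have : r ≠ 0 := fun e => hne (by rw [hr, e]; rfl)
    have : 1 ≤ r * r := by nlinarith [mul_self_pos.mpr this]
    rw [hr]; nlinarith
  have hhz : (h : ℤ) = 2 * (h' : ℤ) := by exact_mod_cast hh'
  -- the exceptional shape is impossible
  have hν4 : ν = 4 := by
    refine hF.ν_cases.resolve_right ?_
    rintro ⟨hν, hj, φ, hφ, hφ0, hq0⟩
    have hT : ∀ ψ ∈ O, 4 ≤ a none ψ * a none ψ := fun ψ hψ => by
      refine hdj (fun _ => True) ψ hψ ?_ ?_
      · obtain ⟨r, hr⟩ := hOeven ψ hψ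
        have h1 := hOdiag ψ hψ
        rw [hν, hhz, hr] at h1
        push_cast at h1
        rw [← (Int.even_mul (m := a none ψ) (n := a none ψ)).trans ⟨fun e => e.elim id id, fun e => Or.inl e⟩]
        exact ⟨r - (h' : ℤ) * ∑ i, a (some i) ψ * a (some i) ψ, by linarith⟩
      · intro e0
        refine hrow φ hφ hφ0 ψ hψ ?_
        simp [hq0, e0]
    have h1 := Finset.card_nsmul_le_sum O (fun ψ => a none ψ * a none ψ) 4 hT
    rw [haa, if_pos rfl, nsmul_eq_mul] at h1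
    simp only [mm, Option.elim] at h1
    push_cast at h1
    omega
  subst hν4
  have hjh : Even ((h' : ℤ) * j) := by
    obtain ⟨φ, hφ⟩ := Finset.card_pos.mp (by rw [hF.w_card]; norm_num : 0 < (S.filter fun x => w' x ≠ 0).card)
    obtain ⟨hφS, hφ0⟩ := Finset.mem_filter.mp hφ
    have h1 := hF.mat φ hφS φ hφS
    have h2 : ¬ (2 : ℤ) ∣ N φ φ := fun hd => (not_dvd_blockMat_iff (p := 2) hM hb' (mem_bset.mp hφS)
      (mem_bset.mp hφS)).mpr ((hht φ (mem_bset.mp hφS)).mpr hφ0) (by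
        rw [(hht φ (mem_bset.mp hφS)).mpr hφ0, zero_add, pow_one]; exact_mod_cast hd)
    rw [Finset.sum_congr rfl fun i _ => eq_one_or_sq (hF.q_on rfl i φ hφS hφ0),
      eq_one_or_sq (hF.t_on φ hφS hφ0), Finset.sum_const, Finset.card_univ, Fintype.card_fin, hhz] at h1
    simp only [nsmul_eq_mul, mul_one] at h1
    rw [Int.even_iff]
    rcases Int.emod_two_eq_zero_or_one ((h' : ℤ) * j) with e | e
    · exact e
    · exact absurd (show (2 : ℤ) ∣ N φ φ by push_cast at h1; have h3 : N φ φ = (h' : ℤ) * j + 1 := (by linarith); omega) h2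
  have hqt : ∀ φ ∈ S, ∀ i, (2 : ℤ) ∣ q i φ - t φ := fun φ hφ i => by
    by_cases h0 : w' φ = 0
    · rw [hF.q_off i φ hφ h0]; rcases hF.t_off φ hφ h0 with e | e <;> rw [e] <;> norm_num
    · rcases hF.q_on rfl i φ hφ h0 with e | e <;> rcases hF.t_on φ hφ h0 with e' | e' <;> rw [e, e'] <;> norm_num
  have hQT : ∀ ψ ∈ O, ∀ i, (2 : ℤ) ∣ a (some i) ψ - a none ψ := fun ψ hψ i => by
    rw [haO _ ψ hψ, haO _ ψ hψ, neg_sub_neg, ← Finset.sum_sub_distrib]
    refine Finset.dvd_sum fun φ hφ => ?_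
    simp only [yv, Option.elim]
    rw [← mul_sub]
    exact ((dvd_sub_comm).mp (hqt φ hφ i)).mul_left _
  have hTeven : ∀ ψ ∈ O, Even (a none ψ) := fun ψ hψ => by
    by_contra ho
    have h1 := hOdiag ψ hψ
    have h2 : ∀ i, (2 : ℤ) ∣ a (some i) ψ * a (some i) ψ - 1 := fun i => by
      have h3 : Odd (a (some i) ψ) := by
        obtain ⟨r, hr⟩ := hQT ψ hψ i
        obtain ⟨r', hr'⟩ := Int.not_even_iff_odd.mp ho
        exact ⟨r + r', by omega⟩
      obtain ⟨r, hr⟩ := h3.mul h3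
      exact ⟨r, by omega⟩
    obtain ⟨r, hr⟩ : (2 : ℤ) ∣ (∑ i, a (some i) ψ * a (some i) ψ) - j := by
      have : (∑ i, a (some i) ψ * a (some i) ψ) - (j : ℤ) = ∑ i, (a (some i) ψ * a (some i) ψ - 1) := by
        rw [Finset.sum_sub_distrib]; simp
      rw [this]
      exact Finset.dvd_sum fun i _ => h2 i
    obtain ⟨r', hr'⟩ := (Int.not_even_iff_odd.mp ho).mul (Int.not_even_iff_odd.mp ho)
    obtain ⟨r'', hr''⟩ := hjh
    obtain ⟨e, he⟩ := hOeven ψ hψ
    rw [hhz, show ∑ i, a (some i) ψ * a (some i) ψ = 2 * r + j by omega, hr', he] at h1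
    push_cast at h1
    have h4 : (h' : ℤ) * (2 * r + j) = 2 * ((h' : ℤ) * r) + (r'' + r'') := by rw [← hr'']; ring
    have h5 : (4 : ℤ) * (e + e) = 4 * (2 * ((h' : ℤ) * r) + (r'' + r'') + (2 * r' + 1)) := by
      rw [← h4]; linear_combination h1
    omega
  have hQeven : ∀ ψ ∈ O, ∀ k, Even (a k ψ) := fun ψ hψ k => by
    rcases k with _ | i
    · exact hTeven ψ hψ
    · obtain ⟨r, hr⟩ := hQT ψ hψ i
      obtain ⟨r', hr'⟩ := hTeven ψ hψ
      exact ⟨r + r', by omega⟩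
  have hsome : ∀ ψ ∈ O, 4 ≤ ∑ k, a k ψ * a k ψ := fun ψ hψ => by
    obtain ⟨φ, hφ⟩ := Finset.card_pos.mp (by rw [hF.w_card]; norm_num : 0 < (S.filter fun x => w' x ≠ 0).card)
    obtain ⟨hφS, hφ0⟩ := Finset.mem_filter.mp hφ
    have h1 := hrow φ hφS hφ0 ψ hψ
    obtain ⟨k, hk0⟩ : ∃ k, a k ψ ≠ 0 := by
      by_contra! h0
      refine h1 ?_
      simp [h0]
    refine le_trans ?_ (Finset.single_le_sum (fun k _ => mul_self_nonneg (a k ψ)) (Finset.mem_univ k))
    obtain ⟨r, hr⟩ := hQeven ψ hψ k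
    have : r ≠ 0 := fun e => hk0 (by rw [hr, e]; rfl)
    rw [hr]
    nlinarith [mul_self_pos.mpr this]
  have hup : O.card ≤ j + h' := by
    have h1 := Finset.card_nsmul_le_sum O (fun ψ => ∑ k, a k ψ * a k ψ) 4 hsome
    rw [Finset.sum_comm, Finset.sum_congr rfl fun k _ => (haa k k).trans (if_pos rfl), Fintype.sum_option,
      nsmul_eq_mul] at h1
    simp only [mm, Option.elim, Finset.sum_const, Finset.card_univ, Fintype.card_fin, nsmul_eq_mul] at h1
    push_cast at h1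
    omega
  -- assemble
  have hmn : ∀ k, mm k = nn h k := by rintro (_ | i) <;> rfl
  refine ⟨j, w, a, Φ, hF.j_le, hrank, ?_, fun y hy => ?_, fun k y hy => ?_, ?_, fun k => ?_, fun k k' => ?_,
    fun k ψ hψ => ?_, fun ψ hψ y hy => ?_, fun k k' => ?_⟩
  · have h1 : (Nat.card b : ℕ) = (bset b).card := by
      rw [← Nat.card_eq_finsetCard]
      exact Nat.card_congr (Equiv.subtypeEquivRight fun χ => by simp)
    have h2 := hsplitZ fun _ => 1
    simp only [Finset.sum_const, nsmul_eq_mul, mul_one] at h2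
    have h3 := hF.two_card
    omega
  · rw [hsplit, Finset.sum_eq_zero (s := O) (fun ψ hψ => by rw [hwO ψ hψ]; simp), add_zero]
    simp only [hwinf]
    exact hw0 _ (hregq y hy)
  · rw [hsplit, haC k y hy]
    simp only [hainf]
    exact add_neg_cancel _
  · rw [hsplitZ, Finset.sum_eq_zero (s := O) (fun ψ hψ => by rw [hwO ψ hψ]; ring), add_zero]
    simp only [hwinf]
    show _ = ((4 : ℕ) : ℤ)
    rw [← hF.w_card, Finset.card_filter]
    push_cast
    exact Finset.sum_congr rfl fun φ hφ => by rcases hF.w_val φ hφ with e | e | e <;> simp [e]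
  · rw [hsplitZ, Finset.sum_eq_zero (s := O) (fun ψ hψ => by rw [hwO ψ hψ, zero_mul]), add_zero]
    simp only [hwinf, hainf]
    exact hwy k
  · rw [hsplitZ, haa]
    simp only [hainf, hyy, hmn]
    split_ifs <;> ring
  · by_cases hs : centScal ψ (zz ι) = -1
    · have hψO : ψ ∈ O := Finset.mem_filter.mpr ⟨hψ, hs⟩
      rw [hwO ψ hψO, sub_zero]
      exact (hQeven ψ hψO k).two_dvd
    · obtain ⟨φ, hφ, rfl⟩ := hrange ψ (mem_bset.mp hψ) ((hsq ψ).resolve_right hs)
      rw [hainf, hwinf]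
      have hwt : (2 : ℤ) ∣ t φ - w' φ := by
        rcases hF.w_val φ hφ with e | e | e
        · rcases hF.t_off φ hφ e with e' | e' <;> rw [e, e'] <;> norm_num
        · rcases hF.t_on φ hφ (by rw [e]; norm_num) with e' | e' <;> rw [e, e'] <;> norm_num
        · rcases hF.t_on φ hφ (by rw [e]; norm_num) with e' | e' <;> rw [e, e'] <;> norm_num
      rcases k with _ | i
      · exact hwt
      · have := dvd_add (hqt φ hφ i) hwt
        simpa [yv] using this
  · rw [char_central_mul ψ hz, hval ψ hψ y hy]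
    simp only [hmn]
  · rw [hinner, hcardG, hmn]
    ring

end CfsgLib.QuatDefect
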