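import Mathlib.Algebra.BigOperators.Fin
import Mathlib.Algebra.Order.BigOperators.Ring.Finset
import Mathlib.Tactic

/-!
# The shape of the vectors of a block with quaternion defect group

`invariants`: integral vectors `w`, `t`, `q` of norms `4`, `4 h`, `8` with exact divisibilities of
`M = (h / 2) ∑ q q + t t` give the heights and the number of characters.
-/

set_option autoImplicit false

open scoped Classical

namespace CfsgLib.QuatDefect.Comb

variable {α : Type*}

theorem mul_self_odd {a : ℤ} (ha : Odd a) : a * a = 1 ∨ a * a = 9 ∨ 25 ≤ a * a := by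
  obtain ⟨r, rfl⟩ := ha
  by_cases h : -2 ≤ r ∧ r ≤ 1
  · obtain ⟨h1, h2⟩ := h
    interval_cases r <;> norm_num
  · right; right
    rcases not_and_or.mp h with h1 | h1
    · nlinarith
    · nlinarith

theorem eq_one_of_mul_self {a : ℤ} (h : a * a = 1) : a = 1 ∨ a = -1 := mul_self_eq_one_iff.mp h

/-- Four odd entries of a short vector. -/
theorem four_ones {W : Finset α} {f : α → ℤ} (hW : W.card = 4) (hodd : ∀ x ∈ W, Odd (f x))
    (hle : ∑ x ∈ W, f x * f x ≤ 8) : ∀ x ∈ W, f x * f x = 1 := by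
  intro x hx
  have h1 : ∀ y ∈ W, 1 ≤ f y * f y := fun y hy => by
    rcases mul_self_odd (hodd y hy) with e | e | e <;> omega
  have h2 := Finset.card_nsmul_le_sum (W.erase x) (fun y => f y * f y) 1 fun y hy => h1 y (Finset.mem_of_mem_erase hy)
  rw [Finset.card_erase_of_mem hx, hW, nsmul_eq_mul, mul_one] at h2
  rw [← Finset.add_sum_erase W _ hx] at hle
  rcases mul_self_odd (hodd x hx) with e | e | e <;> push_cast at h2 <;> omega

/-- Two orthogonal sign vectors are not both orthogonal to a vector with one entry three times the others. -/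
theorem no_three {W : Finset α} {w q t : α → ℤ} (hW : W.card = 4) {x : α} (hx : x ∈ W)
    (hw : ∀ y ∈ W, w y = 1 ∨ w y = -1) (hq : ∀ y ∈ W, q y = 1 ∨ q y = -1)
    (htx : t x = 3 ∨ t x = -3) (ht : ∀ y ∈ W, y ≠ x → t y = 1 ∨ t y = -1)
    (hwt : ∑ y ∈ W, w y * t y = 0) (hqt : ∑ y ∈ W, q y * t y = 0) (hwq : ∑ y ∈ W, w y * q y = 0) : False := by
  obtain ⟨a, b, c, habc, he⟩ : ∃ a b c, (a ≠ b ∧ a ≠ c ∧ b ≠ c) ∧ W.erase x = {a, b, c} := by
    obtain ⟨a, b, c, h1, h2, h3, h4⟩ := Finset.card_eq_three.mp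
      (show (W.erase x).card = 3 by rw [Finset.card_erase_of_mem hx, hW])
    exact ⟨a, b, c, ⟨h1, h2, h3⟩, h4⟩
  have hm : ∀ y ∈ ({a, b, c} : Finset α), y ∈ W ∧ y ≠ x := fun y hy => by
    rw [← he] at hy
    exact ⟨Finset.mem_of_mem_erase hy, Finset.ne_of_mem_erase hy⟩
  obtain ⟨ha, ha'⟩ := hm a (by simp)
  obtain ⟨hb, hb'⟩ := hm b (by simp)
  obtain ⟨hc, hc'⟩ := hm c (by simp)
  rw [← Finset.add_sum_erase W _ hx, he, Finset.sum_insert (by simp [habc.1, habc.2.1]),
    Finset.sum_pair habc.2.2] at hwt hqt hwq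
  rcases hw x hx with e1 | e1 <;> rcases hw a ha with e2 | e2 <;> rcases hw b hb with e3 | e3 <;>
    rcases hw c hc with e4 | e4 <;> rcases htx with e5 | e5 <;> rcases ht a ha ha' with e6 | e6 <;>
    rcases ht b hb hb' with e7 | e7 <;> rcases ht c hc hc' with e8 | e8 <;>
    simp only [e1, e2, e3, e4, e5, e6, e7, e8] at hwt hqt hwq <;> (try omega) <;>
    rcases hq x hx with f1 | f1 <;> rcases hq a ha with f2 | f2 <;> rcases hq b hb with f3 | f3 <;>
    rcases hq c hc with f4 | f4 <;> omega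

set_option maxHeartbeats 1000000 in
/-- **The invariants.** -/
theorem invariants (S : Finset α) {n : ℕ} (hn : 3 ≤ n) {j l : ℕ} (hl : 1 ≤ l) (hj : j ≤ 2)
    (hcard : S.card = l + 2 ^ (n - 2) + 2) (w t : α → ℤ) (q : Fin j → α → ℤ) (ht : α → ℕ)
    (hww : ∑ x ∈ S, w x * w x = 4) (htt : ∑ x ∈ S, t x * t x = 4 * 2 ^ (n - 2))
    (hqq : ∀ i i', ∑ x ∈ S, q i x * q i' x = if i = i' then 8 else 0)
    (hwt : ∑ x ∈ S, w x * t x = 0) (hwq : ∀ i, ∑ x ∈ S, w x * q i x = 0)
    (hqt : ∀ i, ∑ x ∈ S, q i x * t x = 0)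
    (hpt : ∀ x ∈ S, (2 : ℤ) ∣ t x - w x) (hpq : ∀ i, ∀ x ∈ S, (2 : ℤ) ∣ q i x - w x)
    (hz : ∃ x ∈ S, ht x = 0) (hhle : ∀ x ∈ S, ht x ≠ 0 → ht x + 2 ≤ n)
    (hexact : ∀ x ∈ S, ht x = 0 → ∀ y ∈ S,
      (2 : ℤ) ^ ht y ∣ 2 ^ (n - 3) * (∑ i, q i x * q i y) + t x * t y ∧
        ¬ (2 : ℤ) ^ (ht y + 1) ∣ 2 ^ (n - 3) * (∑ i, q i x * q i y) + t x * t y) :
    l ≤ 3 ∧ (S.filter fun x => ht x = 0).card = 4 ∧
      (∀ x ∈ S, ht x = 0 ∨ ht x = 1 ∨ ht x = n - 2) ∧
      (4 ≤ n → (S.filter fun x => ht x = 1).card = 2 ^ (n - 2) - 1) := by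
  obtain ⟨m, rfl⟩ : ∃ m, n = m + 3 := ⟨n - 3, by omega⟩
  simp only [show m + 3 - 2 = m + 1 by omega, show m + 3 - 3 = m by omega] at *
  set M : α → α → ℤ := fun x y => 2 ^ m * (∑ i, q i x * q i y) + t x * t y with hM
  obtain ⟨x₀, hx₀, hx₀0⟩ := hz
  have hpq' : ∀ i, ∀ x ∈ S, Even (q i x) ↔ Even (w x) := fun i x hx =>
    Int.even_sub.mp (even_iff_two_dvd.mpr (hpq i x hx))
  have hpt' : ∀ x ∈ S, Even (t x) ↔ Even (w x) := fun x hx => Int.even_sub.mp (even_iff_two_dvd.mpr (hpt x hx))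
  have hMmod : ∀ x ∈ S, ∀ y ∈ S, Even (w x) ∨ Even (w y) → Even (M x y) := by
    intro x hx y hy he
    refine Even.add (Even.mul_left (Finset.even_sum _ fun i _ => ?_) _) ?_
    · rcases he with e | e
      · exact ((hpq' i x hx).mpr e).mul_right _
      · exact ((hpq' i y hy).mpr e).mul_left _
    · rcases he with e | e
      · exact ((hpt' x hx).mpr e).mul_right _
      · exact ((hpt' y hy).mpr e).mul_left _
  have hht : ∀ x ∈ S, ht x = 0 ↔ Odd (w x) := by
    intro x hx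
    have hw0 : Odd (w x₀) := by
      rw [← Int.not_even_iff_odd]
      intro he
      have h1 := (hexact x₀ hx₀ hx₀0 x₀ hx₀).2
      rw [hx₀0, zero_add, pow_one] at h1
      exact h1 (hMmod x₀ hx₀ x₀ hx₀ (Or.inl he)).two_dvd
    constructor
    · intro h0
      rw [← Int.not_even_iff_odd]
      intro he
      have h1 := (hexact x₀ hx₀ hx₀0 x hx).2
      rw [h0, zero_add, pow_one] at h1
      exact h1 (hMmod x₀ hx₀ x hx (Or.inr he)).two_dvd
    · intro ho
      by_contra h0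
      have h1 := (hexact x₀ hx₀ hx₀0 x hx).1
      have h2 := (hexact x₀ hx₀ hx₀0 x₀ hx₀).2
      rw [hx₀0, zero_add, pow_one] at h2
      refine h2 ?_
      have h3 : (2 : ℤ) ∣ M x₀ x := (dvd_pow_self (2 : ℤ) h0).trans h1
      have hodd : ∀ {a b : ℤ}, Odd a → Odd b → (2 : ℤ) ∣ a - b := fun ha hb => (ha.sub_odd hb).two_dvd
      have hqx : ∀ i, Odd (q i x) := fun i => by
        rw [← Int.not_even_iff_odd, hpq' i x hx, Int.not_even_iff_odd]; exact ho
      have hqx0 : ∀ i, Odd (q i x₀) := fun i => by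
        rw [← Int.not_even_iff_odd, hpq' i x₀ hx₀, Int.not_even_iff_odd]; exact hw0
      have htx : Odd (t x) := by rw [← Int.not_even_iff_odd, hpt' x hx, Int.not_even_iff_odd]; exact ho
      have htx0 : Odd (t x₀) := by rw [← Int.not_even_iff_odd, hpt' x₀ hx₀, Int.not_even_iff_odd]; exact hw0
      have h4 : (2 : ℤ) ∣ M x₀ x₀ - M x₀ x := by
        rw [show M x₀ x₀ - M x₀ x = 2 ^ m * ∑ i, q i x₀ * (q i x₀ - q i x) + t x₀ * (t x₀ - t x) by
          simp only [hM, mul_sub, Finset.sum_sub_distrib]; ring]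
        exact dvd_add (Dvd.dvd.mul_left (Finset.dvd_sum fun i _ => (hodd (hqx0 i) (hqx i)).mul_left _) _)
          ((hodd htx0 htx).mul_left _)
      have := dvd_add h4 h3
      rwa [sub_add_cancel] at this
  set W := S.filter fun x => ht x = 0 with hW
  set R := S.filter fun x => ¬ ht x = 0 with hR
  have hsplit : ∀ F : α → ℤ, ∑ x ∈ S, F x = ∑ x ∈ W, F x + ∑ x ∈ R, F x := fun F =>
    (Finset.sum_filter_add_sum_filter_not S _ F).symm
  have hWS : ∀ x ∈ W, x ∈ S ∧ Odd (w x) := fun x hx =>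
    ⟨(Finset.mem_filter.mp hx).1, (hht x (Finset.mem_filter.mp hx).1).mp (Finset.mem_filter.mp hx).2⟩
  have hRS : ∀ x ∈ R, x ∈ S ∧ Even (w x) := fun x hx => by
    obtain ⟨h1, h2⟩ := Finset.mem_filter.mp hx
    rw [hht x h1, Int.not_odd_iff_even] at h2
    exact ⟨h1, h2⟩
  have hodd1 : ∀ a : ℤ, Odd a → ∃ r, a * a = 8 * r + 1 := fun a ha => by
    obtain ⟨r, rfl⟩ := ha
    obtain ⟨s, hs⟩ := Int.even_mul_succ_self r
    exact ⟨s, by linear_combination 4 * hs⟩
  have heven1 : ∀ a : ℤ, Even a → ∃ r, a * a = 4 * r := fun a ha => by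
    obtain ⟨r, rfl⟩ := ha
    exact ⟨r * r, by ring⟩
  -- the members of height zero
  have hWcard : W.card = 4 ∧ (∀ x ∈ W, w x = 1 ∨ w x = -1) ∧ ∀ x ∈ R, w x = 0 := by
    have h1 := hsplit fun x => w x * w x
    rw [hww] at h1
    have hW1 : ∀ x ∈ W, 1 ≤ w x * w x := fun x hx => by
      rcases mul_self_odd (hWS x hx).2 with e | e | e <;> omega
    have hR0 : 0 ≤ ∑ x ∈ R, w x * w x := Finset.sum_nonneg fun x _ => mul_self_nonneg _
    have h2 := Finset.card_nsmul_le_sum W (fun x => w x * w x) 1 hW1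
    rw [nsmul_eq_mul, mul_one] at h2
    have h3 : (8 : ℤ) ∣ ∑ x ∈ W, w x * w x - W.card := by
      rw [Finset.cast_card, ← Finset.sum_sub_distrib]
      exact Finset.dvd_sum fun x hx => by
        obtain ⟨r, hr⟩ := hodd1 _ (hWS x hx).2
        exact ⟨r, by rw [hr]; ring⟩
    have h4 : (4 : ℤ) ∣ ∑ x ∈ R, w x * w x := Finset.dvd_sum fun x hx => by
      obtain ⟨r, hr⟩ := heven1 _ (hRS x hx).2
      exact ⟨r, hr⟩
    have h5 : 0 < W.card := Finset.card_pos.mpr ⟨x₀, Finset.mem_filter.mpr ⟨hx₀, hx₀0⟩⟩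
    have h6 : W.card = 4 := by omega
    refine ⟨h6, fun x hx => eq_one_of_mul_self ?_, fun x hx => ?_⟩
    · exact four_ones h6 (fun y hy => (hWS y hy).2) (by omega) x hx
    · exact mul_self_eq_zero.mp ((Finset.sum_eq_zero_iff_of_nonneg fun y _ => mul_self_nonneg (w y)).mp
        (by omega) x hx)
  obtain ⟨hW4, hwW, hwR⟩ := hWcard
  -- the short vectors
  have hq : ∀ i, (∀ x ∈ W, q i x = 1 ∨ q i x = -1) ∧ ∃ x ∈ R, (q i x = 2 ∨ q i x = -2) ∧
      ∀ y ∈ R, y ≠ x → q i y = 0 := by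
    intro i
    have hodd : ∀ x ∈ W, Odd (q i x) := fun x hx => by
      rw [← Int.not_even_iff_odd, hpq' i x (hWS x hx).1, Int.not_even_iff_odd]; exact (hWS x hx).2
    have h1 := hsplit fun x => q i x * q i x
    rw [hqq, if_pos rfl] at h1
    have hR0 : 0 ≤ ∑ x ∈ R, q i x * q i x := Finset.sum_nonneg fun x _ => mul_self_nonneg _
    have hone := four_ones hW4 hodd (by omega)
    have h2 : ∑ x ∈ W, q i x * q i x = 4 := by
      rw [Finset.sum_congr rfl hone, Finset.sum_const, hW4]; rfl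
    obtain ⟨x, hx, hxne⟩ := Finset.exists_ne_zero_of_sum_ne_zero
      (show ∑ x ∈ R, q i x * q i x ≠ 0 by omega)
    obtain ⟨r, hr⟩ := (hpq' i x (hRS x hx).1).mpr (hRS x hx).2
    have hr0 : r ≠ 0 := fun e => hxne (by rw [hr, e]; ring)
    have h3 : 4 ≤ q i x * q i x := by rw [hr]; nlinarith [mul_self_pos.mpr hr0]
    have h4 := Finset.add_sum_erase R (fun y => q i y * q i y) hx
    have h5 : 0 ≤ ∑ y ∈ R.erase x, q i y * q i y := Finset.sum_nonneg fun y _ => mul_self_nonneg _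
    refine ⟨fun y hy => eq_one_of_mul_self (hone y hy), x, hx, ?_, fun y hy hne => ?_⟩
    · have h6 : q i x * q i x = 4 := by omega
      rcases mul_eq_zero.mp (show (q i x - 2) * (q i x + 2) = 0 by linear_combination h6) with e | e <;> omega
    · exact mul_self_eq_zero.mp ((Finset.sum_eq_zero_iff_of_nonneg fun y _ => mul_self_nonneg (q i y)).mp
        (by omega) y (Finset.mem_erase.mpr ⟨hne, hy⟩))
  choose hqW e heR hq2 hq0 using hq
  have hqR : ∀ i, ∀ F : α → ℤ, ∑ y ∈ R, q i y * F y = q i (e i) * F (e i) := fun i F =>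
    Finset.sum_eq_single _ (fun y hy hne => by rw [hq0 i y hy hne, zero_mul]) fun hn => absurd (heR i) hn
  have hinj : Function.Injective e := by
    intro i i' heq
    by_contra hne
    have hpm : ∀ k, ∀ y ∈ W, |q k y| = 1 := fun k y hy => by rcases hqW k y hy with h | h <;> rw [h] <;> rfl
    obtain ⟨σ, hσ1, hσ, hσq⟩ : ∃ σ : ℤ, (σ = 1 ∨ σ = -1) ∧ q i' (e i) = -σ * q i (e i) ∧
        ∀ y ∈ W, q i' y = σ * q i y := by
      have h1 := hsplit fun y => q i y * q i' y
      rw [hqq, if_neg hne, hqR] at h1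
      have h2 : q i' (e i) = 2 ∨ q i' (e i) = -2 := heq ▸ hq2 i'
      obtain ⟨σ, hσ1, hσ⟩ : ∃ σ : ℤ, (σ = 1 ∨ σ = -1) ∧ q i' (e i) = -σ * q i (e i) := by
        rcases hq2 i with a | a <;> rcases h2 with b | b
        · exact ⟨-1, Or.inr rfl, by rw [a, b]; norm_num⟩
        · exact ⟨1, Or.inl rfl, by rw [a, b]; norm_num⟩
        · exact ⟨1, Or.inl rfl, by rw [a, b]; norm_num⟩
        · exact ⟨-1, Or.inr rfl, by rw [a, b]; norm_num⟩
      refine ⟨σ, hσ1, hσ, fun y hy => ?_⟩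
      have hsq : q i (e i) * q i (e i) = 4 := by rcases hq2 i with a | a <;> rw [a] <;> norm_num
      have h3 : ∑ z ∈ W, (q i' z - σ * q i z) * (q i' z - σ * q i z) = 0 := by
        have e1 : ∑ z ∈ W, q i z * q i' z = 4 * σ := by
          rw [hσ] at h1; linear_combination -h1 + σ * hsq
        have e2 : ∀ k, ∑ z ∈ W, q k z * q k z = 4 := fun k => by
          rw [Finset.sum_congr rfl fun z hz => show q k z * q k z = 1 by
            rcases hqW k z hz with a | a <;> rw [a] <;> norm_num, Finset.sum_const, hW4]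
          rfl
        simp only [mul_sub, sub_mul, Finset.sum_sub_distrib]
        rw [e2 i', Finset.sum_congr rfl fun z _ => show σ * q i z * q i' z = σ * (q i z * q i' z) by ring,
          Finset.sum_congr rfl fun z _ => show q i' z * (σ * q i z) = σ * (q i z * q i' z) by ring,
          Finset.sum_congr rfl fun z _ => show σ * q i z * (σ * q i z) = σ * σ * (q i z * q i z) by ring,
          ← Finset.mul_sum, ← Finset.mul_sum, e1, e2 i]
        rcases hσ1 with a | a <;> rw [a] <;> norm_num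
      exact sub_eq_zero.mp (mul_self_eq_zero.mp
        ((Finset.sum_eq_zero_iff_of_nonneg fun z _ => mul_self_nonneg _).mp h3 y hy))
    have h3 := hsplit fun y => q i y * t y
    rw [hqt, hqR] at h3
    have h4 := hsplit fun y => q i' y * t y
    rw [hqt, hqR, ← heq, Finset.sum_congr rfl fun y hy => show q i' y * t y = σ * (q i y * t y) by
      rw [hσq y hy]; ring, ← Finset.mul_sum, hσ] at h4
    have hte : t (e i) = 0 := by
      refine (mul_eq_zero.mp (show 2 * σ * q i (e i) * t (e i) = 0 by linear_combination h4 - σ * h3)).resolve_left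
        (mul_ne_zero (mul_ne_zero two_ne_zero ?_) ?_)
      · rcases hσ1 with a | a <;> rw [a] <;> norm_num
      · rcases hq2 i with a | a <;> rw [a] <;> norm_num
    have hj2 : ∀ k, k = i ∨ k = i' := fun k => by
      rcases i with ⟨a, ha⟩; rcases i' with ⟨b, hb⟩; rcases k with ⟨c, hc⟩
      simp only [Fin.ext_iff] at hne ⊢
      omega
    refine (hexact x₀ hx₀ hx₀0 (e i) (hRS _ (heR i)).1).2 ?_
    have hx0W : x₀ ∈ W := Finset.mem_filter.mpr ⟨hx₀, hx₀0⟩
    rw [hte, mul_zero, add_zero, show (∑ k, q k x₀ * q k (e i)) = 0 by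
      rw [show (Finset.univ : Finset (Fin j)) = {i, i'} by ext k; simpa using hj2 k, Finset.sum_pair hne,
        hσq x₀ hx0W, hσ]
      rcases hσ1 with a | a <;> rw [a] <;> ring, mul_zero]
    exact dvd_zero _
  -- the long vector
  have htW : ∀ x ∈ W, Odd (t x) := fun x hx => by
    rw [← Int.not_even_iff_odd, hpt' x (hWS x hx).1, Int.not_even_iff_odd]; exact (hWS x hx).2
  set U := R.filter fun x => t x = 0 with hU
  set P := R.filter fun x => ¬ t x = 0 with hP
  have hUe : U ⊆ Finset.univ.image e := by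
    intro x hx
    obtain ⟨hxR, hx0⟩ := Finset.mem_filter.mp hx
    by_contra hne
    refine (hexact x₀ hx₀ hx₀0 x (hRS x hxR).1).2 ?_
    rw [hx0, show (∑ i, q i x₀ * q i x) = 0 from Finset.sum_eq_zero fun i _ => by
      rw [hq0 i x hxR fun he => hne (Finset.mem_image.mpr ⟨i, Finset.mem_univ i, he.symm⟩), mul_zero]]
    simp
  have hU2 : U.card ≤ j := (Finset.card_le_card hUe).trans (Finset.card_image_le.trans (by simp))
  have hPt : ∀ x ∈ P, ∃ r : ℤ, t x = 2 * r ∧ 1 ≤ r * r := fun x hx => by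
    obtain ⟨hxR, hx0⟩ := Finset.mem_filter.mp hx
    obtain ⟨r, hr⟩ := (hpt' x (hRS x hxR).1).mpr (hRS x hxR).2
    have h1 : 0 < r * r := mul_self_pos.mpr (fun e => hx0 (by rw [hr, e]; ring))
    exact ⟨r, by omega, by omega⟩
  have hcardS : W.card + (U.card + P.card) = S.card := by
    rw [Finset.card_filter_add_card_filter_not, Finset.card_filter_add_card_filter_not]
  have htsum : ∑ x ∈ W, t x * t x + ∑ x ∈ P, t x * t x = 4 * 2 ^ (m + 1) := by
    have h1 := hsplit fun x => t x * t x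
    have h0 : ∑ x ∈ R.filter (fun x => t x = 0), t x * t x = 0 :=
      Finset.sum_eq_zero fun x hx => by rw [(Finset.mem_filter.mp hx).2, mul_zero]
    rw [htt, ← Finset.sum_filter_add_sum_filter_not R (fun x => t x = 0), h0, zero_add] at h1
    exact h1.symm
  have hP4 : ∀ x ∈ P, 4 ≤ t x * t x := fun x hx => by
    obtain ⟨r, hr, hr1⟩ := hPt x hx; rw [hr]; nlinarith
  have hPsum := Finset.card_nsmul_le_sum P (fun x => t x * t x) 4 hP4
  rw [nsmul_eq_mul] at hPsum
  obtain ⟨H, hH⟩ : ∃ H : ℕ, H = 2 ^ (m + 1) := ⟨_, rfl⟩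
  have hHZ : (2 : ℤ) ^ (m + 1) = (H : ℤ) := by rw [hH]; push_cast; rfl
  have hH1 : 2 ≤ H := by rw [hH]; exact Nat.le_self_pow (by omega) 2
  rw [← hH] at hcard
  rw [hHZ] at htsum
  have hWt4 : ∑ x ∈ W, t x * t x = 4 := by
    have hge : ∀ x ∈ W, 1 ≤ t x * t x := fun x hx => by
      rcases mul_self_odd (htW x hx) with h | h | h <;> omega
    have h1 := Finset.card_nsmul_le_sum W (fun x => t x * t x) 1 hge
    rw [hW4, nsmul_eq_mul] at h1
    have h3 : (8 : ℤ) ∣ ∑ x ∈ W, t x * t x - W.card := by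
      rw [Finset.cast_card, ← Finset.sum_sub_distrib]
      exact Finset.dvd_sum fun x hx => by
        obtain ⟨r, hr⟩ := hodd1 _ (htW x hx)
        exact ⟨r, by rw [hr]; ring⟩
    by_contra hne
    have h12 : ∑ x ∈ W, t x * t x ≤ 12 ∧ U.Nonempty := by
      constructor
      · omega
      · rw [← Finset.card_pos]; omega
    obtain ⟨x, hx⟩ := h12.2
    obtain ⟨i, -, rfl⟩ := Finset.mem_image.mp (hUe hx)
    obtain ⟨y, hy, hy9⟩ : ∃ y ∈ W, t y * t y ≠ 1 := by
      by_contra! hall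
      exact hne (by rw [Finset.sum_congr rfl hall, Finset.sum_const, hW4]; rfl)
    have hsum := Finset.add_sum_erase W (fun z => t z * t z) hy
    have hrest := Finset.card_nsmul_le_sum (W.erase y) (fun z => t z * t z) 1 fun z hz =>
      hge z (Finset.mem_of_mem_erase hz)
    rw [Finset.card_erase_of_mem hy, hW4, nsmul_eq_mul] at hrest
    have hy3 : t y * t y = 9 := by
      rcases mul_self_odd (htW y hy) with h | h | h
      · exact absurd h hy9
      · exact h
      · omega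
    have hones : ∀ z ∈ W, z ≠ y → t z = 1 ∨ t z = -1 := fun z hz hzy => by
      refine eq_one_of_mul_self ?_
      have hz' : z ∈ W.erase y := Finset.mem_erase.mpr ⟨hzy, hz⟩
      have h5 := Finset.add_sum_erase (W.erase y) (fun u => t u * t u) hz'
      have h6 := Finset.card_nsmul_le_sum ((W.erase y).erase z) (fun u => t u * t u) 1 fun u hu =>
        hge u (Finset.mem_of_mem_erase (Finset.mem_of_mem_erase hu))
      rw [Finset.card_erase_of_mem hz', Finset.card_erase_of_mem hy, hW4, nsmul_eq_mul] at h6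
      rcases mul_self_odd (htW z hz) with h | h | h
      · exact h
      · omega
      · omega
    refine no_three hW4 hy hwW (hqW i) ?_ hones ?_ ?_ ?_
    · rcases mul_eq_zero.mp (show (t y - 3) * (t y + 3) = 0 by linear_combination hy3) with h | h <;> omega
    · have := hsplit fun z => w z * t z
      rw [hwt, Finset.sum_eq_zero (s := R) fun z hz => by rw [hwR z hz, zero_mul], add_zero] at this
      exact this.symm
    · have := hsplit fun z => q i z * t z
      rw [hqt, hqR, (Finset.mem_filter.mp hx).2, mul_zero, add_zero] at this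
      exact this.symm
    · have := hsplit fun z => w z * q i z
      rw [hwq, Finset.sum_eq_zero (s := R) fun z hz => by rw [hwR z hz, zero_mul], add_zero] at this
      exact this.symm
  have hP2 : ∀ x ∈ P, t x = 2 ∨ t x = -2 := by
    intro x hx
    by_contra hne
    obtain ⟨r, hr, hr1⟩ := hPt x hx
    have h16 : 16 ≤ t x * t x := by
      have hr0 : r ≠ 0 := fun e => by rw [e] at hr1; norm_num at hr1
      have : r ≤ -2 ∨ 2 ≤ r := by omega
      rw [hr]; rcases this with h | h <;> nlinarith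
    have h1 := Finset.add_sum_erase P (fun z => t z * t z) hx
    have h2 := Finset.card_nsmul_le_sum (P.erase x) (fun z => t z * t z) 4 fun z hz =>
      hP4 z (Finset.mem_of_mem_erase hz)
    rw [Finset.card_erase_of_mem hx, nsmul_eq_mul] at h2
    have h3 : 1 ≤ P.card := Finset.card_pos.mpr ⟨x, hx⟩
    omega
  have hPcard : P.card = H - 1 := by
    have h0 : ∑ x ∈ P, t x * t x = (P.card : ℤ) * 4 := by
      rw [Finset.sum_congr rfl fun x hx => show t x * t x = 4 by
        rcases hP2 x hx with a | a <;> rw [a] <;> norm_num, Finset.sum_const, nsmul_eq_mul]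
    rw [h0, hWt4] at htsum
    omega
  -- heights
  have hW0t : t x₀ = 1 ∨ t x₀ = -1 :=
    eq_one_of_mul_self (four_ones hW4 htW (by omega) x₀ (Finset.mem_filter.mpr ⟨hx₀, hx₀0⟩))
  have hMR : ∀ x ∈ R, ∃ ε : ℤ, (ε = 0 ∧ x ∉ Finset.univ.image e ∨ ε = 1 ∨ ε = -1) ∧
      M x₀ x = 2 ^ (m + 1) * ε + t x₀ * t x := by
    intro x hx
    by_cases hxe : x ∈ Finset.univ.image e
    · obtain ⟨i, -, rfl⟩ := Finset.mem_image.mp hxe
      refine ⟨q i x₀ * (q i (e i) / 2), Or.inr ?_, ?_⟩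
      · rcases hqW i x₀ (Finset.mem_filter.mpr ⟨hx₀, hx₀0⟩) with a | a <;>
          rcases hq2 i with b | b <;> rw [a, b] <;> norm_num
      · simp only [hM]
        rw [Finset.sum_eq_single i (fun k _ hk => by
          rw [hq0 k (e i) (heR i) fun he => hk (hinj he).symm, mul_zero]) (by simp)]
        rcases hq2 i with b | b <;> rw [b] <;> norm_num <;> ring
    · refine ⟨0, Or.inl ⟨rfl, hxe⟩, ?_⟩
      simp only [hM]
      rw [Finset.sum_eq_zero fun i _ => by
        rw [hq0 i x hx fun he => hxe (Finset.mem_image.mpr ⟨i, Finset.mem_univ i, he.symm⟩), mul_zero]]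
      ring
  have hR1 : ∀ x ∈ R, ht x ≠ 0 ∧ ht x ≤ m + 1 := fun x hx => by
    obtain ⟨h1, h2⟩ := Finset.mem_filter.mp hx
    have := hhle x h1 h2
    exact ⟨h2, by omega⟩
  have hhP : ∀ x ∈ P, ht x = 1 := by
    intro x hx
    have hxR := (Finset.mem_filter.mp hx).1
    obtain ⟨h0, hle⟩ := hR1 x hxR
    rcases Nat.eq_zero_or_pos m with rfl | hm
    · omega
    · obtain ⟨ε, -, hε⟩ := hMR x hxR
      by_contra hne
      have h4 : (4 : ℤ) ∣ M x₀ x :=
        (show (4 : ℤ) ∣ 2 ^ ht x from (by norm_num : (4 : ℤ) = 2 ^ 2) ▸ pow_dvd_pow 2 (by omega)).trans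
          (hexact x₀ hx₀ hx₀0 x (hRS x hxR).1).1
      have h5 : (4 : ℤ) ∣ 2 ^ (m + 1) * ε :=
        ((by norm_num : (4 : ℤ) = 2 ^ 2) ▸ pow_dvd_pow 2 (by omega) : (4 : ℤ) ∣ 2 ^ (m + 1)).mul_right _
      rw [hε] at h4
      have h6 := (dvd_add_right h5).mp h4
      rcases hW0t with a | a <;> rcases hP2 x hx with b | b <;> rw [a, b] at h6 <;> norm_num at h6
  have hhU : ∀ x ∈ U, ht x = m + 1 := by
    intro x hx
    obtain ⟨hxR, hx0⟩ := Finset.mem_filter.mp hx
    obtain ⟨h0, hle⟩ := hR1 x hxR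
    obtain ⟨ε, hεc, hε⟩ := hMR x hxR
    have hε1 : ε = 1 ∨ ε = -1 := hεc.resolve_left fun h => h.2 (hUe hx)
    by_contra hne
    refine (hexact x₀ hx₀ hx₀0 x (hRS x hxR).1).2 ?_
    show _ ∣ M x₀ x
    rw [hε, hx0, mul_zero, add_zero]
    exact (pow_dvd_pow 2 (by omega)).mul_right _
  have hcases : ∀ x ∈ S, x ∈ W ∨ x ∈ U ∨ x ∈ P := fun x hx => by
    simp only [hW, hU, hP, hR, Finset.mem_filter, hx, true_and]; tauto
  refine ⟨?_, hW4, fun x hx => ?_, fun hn4 => ?_⟩
  · omega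
  · rcases hcases x hx with h | h | h
    · exact Or.inl (Finset.mem_filter.mp h).2
    · exact Or.inr (Or.inr (by rw [hhU x h]))
    · exact Or.inr (Or.inl (hhP x h))
  · rw [← hH, show (S.filter fun x => ht x = 1) = P from ?_, hPcard]
    refine Finset.ext fun x => ⟨fun hx => ?_, fun hx => ?_⟩
    · obtain ⟨hxS, hx1⟩ := Finset.mem_filter.mp hx
      rcases hcases x hxS with h | h | h
      · have := (Finset.mem_filter.mp h).2; omega
      · have := hhU x h; omega
      · exact h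
    · exact Finset.mem_filter.mpr ⟨(hRS x (Finset.mem_filter.mp hx).1).1, hhP x hx⟩

end CfsgLib.QuatDefect.Comb
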