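import Cfsg.Agent.Lib.Invol.DihedralSylow
import Mathlib.GroupTheory.SpecificGroups.Quaternion

/-!
# Generalised quaternion 2-subgroups

* `QData`: a generalised quaternion subgroup of order `4 h`;
* `QData.eq_one_or_zz`, `QData.zz_mem_zpowers`: the unique involution;
* `toDihedral`: the map onto the dihedral group of order `2 h`.
-/

set_option autoImplicit false

namespace CfsgLib.QuatDefect

open QuaternionGroup CfsgLib.Invol.DihedralSylow

variable {h : ℕ}

theorem half_add_half : (h : ZMod (2 * h)) + (h : ZMod (2 * h)) = 0 := by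
  rw [← two_mul]; exact two_half rfl

theorem a_inv (i : ZMod (2 * h)) : (a i : QuaternionGroup h)⁻¹ = a (-i) := by
  rw [inv_eq_iff_mul_eq_one, a_mul_a, add_neg_cancel, a_zero]

theorem xa_inv (i : ZMod (2 * h)) : (xa i : QuaternionGroup h)⁻¹ = xa ((h : ZMod (2 * h)) + i) := by
  rw [inv_eq_iff_mul_eq_one, xa_mul_xa, one_def]
  congr 1
  linear_combination half_add_half (h := h)

theorem half_central (x : QuaternionGroup h) :
    x * a (h : ZMod (2 * h)) = a (h : ZMod (2 * h)) * x := by
  rcases x with i | i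
  · rw [a_mul_a, a_mul_a, add_comm]
  · rw [xa_mul_a, a_mul_xa]
    congr 1
    linear_combination half_add_half (h := h)

/-- A generalised quaternion 2-subgroup with the central involution `ι (a h)`. -/
structure QData {G : Type*} [Group G] (D : Subgroup G) (ι : QuaternionGroup h →* G) : Prop where
  inj : Function.Injective ι
  range : ι.range = D
  two_le : 2 ≤ h
  pow : ∃ k : ℕ, h = 2 ^ k

variable {G : Type*} [Group G] {D : Subgroup G} {ι : QuaternionGroup h →* G}

theorem QData.neZero (d : QData D ι) : NeZero h := ⟨by have := d.two_le; omega⟩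

theorem QData.mem (d : QData D ι) (x : QuaternionGroup h) : ι x ∈ D := d.range ▸ ⟨x, rfl⟩

theorem QData.surj (d : QData D ι) {y : G} (hy : y ∈ D) : ∃ x, ι x = y := by
  rw [← d.range] at hy; exact hy

theorem QData.card (d : QData D ι) : Nat.card D = 4 * h := by
  have := d.neZero
  rw [← d.range, ← Nat.card_congr (MonoidHom.ofInjective d.inj).toEquiv, Nat.card_eq_fintype_card,
    QuaternionGroup.card]

theorem QData.isPGroup (d : QData D ι) : IsPGroup 2 D := by
  obtain ⟨k, hk⟩ := d.pow
  exact IsPGroup.of_card (n := k + 2) (by rw [d.card, hk, pow_add]; ring)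

/-- The central involution. -/
abbrev zz (ι : QuaternionGroup h →* G) : G := ι (a (h : ZMod (2 * h)))

theorem QData.zz_mem (d : QData D ι) : zz ι ∈ D := d.mem _

theorem QData.zz_ne_one (d : QData D ι) : zz ι ≠ 1 := by
  rw [← map_one ι, Ne, d.inj.eq_iff, one_def, a.injEq]
  exact half_ne_zero rfl (by have := d.two_le; omega)

theorem QData.zz_sq (d : QData D ι) : zz ι * zz ι = 1 := by
  rw [← map_mul, a_mul_a, half_add_half, a_zero, map_one]

theorem QData.orderOf_zz (d : QData D ι) : orderOf (zz ι) = 2 :=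
  orderOf_eq_prime (by rw [pow_two]; exact d.zz_sq) d.zz_ne_one

theorem QData.zz_comm (d : QData D ι) {y : G} (hy : y ∈ D) : y * zz ι = zz ι * y := by
  obtain ⟨x, rfl⟩ := d.surj hy
  rw [← map_mul, ← map_mul, half_central]

theorem QData.le_cen (d : QData D ι) :
    D ≤ Subgroup.centralizer ((Subgroup.zpowers (zz ι) : Subgroup G) : Set G) := by
  intro y hy
  rw [Subgroup.zpowers_eq_closure, Subgroup.centralizer_closure, Subgroup.mem_centralizer_singleton_iff]
  exact d.zz_comm hy

/-- The involution is unique. -/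
theorem QData.eq_one_or_zz (d : QData D ι) {y : G} (hy : y ∈ D) (h2 : y * y = 1) :
    y = 1 ∨ y = zz ι := by
  obtain ⟨x, rfl⟩ := d.surj hy
  rw [← map_mul, ← map_one ι, d.inj.eq_iff] at h2
  rcases x with i | i
  · rw [a_mul_a, one_def, a.injEq, ← two_mul] at h2
    rcases two_cancel rfl (by have := d.two_le; omega) h2 with rfl | rfl
    · left; rw [a_zero, map_one]
    · exact Or.inr rfl
  · rw [xa_mul_xa, one_def, a.injEq, add_sub_cancel_right] at h2
    exact absurd h2 (half_ne_zero rfl (by have := d.two_le; omega))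

/-- Every nontrivial element generates a subgroup containing the central involution. -/
theorem QData.zz_mem_zpowers (d : QData D ι) {y : G} (hy : y ∈ D) (h1 : y ≠ 1) :
    zz ι ∈ Subgroup.zpowers y := by
  obtain ⟨k, hk⟩ := IsPGroup.iff_orderOf.mp d.isPGroup ⟨y, hy⟩
  rw [Subgroup.orderOf_mk] at hk
  obtain ⟨k, rfl⟩ : ∃ k', k = k' + 1 := by
    refine ⟨k - 1, ?_⟩
    rcases k with _ | k
    · rw [pow_zero, orderOf_eq_one_iff] at hk
      exact absurd hk h1
    · rfl
  have ho : orderOf (y ^ 2 ^ k) = 2 := by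
    rw [orderOf_pow' _ (pow_ne_zero _ two_ne_zero), hk,
      Nat.gcd_eq_right (Dvd.intro 2 (pow_succ 2 k).symm), pow_succ,
      Nat.mul_div_cancel_left _ (pow_pos two_pos k)]
  rcases d.eq_one_or_zz (D.pow_mem hy (2 ^ k)) (by rw [← pow_two]; exact orderOf_dvd_iff_pow_eq_one.mp ho.dvd) with e | e
  · rw [e, orderOf_one] at ho
    omega
  · rw [← e]
    exact Subgroup.pow_mem _ (Subgroup.mem_zpowers _) _

/-- The quotient by the centre. -/
def toDihedral (h : ℕ) : QuaternionGroup h →* DihedralGroup h :=
  MonoidHom.mk'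
    (fun
      | a i => DihedralGroup.r (ZMod.castHom (dvd_mul_left h 2) (ZMod h) i)
      | xa i => DihedralGroup.sr (ZMod.castHom (dvd_mul_left h 2) (ZMod h) i))
    (by
      rintro (i | i) (j | j)
      · simp only [a_mul_a, DihedralGroup.r_mul_r, map_add]
      · simp only [a_mul_xa, DihedralGroup.r_mul_sr, map_sub]
      · simp only [xa_mul_a, DihedralGroup.sr_mul_r, map_add]
      · simp only [xa_mul_xa, DihedralGroup.sr_mul_sr, map_sub, map_add, map_natCast, ZMod.natCast_self,
          zero_add])

theorem toDihedral_surjective : Function.Surjective (toDihedral h) := by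
  rintro (i | i) <;> obtain ⟨j, hj⟩ := ZMod.ringHom_surjective (ZMod.castHom (dvd_mul_left h 2) (ZMod h)) i
  · exact ⟨a j, congrArg DihedralGroup.r hj⟩
  · exact ⟨xa j, congrArg DihedralGroup.sr hj⟩

theorem toDihedral_eq_one_iff [NeZero h] (x : QuaternionGroup h) :
    toDihedral h x = 1 ↔ x = 1 ∨ x = a (h : ZMod (2 * h)) := by
  rcases x with i | i
  · rw [DihedralGroup.one_def, one_def, a.injEq, a.injEq]
    show DihedralGroup.r _ = DihedralGroup.r 0 ↔ _
    rw [DihedralGroup.r.injEq]
    constructor
    · intro hi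
      have hlt : i.val < 2 * h := ZMod.val_lt i
      rw [← ZMod.natCast_zmod_val i, map_natCast, ZMod.natCast_eq_zero_iff] at hi
      obtain ⟨c, hc⟩ := hi
      have : c < 2 := Nat.lt_of_mul_lt_mul_left (a := h) (by rw [← hc]; omega)
      interval_cases c
      · left; rw [← ZMod.natCast_zmod_val i, hc, mul_zero, Nat.cast_zero]
      · right; rw [← ZMod.natCast_zmod_val i, hc, mul_one]
    · rintro (rfl | rfl)
      · exact map_zero _
      · rw [map_natCast, ZMod.natCast_self]
  · refine ⟨fun h1 => ?_, fun h1 => ?_⟩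
    · exact absurd h1 (by rw [DihedralGroup.one_def]; intro h2; cases h2)
    · rcases h1 with h1 | h1
      · rw [one_def] at h1; cases h1
      · cases h1

end CfsgLib.QuatDefect
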