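import Cfsg.Agent.Lib.BlockArith.DihDefect.Cross
import Cfsg.Agent.Lib.BlockArith.HeightBound

/-!
# A block and the only block of the centraliser of an involution inducing it

* `induced_trans`: transitivity of block induction along centralisers;
* `LocalBlock`: the situation; `tr`: the transfer of vectors through restriction;
* `LocalBlock.tr_eq_zero`, `LocalBlock.tr_inner`: the transfer maps relations isometrically to relations;
* `LocalBlock.card_sub_rank`: the numbers `k - l` agree.
-/

set_option autoImplicit false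

noncomputable section

open scoped Classical

namespace CfsgLib.QuatDefect

open Cfsg CfsgLib.Blocks CfsgLib.BlockArith CfsgLib.Char CfsgLib.BrauerPairs CfsgLib.NilBlock
open CfsgLib.Blocks.Cyclic
open scoped ComplexConjugate

universe u

variable {G : Type u} [Group G] [Fintype G] {M : Ideal AlgInt} [M.IsMaximal]

omit [Fintype G] in
/-- A cyclic group has one involution. -/
theorem eq_of_order_two [Finite G] {y a b : G} (ha : a ∈ Subgroup.zpowers y) (hb : b ∈ Subgroup.zpowers y)
    (ha2 : orderOf a = 2) (hb2 : orderOf b = 2) : a = b := by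
  have := Fintype.ofFinite (Subgroup.zpowers y)
  by_contra hne
  have hsub : ({1, ⟨a, ha⟩, ⟨b, hb⟩} : Finset (Subgroup.zpowers y)) ⊆
      Finset.univ.filter fun w => w ^ 2 = 1 := by
    intro w hw
    simp only [Finset.mem_insert, Finset.mem_singleton] at hw
    refine Finset.mem_filter.mpr ⟨Finset.mem_univ _, ?_⟩
    rcases hw with rfl | rfl | rfl
    · exact one_pow 2
    · exact Subtype.ext (by rw [SubmonoidClass.coe_pow, ← ha2]; exact pow_orderOf_eq_one a)
    · exact Subtype.ext (by rw [SubmonoidClass.coe_pow, ← hb2]; exact pow_orderOf_eq_one b)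
  have h1 := (Finset.card_le_card hsub).trans (IsCyclic.card_pow_eq_one_le (n := 2) two_pos)
  have hn1 : ∀ (c : G) (hc : c ∈ Subgroup.zpowers y), orderOf c = 2 →
      (1 : Subgroup.zpowers y) ≠ ⟨c, hc⟩ := fun c hc h2 e => by
    rw [← show (1 : G) = c from congrArg Subtype.val e, orderOf_one] at h2
    omega
  rw [Finset.card_insert_of_notMem, Finset.card_pair (fun e => hne (congrArg Subtype.val e))] at h1
  · omega
  · simp only [Finset.mem_insert, Finset.mem_singleton, not_or]
    exact ⟨hn1 a ha ha2, hn1 b hb hb2⟩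

omit [M.IsMaximal] in
/-- The part in a block of a member. -/
theorem blockPart_irr {H : Type*} [Group H] [Fintype H] (b : Set (IrrCharacter H)) (η : IrrCharacter H) (y : H) :
    blockPart b (η : H → ℂ) y = if η ∈ b then (η : H → ℂ) y else 0 := by
  rw [blockPart_apply, Finset.sum_eq_single η]
  · rw [classInner_irr_self η.2, one_mul]
  · intro φ _ hne
    rw [classInner_irr_ne η.2 φ.2 fun e => hne (Subtype.ext e).symm, zero_mul, ite_self]
  · exact fun hn => absurd (Finset.mem_univ _) hn

/-- Transitivity of block induction. -/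
theorem induced_trans {H : Subgroup G} {K' : Subgroup H} {K : Subgroup G} (e : K' ≃* K)
    (he : ∀ k : K', ((e k : K) : G) = ((k : H) : G)) {b' : Set (IrrCharacter K')} {c : Set (IrrCharacter H)}
    {B : Set (IrrCharacter G)} (h1 : IsInducedBlock M K' b' c) (h2 : IsInducedBlock M H c B) :
    IsInducedBlock M K (tblock e b') B := by
  rw [isInducedBlock_iff] at h1 h2 ⊢
  obtain ⟨η, hη⟩ := IsPBlock.nonempty h1.2.1
  refine ⟨isPBlock_tblock e h1.1, h2.2.1, fun ξ' hξ' χ hχ a => ?_⟩
  rw [← h2.2.2 η hη χ hχ a, indBomega_apply H, ← h1.2.2 _ ((mem_tblock e).mp hξ') η hη (resIn H a),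
    indBomega_apply, indBomega_apply, bomega_apply, bomega_apply]
  refine congrArg _ (Subtype.ext ?_)
  rw [coe_zomega, coe_zomega, omega, omega, charLin_apply, charLin_apply]
  congr 1
  · refine Fintype.sum_equiv e.symm.toEquiv _ _ fun k => ?_
    obtain ⟨k', rfl⟩ := e.surjective k
    simp only [resIn, AddMonoidHom.coe_mk, ZeroHom.coe_mk, coeff_ofFun, MulEquiv.toEquiv_eq_coe,
      EquivLike.coe_coe, MulEquiv.symm_apply_apply, tirr, Function.comp_apply, MulEquiv.symm_symm, he]
  · simp [tirr]

/-- The multiplicity of `ψ` in the restriction of `χ`. -/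
def mult (H : Subgroup G) (χ : IrrCharacter G) (ψ : IrrCharacter H) : ℂ :=
  classInner (fun c : H => (χ : G → ℂ) (c : G)) (ψ : H → ℂ)

omit [M.IsMaximal] in
theorem mult_nat (H : Subgroup G) (χ : IrrCharacter G) (ψ : IrrCharacter H) : ∃ m : ℕ, mult H χ ψ = m :=
  classInner_char_nat (isCharacter_res H (isCharacter_of_isIrr χ.2)) (isCharacter_of_isIrr ψ.2)

omit [M.IsMaximal] in
theorem conj_mult (H : Subgroup G) (χ : IrrCharacter G) (ψ : IrrCharacter H) :
    conj (mult H χ ψ) = mult H χ ψ := by
  obtain ⟨m, hm⟩ := mult_nat H χ ψ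
  rw [hm, Complex.conj_natCast]

omit [M.IsMaximal] in
theorem res_eq_sum (H : Subgroup G) (χ : IrrCharacter G) (c : H) :
    (χ : G → ℂ) (c : G) = ∑ η : IrrCharacter H, mult H χ η * (η : H → ℂ) c := by
  have h := congrFun (classFun_eq_sum (isClassFunction_of_isCharacter
    (isCharacter_res H (isCharacter_of_isIrr χ.2)))) c
  simpa only [Finset.sum_apply, Pi.smul_apply, smul_eq_mul, mult] using h

/-- The transfer of a vector on a block of `H`. -/
def tr {H : Subgroup G} (b : Set (IrrCharacter H)) (a : IrrCharacter H → ℂ) (χ : IrrCharacter G) : ℂ :=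
  ∑ ψ ∈ bset b, a ψ * mult H χ ψ

/-- The combination of the members of a block. -/
def comb {H : Type*} [Group H] [Fintype H] (b : Set (IrrCharacter H)) (a : IrrCharacter H → ℂ) (g : H) : ℂ :=
  ∑ ψ ∈ bset b, a ψ * (ψ : H → ℂ) g

omit [M.IsMaximal] in
theorem comb_conj {H : Type*} [Group H] [Fintype H] (b : Set (IrrCharacter H)) (a : IrrCharacter H → ℂ)
    (w g : H) : comb b a (w * g * w⁻¹) = comb b a g :=
  Finset.sum_congr rfl fun ψ _ => by rw [isClassFunction_of_isIrr ψ.2 g w]

omit [M.IsMaximal] in
theorem sum_comb_conj {H : Type*} [Group H] [Fintype H] (b : Set (IrrCharacter H)) (a a' : IrrCharacter H → ℂ) :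
    ∑ g : H, comb b a g * conj (comb b a' g) = (Nat.card H : ℂ) * ∑ ψ ∈ bset b, a ψ * conj (a' ψ) := by
  simp only [comb, map_sum, map_mul]
  rw [Finset.sum_congr rfl fun g _ => Finset.sum_mul_sum (bset b) (bset b) _ _, Finset.sum_comm, Finset.mul_sum]
  refine Finset.sum_congr rfl fun ψ hψ => ?_
  rw [Finset.sum_comm, Finset.sum_eq_single ψ]
  · rw [← mul_one ((Nat.card H : ℂ) * (a ψ * conj (a' ψ))), ← classInner_irr_self ψ.2,
      show (Nat.card H : ℂ) * (a ψ * conj (a' ψ)) * classInner (ψ : H → ℂ) (ψ : H → ℂ) =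
        a ψ * conj (a' ψ) * ((Nat.card H : ℂ) * classInner (ψ : H → ℂ) (ψ : H → ℂ)) by ring,
      card_mul_classInner, Finset.mul_sum]
    exact Finset.sum_congr rfl fun g _ => by ring
  · intro ψ' _ hne
    rw [← mul_zero (a ψ * conj (a' ψ')), ← mul_zero ((Nat.card H : ℂ)),
      ← classInner_irr_ne ψ.2 ψ'.2 (fun e => hne (Subtype.ext e).symm), card_mul_classInner, Finset.mul_sum]
    exact Finset.sum_congr rfl fun g _ => by ring
  · exact fun hn => absurd hψ hn

/-- A block `b` of the centraliser `H` of an involution `z`, the only one inducing `B`. -/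
structure LocalBlock (M : Ideal AlgInt) [M.IsMaximal] (B : Set (IrrCharacter G)) (z : G)
    (b : Set (IrrCharacter (Cen (Subgroup.zpowers z)))) : Prop where
  two : orderOf z = 2
  induced : IsInducedBlock M (Cen (Subgroup.zpowers z)) b B
  unique : ∀ c, IsInducedBlock M (Cen (Subgroup.zpowers z)) c B → c = b
  supp : ∀ ψ ∈ b, ∀ g x : Cen (Subgroup.zpowers z), (ψ : Cen (Subgroup.zpowers z) → ℂ) g ≠ 0 →
    IsPPart 2 g x → x = 1 ∨ z ∈ Subgroup.zpowers (x : G)
  suppG : ∀ χ ∈ B, ∀ g x : G, (χ : G → ℂ) g ≠ 0 →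
    IsPPart 2 g x → x = 1 ∨ ∃ w : G, z ∈ Subgroup.zpowers (w * x * w⁻¹)

variable {B : Set (IrrCharacter G)} {z : G} {b : Set (IrrCharacter (Cen (Subgroup.zpowers z)))}

/-- A combination without regular part lives on elements whose powers contain `z`. -/
theorem LocalBlock.mem_zpowers (L : LocalBlock M B z b) {a : IrrCharacter (Cen (Subgroup.zpowers z)) → ℂ}
    (ha : ∀ y : Cen (Subgroup.zpowers z), ¬ 2 ∣ orderOf y → comb b a y = 0)
    {g x : Cen (Subgroup.zpowers z)} (hx : IsPPart 2 g x) (hne : comb b a g ≠ 0) :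
    z ∈ Subgroup.zpowers (x : G) := by
  obtain ⟨ψ, hψ, hψne⟩ := Finset.exists_ne_zero_of_sum_ne_zero hne
  refine (L.supp ψ (mem_bset.mp hψ) g x (fun e => hψne (by rw [e, mul_zero])) hx).resolve_left ?_
  rintro rfl
  exact hne (ha g (isPPart_one_iff.mp hx))

omit [M.IsMaximal] in
theorem card_mul_tr {H : Subgroup G} (b : Set (IrrCharacter H)) (a : IrrCharacter H → ℂ) (χ : IrrCharacter G) :
    (Nat.card H : ℂ) * tr b a χ = ∑ g : H, comb b a g * conj ((χ : G → ℂ) (g : G)) := by
  simp only [tr, comb, Finset.mul_sum, Finset.sum_mul]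
  rw [Finset.sum_comm]
  refine Finset.sum_congr rfl fun ψ _ => ?_
  rw [show (Nat.card H : ℂ) * (a ψ * mult H χ ψ) = a ψ * conj ((Nat.card H : ℂ) * mult H χ ψ) by
    rw [map_mul, conj_mult, Complex.conj_natCast]; ring, mult, card_mul_classInner, map_sum, Finset.mul_sum]
  exact Finset.sum_congr rfl fun g _ => by rw [map_mul, Complex.conj_conj]; ring

/-- Centralisers inside `C(z)` of elements with `z` among their powers. -/
theorem exists_cen_equiv {z : G} (x : Cen (Subgroup.zpowers z)) (hz : z ∈ Subgroup.zpowers (x : G)) :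
    ∃ e : Cen (Subgroup.zpowers x) ≃* Cen (Subgroup.zpowers (x : G)),
      ∀ k, ((e k : Cen (Subgroup.zpowers (x : G))) : G) = ((k : Cen (Subgroup.zpowers z)) : G) := by
  have hmapz : (Subgroup.zpowers x).map (Cen (Subgroup.zpowers z)).subtype = Subgroup.zpowers (x : G) := by
    rw [MonoidHom.map_zpowers]; rfl
  have hHC : Cen (Subgroup.zpowers (x : G)) ≤ Cen (Subgroup.zpowers z) :=
    centralizer_anti (Subgroup.zpowers_le.mpr hz)
  have hK : (Cen (Subgroup.zpowers x)).map (Cen (Subgroup.zpowers z)).subtype = Cen (Subgroup.zpowers (x : G)) := by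
    rw [map_cen_subtype _ (by rw [hmapz]; exact hHC), hmapz]
  exact ⟨((Cen (Subgroup.zpowers x)).equivMapOfInjective (Cen (Subgroup.zpowers z)).subtype
    (Cen (Subgroup.zpowers z)).subtype_injective).trans (MulEquiv.subgroupCongr hK), fun k => rfl⟩

/-- The sections of a restricted character. -/
theorem secH_restrict {H : Subgroup G} {x : H} {K : Subgroup G}
    (e : Cen (Subgroup.zpowers x) ≃* K) (he : ∀ k, ((e k : K) : G) = ((k : H) : G))
    (b' : Set (IrrCharacter (Cen (Subgroup.zpowers x)))) (χ : IrrCharacter G)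
    (k : Cen (Subgroup.zpowers x)) :
    secH (x : G) K (tblock e b') χ (e k) =
      ∑ η : IrrCharacter H, mult H χ η * secH x (Cen (Subgroup.zpowers x)) b' η k := by
  show blockPart (tblock e b') _ (e k) = _
  rw [blockPart_tblock]
  simp only [secH]
  rw [← blockPart_sum]
  congr 1
  funext c
  rw [he, ← Subgroup.coe_mul, res_eq_sum H χ]

/-- The transfer of a relation lives on `B`. -/
theorem LocalBlock.tr_eq_zero (hM : IsPModular 2 M) (L : LocalBlock M B z b)
    {a : IrrCharacter (Cen (Subgroup.zpowers z)) → ℂ}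
    (ha : ∀ y : Cen (Subgroup.zpowers z), ¬ 2 ∣ orderOf y → comb b a y = 0)
    {χ : IrrCharacter G} (hχ : χ ∉ B) : tr b a χ = 0 := by
  have : Fact (Nat.Prime 2) := ⟨Nat.prime_two⟩
  refine (mul_eq_zero.mp ?_).resolve_left
    (Nat.cast_ne_zero.mpr (Nat.card_pos (α := Cen (Subgroup.zpowers z))).ne')
  rw [card_mul_tr, sum_by_pPart (p := 2)]
  refine Finset.sum_eq_zero fun x hx => ?_
  have hx' := (Finset.mem_filter.mp hx).2
  have hpart : ∀ s : Cen (Subgroup.zpowers x), ¬ 2 ∣ orderOf s →
      IsPPart 2 (x * (s : Cen (Subgroup.zpowers z))) x := fun s hs =>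
    isPPart_mul (mem_cen_zpowers.mp s.2).symm hx' (by rwa [Subgroup.orderOf_coe])
  by_cases hzx : z ∈ Subgroup.zpowers (x : G)
  swap
  · refine Finset.sum_eq_zero fun s _ => ?_
    split_ifs with hs
    · rfl
    · rw [show comb b a (x * (s : Cen (Subgroup.zpowers z))) = 0 from
        by_contra fun hne => hzx (L.mem_zpowers ha (hpart s hs) hne), zero_mul]
  obtain ⟨e, he⟩ := exists_cen_equiv x hzx
  have hbb := (isInducedBlock_iff _).mp L.induced
  have := Fintype.ofFinite {b' : Set (IrrCharacter (Cen (Subgroup.zpowers x))) // IsPBlock M b'}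
  have hval : ∀ s : Cen (Subgroup.zpowers x), ¬ 2 ∣ orderOf s →
      comb b a (x * (s : Cen (Subgroup.zpowers z))) = ∑ ψ ∈ bset b, ∑ b' :
        {b' : Set (IrrCharacter (Cen (Subgroup.zpowers x))) // IsPBlock M b'},
          a ψ * (if IsInducedBlock M (Cen (Subgroup.zpowers x)) b'.1 b
            then secH x (Cen (Subgroup.zpowers x)) b'.1 ψ s else 0) := fun s hs => by
    refine Finset.sum_congr rfl fun ψ hψ => ?_
    rw [← Finset.mul_sum, sum_inducingH (cen_zpowers x) hM hx' hbb.1 ψ (mem_bset.mp hψ) hs]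
  calc _ = ∑ ψ ∈ bset b, ∑ b' : {b' : Set (IrrCharacter (Cen (Subgroup.zpowers x))) // IsPBlock M b'},
        if IsInducedBlock M (Cen (Subgroup.zpowers x)) b'.1 b then
          a ψ * conj (∑ η : IrrCharacter (Cen (Subgroup.zpowers z)), mult (Cen (Subgroup.zpowers z)) χ η *
            regSum 2 (secH x (Cen (Subgroup.zpowers x)) b'.1 η) (secH x (Cen (Subgroup.zpowers x)) b'.1 ψ))
        else 0 := by
        rw [Finset.sum_congr rfl fun (s : Cen (Subgroup.zpowers x)) _ => show (if 2 ∣ orderOf s then (0 : ℂ) else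
          comb b a (x * (s : Cen (Subgroup.zpowers z))) *
            conj ((χ : G → ℂ) ((x * (s : Cen (Subgroup.zpowers z)) : Cen (Subgroup.zpowers z)) : G))) =
          ∑ ψ ∈ bset b, ∑ b' : {b' : Set (IrrCharacter (Cen (Subgroup.zpowers x))) // IsPBlock M b'},
            if IsInducedBlock M (Cen (Subgroup.zpowers x)) b'.1 b then a ψ *
              conj (∑ η : IrrCharacter (Cen (Subgroup.zpowers z)), mult (Cen (Subgroup.zpowers z)) χ η *
                if 2 ∣ orderOf s then 0 else
                  (η : Cen (Subgroup.zpowers z) → ℂ) (x * (s : Cen (Subgroup.zpowers z))) *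
                    conj (secH x (Cen (Subgroup.zpowers x)) b'.1 ψ s)) else 0 by
          split_ifs with hs
          · simp
          · rw [hval s hs, res_eq_sum, Finset.sum_mul]
            refine Finset.sum_congr rfl fun ψ _ => ?_
            rw [Finset.sum_mul]
            refine Finset.sum_congr rfl fun b' _ => ?_
            split_ifs
            · simp only [← mul_assoc, ← Finset.sum_mul, map_mul, Complex.conj_conj]
              ring
            · rw [mul_zero, zero_mul], Finset.sum_comm]
        refine Finset.sum_congr rfl fun ψ _ => ?_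
        rw [Finset.sum_comm]
        refine Finset.sum_congr rfl fun b' _ => ?_
        split_ifs with hb'
        · rw [← Finset.mul_sum, ← map_sum, Finset.sum_comm]
          congr 2
          refine Finset.sum_congr rfl fun η _ => ?_
          rw [← Finset.mul_sum, ← DihDefect.sum_reg_secH hM (cen_zpowers x) b'.2 η ψ, regSum_eq]
        · exact Finset.sum_const_zero
    _ = 0 := by
        refine Finset.sum_eq_zero fun ψ _ => Finset.sum_eq_zero fun b' _ => ?_
        split_ifs with hb'
        · rw [show ∑ η : IrrCharacter (Cen (Subgroup.zpowers z)), mult (Cen (Subgroup.zpowers z)) χ η *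
            regSum 2 (secH x (Cen (Subgroup.zpowers x)) b'.1 η) (secH x (Cen (Subgroup.zpowers x)) b'.1 ψ) =
            regSum 2 (fun s => secH (x : G) (Cen (Subgroup.zpowers (x : G))) (tblock e b'.1) χ (e s))
              (secH x (Cen (Subgroup.zpowers x)) b'.1 ψ) by
            simp only [regSum_eq, secH_restrict e he, Finset.mul_sum, Finset.sum_mul]
            rw [Finset.sum_comm]
            exact Finset.sum_congr rfl fun s _ => by
              split_ifs
              · simp
              · exact Finset.sum_congr rfl fun η _ => by ring, regSum_eq, Finset.sum_eq_zero, map_zero, mul_zero]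
          intro s _
          split_ifs with hs
          · rfl
          · rw [NilBlock.secH_eq_zero (cen_zpowers (x : G)) hM (by rwa [Subgroup.orderOf_coe])
              (induced_trans e he hb' L.induced) hχ (by rwa [MulEquiv.orderOf_eq]), zero_mul]
        · rfl

/-- The transfer is an isometry on relations. -/
theorem LocalBlock.tr_inner (L : LocalBlock M B z b)
    {a a' : IrrCharacter (Cen (Subgroup.zpowers z)) → ℂ}
    (ha : ∀ y : Cen (Subgroup.zpowers z), ¬ 2 ∣ orderOf y → comb b a y = 0)
    (ha' : ∀ y : Cen (Subgroup.zpowers z), ¬ 2 ∣ orderOf y → comb b a' y = 0) :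
    ∑ χ : IrrCharacter G, tr b a χ * conj (tr b a' χ) = ∑ ψ ∈ bset b, a ψ * conj (a' ψ) := by
  have : Fact (Nat.Prime 2) := ⟨Nat.prime_two⟩
  have hN : (Nat.card (Cen (Subgroup.zpowers z)) : ℂ) ≠ 0 := Nat.cast_ne_zero.mpr Nat.card_pos.ne'
  refine mul_left_cancel₀ (mul_ne_zero hN hN) ?_
  calc (Nat.card (Cen (Subgroup.zpowers z)) : ℂ) * (Nat.card (Cen (Subgroup.zpowers z)) : ℂ) * ∑ χ : IrrCharacter G, tr b a χ * conj (tr b a' χ)
      = ∑ χ : IrrCharacter G, ((Nat.card (Cen (Subgroup.zpowers z)) : ℂ) * tr b a χ) * conj ((Nat.card (Cen (Subgroup.zpowers z)) : ℂ) * tr b a' χ) := by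
        rw [Finset.mul_sum]
        exact Finset.sum_congr rfl fun χ _ => by rw [map_mul, Complex.conj_natCast]; ring
    _ = ∑ g : (Cen (Subgroup.zpowers z)), ∑ g' : (Cen (Subgroup.zpowers z)), comb b a g * conj (comb b a' g') *
          ∑ χ : IrrCharacter G, (χ : G → ℂ) (g' : G) * conj ((χ : G → ℂ) (g : G)) := by
        simp only [card_mul_tr, map_sum, map_mul, Complex.conj_conj]
        rw [Finset.sum_congr rfl fun χ _ => Finset.sum_mul_sum Finset.univ Finset.univ _ _, Finset.sum_comm]
        refine Finset.sum_congr rfl fun g _ => ?_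
        rw [Finset.sum_comm]
        refine Finset.sum_congr rfl fun g' _ => ?_
        rw [Finset.mul_sum]
        exact Finset.sum_congr rfl fun χ _ => by ring
    _ = ∑ g : (Cen (Subgroup.zpowers z)), comb b a g * ((Nat.card (Cen (Subgroup.zpowers z)) : ℂ) * conj (comb b a' g)) := by
        refine Finset.sum_congr rfl fun g _ => ?_
        by_cases hg0 : comb b a g = 0
        · rw [hg0, zero_mul]; exact Finset.sum_eq_zero fun g' _ => by ring
        simp only [mul_assoc, ← Finset.mul_sum]
        congr 1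
        obtain ⟨x, hx⟩ := exists_isPPart (p := 2) g
        have hzg : z ∈ Subgroup.zpowers (g : G) := by
          refine Subgroup.zpowers_le.mpr ?_ (L.mem_zpowers ha hx hg0)
          obtain ⟨i, hi⟩ := Subgroup.mem_zpowers_iff.mp (isPPart_mem_zpowers hx)
          exact ⟨i, by rw [← hi]; simp⟩
        have horth : ∀ g' : (Cen (Subgroup.zpowers z)), ∑ χ : IrrCharacter G, (χ : G → ℂ) (g' : G) * conj ((χ : G → ℂ) (g : G)) =
            ∑ w : G, if w * (g : G) * w⁻¹ = (g' : G) then (1 : ℂ) else 0 := fun g' => by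
          rw [← conjugators_eq, show (if IsConj (g : G) (g' : G) then
              (Nat.card (Subgroup.centralizer ({(g : G)} : Set G)) : ℂ) else 0) =
            conj (if IsConj (g : G) (g' : G) then
              (Nat.card (Subgroup.centralizer ({(g : G)} : Set G)) : ℂ) else 0) by split_ifs <;> simp,
            ← second_orthogonality, map_sum]
          exact Finset.sum_congr rfl fun χ _ => by rw [map_mul, Complex.conj_conj, mul_comm]
        simp only [horth, Finset.mul_sum, mul_ite, mul_one, mul_zero]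
        rw [Finset.sum_comm, ← Finset.sum_filter_add_sum_filter_not Finset.univ (fun w : G => w ∈ (Cen (Subgroup.zpowers z)))]
        have h0 : ∑ w ∈ Finset.univ.filter (fun w : G => ¬ w ∈ (Cen (Subgroup.zpowers z))), ∑ g' : (Cen (Subgroup.zpowers z)),
            (if w * (g : G) * w⁻¹ = (g' : G) then conj (comb b a' g') else 0) = 0 := by
          refine Finset.sum_eq_zero fun w hw => Finset.sum_eq_zero fun g' _ => ?_
          split_ifs with he
          · by_contra hne
            refine (Finset.mem_filter.mp hw).2 ?_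
            have hne' : comb b a' g' ≠ 0 := fun e => hne (by rw [e, map_zero])
            obtain ⟨x', hx'⟩ := exists_isPPart (p := 2) g'
            have hz1 : z ∈ Subgroup.zpowers (g' : G) := by
              refine Subgroup.zpowers_le.mpr ?_ (L.mem_zpowers ha' hx' hne')
              obtain ⟨i, hi⟩ := Subgroup.mem_zpowers_iff.mp (isPPart_mem_zpowers hx')
              exact ⟨i, by rw [← hi]; simp⟩
            have hz2 : w * z * w⁻¹ ∈ Subgroup.zpowers (g' : G) := by
              rw [← he, ← map_conj_zpowers]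
              exact Subgroup.mem_map.mpr ⟨z, hzg, rfl⟩
            have hwz := eq_of_order_two hz2 hz1 ((SemiconjBy.conj_mk w z).orderOf_eq ▸ L.two) L.two
            rw [mul_inv_eq_iff_eq_mul] at hwz
            exact mem_cen_zpowers.mpr hwz
          · rfl
        rw [h0, add_zero]
        have h1 : ∀ w ∈ Finset.univ.filter (fun w : G => w ∈ (Cen (Subgroup.zpowers z))), ∑ g' : (Cen (Subgroup.zpowers z)),
            (if w * (g : G) * w⁻¹ = (g' : G) then conj (comb b a' g') else 0) = conj (comb b a' g) := by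
          intro w hw
          have hwH := (Finset.mem_filter.mp hw).2
          rw [Finset.sum_eq_single (⟨w, hwH⟩ * g * ⟨w, hwH⟩⁻¹ : (Cen (Subgroup.zpowers z)))]
          · rw [if_pos (by simp), comb_conj]
          · intro g' _ hne
            rw [if_neg fun e => hne (Subtype.ext (by simp [← e]))]
          · exact fun hn => absurd (Finset.mem_univ _) hn
        rw [Finset.sum_congr rfl h1, Finset.sum_const, nsmul_eq_mul,
          ← Fintype.card_subtype (fun w => w ∈ (Cen (Subgroup.zpowers z))), ← Nat.card_eq_fintype_card]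
    _ = _ := by
        rw [Finset.sum_congr rfl fun g _ => show comb b a g * ((Nat.card (Cen (Subgroup.zpowers z)) : ℂ) * conj (comb b a' g)) =
          (Nat.card (Cen (Subgroup.zpowers z)) : ℂ) * (comb b a g * conj (comb b a' g)) by ring, ← Finset.mul_sum, sum_comb_conj]
        ring

/-- The transfer of a relation is a relation. -/
theorem LocalBlock.tr_kernel (hM : IsPModular 2 M) (L : LocalBlock M B z b)
    {a : IrrCharacter (Cen (Subgroup.zpowers z)) → ℂ}
    (ha : ∀ y : Cen (Subgroup.zpowers z), ¬ 2 ∣ orderOf y → comb b a y = 0)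
    {y : G} (hy : ¬ 2 ∣ orderOf y) : ∑ χ ∈ bset B, tr b a χ * (χ : G → ℂ) y = 0 := by
  rw [Finset.sum_subset (Finset.subset_univ (bset B)) fun χ _ hχ => by
    rw [L.tr_eq_zero hM ha fun h => hχ (mem_bset.mpr h), zero_mul]]
  refine (mul_eq_zero.mp ?_).resolve_left
    (Nat.cast_ne_zero.mpr (Nat.card_pos (α := Cen (Subgroup.zpowers z))).ne')
  rw [Finset.mul_sum]
  simp only [← mul_assoc, card_mul_tr, Finset.sum_mul]
  rw [Finset.sum_comm]
  refine Finset.sum_eq_zero fun g _ => ?_
  rw [Finset.sum_congr rfl fun (χ : IrrCharacter G) _ => show comb b a g * conj ((χ : G → ℂ) (g : G)) * (χ : G → ℂ) y =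
    comb b a g * ((χ : G → ℂ) y * conj ((χ : G → ℂ) (g : G))) by ring, ← Finset.mul_sum, second_orthogonality]
  split_ifs with hc
  · obtain ⟨w, hw⟩ := isConj_iff.mp hc
    rw [ha g (by rwa [← Subgroup.orderOf_coe, ← hw, ← (SemiconjBy.conj_mk w y).orderOf_eq]), zero_mul]
  · rw [mul_zero]

/-- A relation on `B` with no restriction to `b` is zero. -/
theorem LocalBlock.eq_zero_of_res (hM : IsPModular 2 M) (L : LocalBlock M B z b) {c : IrrCharacter G → ℂ}
    (hc : ∀ y : G, ¬ 2 ∣ orderOf y → comb B c y = 0)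
    (h0 : ∀ η ∈ b, ∑ χ ∈ bset B, c χ * mult (Cen (Subgroup.zpowers z)) χ η = 0) {χ : IrrCharacter G}
    (hχ : χ ∈ B) : c χ = 0 := by
  have : Fact (Nat.Prime 2) := ⟨Nat.prime_two⟩
  have key : ∀ g : G, comb B c g = 0 := by
    intro g
    by_contra hne
    obtain ⟨x, hx⟩ := exists_isPPart (p := 2) g
    obtain ⟨φ, hφ, hφne⟩ := Finset.exists_ne_zero_of_sum_ne_zero hne
    rcases L.suppG φ (mem_bset.mp hφ) g x (fun e => hφne (by rw [e, mul_zero])) hx with rfl | ⟨w, hw⟩
    · exact hne (hc g (isPPart_one_iff.mp hx))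
    rw [← comb_conj B c w g] at hne
    obtain ⟨y, hxy, hcomm, hxp, hyr⟩ := isPPart_conj hx w
    have hxH : w * x * w⁻¹ ∈ Cen (Subgroup.zpowers z) := by
      refine mem_cen_zpowers.mpr ?_
      obtain ⟨i, hi⟩ := Subgroup.mem_zpowers_iff.mp hw
      rw [← hi]
      exact (Commute.refl _).zpow_right i
    have hyx : y ∈ Cen (Subgroup.zpowers (w * x * w⁻¹)) := mem_cen_zpowers.mpr hcomm.eq.symm
    rw [← hxy] at hne
    obtain ⟨x', hx'G⟩ : ∃ x' : Cen (Subgroup.zpowers z), (x' : G) = w * x * w⁻¹ := ⟨⟨_, hxH⟩, rfl⟩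
    rw [← hx'G] at hw hxp hyx hne
    have hxp' : ∃ k : ℕ, orderOf x' = 2 ^ k := by
      obtain ⟨k, hk⟩ := hxp; exact ⟨k, by rwa [← Subgroup.orderOf_coe]⟩
    obtain ⟨e, he⟩ := exists_cen_equiv x' hw
    obtain ⟨k, hk⟩ := e.surjective ⟨y, hyx⟩
    have hky : ((k : Cen (Subgroup.zpowers z)) : G) = y := by rw [← he, hk]
    have hkr : ¬ 2 ∣ orderOf k := by
      rwa [← MulEquiv.orderOf_eq e, hk, Subgroup.orderOf_mk]
    refine hne ?_
    have := Fintype.ofFinite {b' : Set (IrrCharacter (Cen (Subgroup.zpowers x'))) // IsPBlock M b'}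
    calc comb B c ((x' : G) * y)
        = ∑ η : IrrCharacter (Cen (Subgroup.zpowers z)),
            (∑ χ ∈ bset B, c χ * mult (Cen (Subgroup.zpowers z)) χ η) *
              (η : Cen (Subgroup.zpowers z) → ℂ) (x' * (k : Cen (Subgroup.zpowers z))) := by
          simp only [comb, Finset.sum_mul]
          rw [Finset.sum_comm]
          refine Finset.sum_congr rfl fun χ _ => ?_
          rw [← hky, ← Subgroup.coe_mul, res_eq_sum (Cen (Subgroup.zpowers z)) χ, Finset.mul_sum]
          exact Finset.sum_congr rfl fun η _ => by ring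
      _ = ∑ b' : {b' : Set (IrrCharacter (Cen (Subgroup.zpowers x'))) // IsPBlock M b'},
            ∑ η : IrrCharacter (Cen (Subgroup.zpowers z)),
              (∑ χ ∈ bset B, c χ * mult (Cen (Subgroup.zpowers z)) χ η) *
                secH x' (Cen (Subgroup.zpowers x')) b'.1 η k := by
          rw [Finset.sum_comm]
          refine Finset.sum_congr rfl fun η _ => ?_
          rw [← Finset.mul_sum, ← sum_inducingH (cen_zpowers x') hM hxp' (isPBlock_blockOf η) η
            (mem_blockOf_self η) hkr]
          congr 1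
          refine Finset.sum_congr rfl fun b' _ => ?_
          split_ifs with hi
          · rfl
          · obtain ⟨B', hB'⟩ := exists_induced_cen hM (NilBlock.isPGroup_zpowers hxp') b'.2
            exact (NilBlock.secH_eq_zero (cen_zpowers x') hM hxp' hB' (fun hη => hi
              (isPBlock_eq_of_mem (isPBlock_blockOf η) ((isInducedBlock_iff _).mp hB').2.1
                (mem_blockOf_self η) hη ▸ hB')) hkr).symm
      _ = 0 := by
          refine Finset.sum_eq_zero fun b' _ => ?_
          obtain ⟨C, hC⟩ := exists_induced_cen hM (NilBlock.isPGroup_zpowers hxp') b'.2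
          by_cases hCb : C = b
          · subst hCb
            refine Finset.sum_eq_zero fun η _ => ?_
            by_cases hη : η ∈ C
            · rw [h0 η hη, zero_mul]
            · rw [NilBlock.secH_eq_zero (cen_zpowers x') hM hxp' hC hη hkr, mul_zero]
          · obtain ⟨B', hB'⟩ := exists_induced_cen hM
              (NilBlock.isPGroup_zpowers (p := 2) ⟨1, by rw [L.two, pow_one]⟩) ((isInducedBlock_iff _).mp hC).2.1
            simp only [Finset.sum_mul]
            rw [Finset.sum_comm]
            refine Finset.sum_eq_zero fun χ hχ => ?_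
            simp only [mul_assoc, ← Finset.mul_sum]
            rw [← secH_restrict e he, NilBlock.secH_eq_zero (cen_zpowers (x' : G)) hM
              (by rwa [Subgroup.orderOf_coe]) (induced_trans e he hC hB') (fun hχ' => hCb (L.unique C ?_))
              (by rwa [MulEquiv.orderOf_eq]), mul_zero]
            rwa [isPBlock_eq_of_mem ((isInducedBlock_iff _).mp L.induced).2.1
              ((isInducedBlock_iff _).mp hB').2.1 (mem_bset.mp hχ) hχ']
  have h1 : ∑ g : G, comb B c g * conj ((χ : G → ℂ) g) = 0 :=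
    Finset.sum_eq_zero fun g _ => by rw [key, zero_mul]
  have h2 := sum_comb_conj B c fun φ => if φ = χ then 1 else 0
  simp only [comb, apply_ite conj, map_one, map_zero, mul_ite, mul_one, mul_zero, ite_mul, one_mul,
    zero_mul, Finset.sum_ite_eq', mem_bset.mpr hχ, if_true] at h1 h2
  rw [h1, eq_comm, mul_eq_zero] at h2
  exact h2.resolve_left (Nat.cast_ne_zero.mpr Nat.card_pos.ne')

/-- Regular parts of the members of a block. -/
def regMap (p : ℕ) {H : Type*} [Group H] [Fintype H] (b : Set (IrrCharacter H)) : (bset b → ℂ) →ₗ[ℂ] (H → ℂ) :=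
  Fintype.linearCombination ℂ (fun χ : bset b => pRegularPart p ((χ : IrrCharacter H) : H → ℂ))

omit [M.IsMaximal] in
theorem finrank_ker_regMap (p : ℕ) {H : Type*} [Group H] [Fintype H] (b : Set (IrrCharacter H)) :
    blockRank p b + Module.finrank ℂ (LinearMap.ker (regMap p b)) = (bset b).card := by
  have h2 := LinearMap.finrank_range_add_finrank_ker (regMap p b)
  rw [show LinearMap.range (regMap p b) =
    Submodule.span ℂ ((fun χ : IrrCharacter H => pRegularPart p (χ : H → ℂ)) '' b) from by
      rw [regMap, Fintype.range_linearCombination]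
      congr 1
      ext f
      simp, Module.finrank_fintype_fun_eq_card, Fintype.card_coe] at h2
  exact h2

omit [M.IsMaximal] in
theorem mem_ker_regMap {p : ℕ} {H : Type*} [Group H] [Fintype H] {b : Set (IrrCharacter H)} {v : bset b → ℂ} :
    v ∈ LinearMap.ker (regMap p b) ↔ ∀ y : H, ¬ p ∣ orderOf y →
      ∑ χ : bset b, v χ * ((χ : IrrCharacter H) : H → ℂ) y = 0 := by
  rw [LinearMap.mem_ker, regMap, Fintype.linearCombination_apply, funext_iff]
  simp only [Finset.sum_apply, Pi.smul_apply, smul_eq_mul, pRegularPart_apply, Pi.zero_apply]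
  refine forall_congr' fun y => ?_
  by_cases hy : p ∣ orderOf y
  · simp [hy]
  · simp [hy]

/-- **The numbers `k - l` agree.** -/
theorem LocalBlock.card_sub_rank (hM : IsPModular 2 M) (L : LocalBlock M B z b) :
    (bset B).card + blockRank 2 b = (bset b).card + blockRank 2 B := by
  have : Fact (Nat.Prime 2) := ⟨Nat.prime_two⟩
  let T : (bset b → ℂ) →ₗ[ℂ] (bset B → ℂ) :=
    { toFun := fun v χ => ∑ ψ : bset b, v ψ * mult (Cen (Subgroup.zpowers z)) χ ψ
      map_add' := fun v v' => by funext χ; simp [add_mul, Finset.sum_add_distrib]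
      map_smul' := fun r v => by funext χ; simp [Finset.mul_sum, mul_assoc] }
  let R : (bset B → ℂ) →ₗ[ℂ] (bset b → ℂ) :=
    { toFun := fun v ψ => ∑ χ : bset B, v χ * mult (Cen (Subgroup.zpowers z)) χ ψ
      map_add' := fun v v' => by funext χ; simp [add_mul, Finset.sum_add_distrib]
      map_smul' := fun r v => by funext χ; simp [Finset.mul_sum, mul_assoc] }
  -- extension by zero
  have hext : ∀ {H' : Type u} [Group H'] [Fintype H'] (s : Finset (IrrCharacter H')) (v : s → ℂ)
      (F : IrrCharacter H' → ℂ), ∑ x : s, v x * F x =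
        ∑ x ∈ s, (if hx : x ∈ s then v ⟨x, hx⟩ else 0) * F x := fun s v F => by
    rw [← Finset.sum_coe_sort s]
    exact Finset.sum_congr rfl fun x _ => by rw [dif_pos x.2]
  have hT : ∀ v ∈ LinearMap.ker (regMap 2 b), T v ∈ LinearMap.ker (regMap 2 B) ∧ (T v = 0 → v = 0) := by
    intro v hv
    set a : IrrCharacter (Cen (Subgroup.zpowers z)) → ℂ := fun x => if hx : x ∈ bset b then v ⟨x, hx⟩ else 0 with ha
    have hk : ∀ y : (Cen (Subgroup.zpowers z)), ¬ 2 ∣ orderOf y → comb b a y = 0 := fun y hy => by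
      rw [comb, ← hext _ v fun x => (x : (Cen (Subgroup.zpowers z)) → ℂ) y]
      exact mem_ker_regMap.mp hv y hy
    have hTv : ∀ χ : bset B, T v χ = tr b a χ := fun χ => hext _ v fun x => mult (Cen (Subgroup.zpowers z)) χ x
    refine ⟨mem_ker_regMap.mpr fun y hy => ?_, fun h0 => ?_⟩
    · simp only [hTv]
      rw [Finset.sum_coe_sort (bset B) fun χ => tr b a χ * (χ : G → ℂ) y]
      exact L.tr_kernel hM hk hy
    · have h1 := L.tr_inner hk hk
      have h2 : ∀ χ : IrrCharacter G, tr b a χ = 0 := fun χ => by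
        by_cases hχ : χ ∈ B
        · rw [← hTv ⟨χ, mem_bset.mpr hχ⟩, h0]; rfl
        · exact L.tr_eq_zero hM hk hχ
      simp only [h2, zero_mul, Finset.sum_const_zero, Complex.mul_conj] at h1
      rw [eq_comm, ← Complex.ofReal_sum, Complex.ofReal_eq_zero,
        Finset.sum_eq_zero_iff_of_nonneg fun _ _ => Complex.normSq_nonneg _] at h1
      funext x
      have := Complex.normSq_eq_zero.mp (h1 x x.2)
      simp only [ha, dif_pos x.2] at this
      exact this
  have hR : ∀ v ∈ LinearMap.ker (regMap 2 B), R v ∈ LinearMap.ker (regMap 2 b) ∧ (R v = 0 → v = 0) := by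
    intro v hv
    set c : IrrCharacter G → ℂ := fun x => if hx : x ∈ bset B then v ⟨x, hx⟩ else 0 with hc
    have hk : ∀ y : G, ¬ 2 ∣ orderOf y → comb B c y = 0 := fun y hy => by
      rw [comb, ← hext _ v fun x => (x : G → ℂ) y]
      exact mem_ker_regMap.mp hv y hy
    have hRv : ∀ ψ : bset b, R v ψ = ∑ χ ∈ bset B, c χ * mult (Cen (Subgroup.zpowers z)) χ ψ := fun ψ => hext _ v fun x => mult (Cen (Subgroup.zpowers z)) x ψ
    refine ⟨mem_ker_regMap.mpr fun y hy => ?_, fun h0 => ?_⟩
    · simp only [hRv]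
      rw [Finset.sum_coe_sort (bset b) fun ψ => (∑ χ ∈ bset B, c χ * mult (Cen (Subgroup.zpowers z)) χ ψ) * (ψ : (Cen (Subgroup.zpowers z)) → ℂ) y]
      have h1 : blockPart b (fun k : (Cen (Subgroup.zpowers z)) => comb B c (k : G)) y = blockPart b (fun _ => 0) y :=
        blockPart_congr_regular hM ((isInducedBlock_iff _).mp L.induced).1 hy fun k hk' =>
          hk _ (by rwa [Subgroup.orderOf_coe])
      rw [show blockPart b (fun _ : (Cen (Subgroup.zpowers z)) => (0 : ℂ)) y = 0 by simp [blockPart_apply, classInner]] at h1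
      rw [← h1]; simp only [comb]; rw [blockPart_sum]
      simp only [Finset.sum_mul]
      rw [Finset.sum_comm]
      refine Finset.sum_congr rfl fun χ _ => ?_
      rw [blockPart_apply, Finset.mul_sum, bset, Finset.sum_filter]
      exact Finset.sum_congr rfl fun ψ _ => by
        split_ifs
        · rw [mult]; ring
        · simp
    · funext x
      have := L.eq_zero_of_res hM hk (fun η hη => by rw [← hRv ⟨η, mem_bset.mpr hη⟩, h0]; rfl) (mem_bset.mp x.2)
      simp only [hc, dif_pos x.2] at this
      exact this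
  have e1 := LinearMap.finrank_le_finrank_of_injective (f := T.restrict (fun v hv => (hT v hv).1)) (by
    rw [injective_iff_map_eq_zero]
    exact fun v hv => Subtype.ext ((hT v v.2).2 (congrArg Subtype.val hv)))
  have e2 := LinearMap.finrank_le_finrank_of_injective (f := R.restrict (fun v hv => (hR v hv).1)) (by
    rw [injective_iff_map_eq_zero]
    exact fun v hv => Subtype.ext ((hR v v.2).2 (congrArg Subtype.val hv)))
  have f1 := finrank_ker_regMap 2 b
  have f2 := finrank_ker_regMap 2 B
  omega

/-- The sections of `z` in `b`. -/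
theorem secH_center (χ : IrrCharacter G) (y : Cen (Subgroup.zpowers z)) :
    secH z (Cen (Subgroup.zpowers z)) b χ y = ∑ ψ ∈ bset b, mult (Cen (Subgroup.zpowers z)) χ ψ *
      (ψ : Cen (Subgroup.zpowers z) → ℂ) (⟨z, mem_cen_zpowers.mpr rfl⟩ * y) := by
  set z' : Cen (Subgroup.zpowers z) := ⟨z, mem_cen_zpowers.mpr rfl⟩ with hz'
  have hzc : z' ∈ Subgroup.center (Cen (Subgroup.zpowers z)) :=
    Subgroup.mem_center_iff.mpr fun c => Subtype.ext (mem_cen_zpowers.mp c.2)
  have h1 : (fun c : Cen (Subgroup.zpowers z) => (χ : G → ℂ) (z * (c : G))) = fun c =>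
      ∑ η : IrrCharacter (Cen (Subgroup.zpowers z)),
        (mult (Cen (Subgroup.zpowers z)) χ η * centScal η z') * (η : Cen (Subgroup.zpowers z) → ℂ) c := by
    funext c
    rw [show z * (c : G) = ((z' * c : Cen (Subgroup.zpowers z)) : G) from rfl, res_eq_sum]
    exact Finset.sum_congr rfl fun η _ => by rw [char_central_mul η hzc]; ring
  rw [secH, h1, blockPart_sum, bset, Finset.sum_filter]
  refine Finset.sum_congr rfl fun η _ => ?_
  rw [blockPart_irr]
  split_ifs
  · rw [char_central_mul η hzc]; ring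
  · rw [mul_zero]

end CfsgLib.QuatDefect
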