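import Cfsg.Agent.Lib.Blocks.QuatDefect.Central
import Cfsg.Agent.Lib.Blocks.QuatDefect.Restrict
import Cfsg.Agent.Lib.Blocks.QuatDefect.Comb
import Cfsg.Agent.Lib.BlockArith.DihDefect.Count
import Cfsg.Agent.Lib.BlockArith.DihDefect.Transport
import Cfsg.Agent.Lib.BrauerPairs.Stable

/-!
# The invariants of a 2-block with generalised quaternion defect group

* `exists_localBlock`: the block of the centraliser of the involution;
* `ctr_exact`: exact divisibility of integral contributions;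
* `quaternion_defect_invariants`: numbers of characters, heights and rank.
-/

set_option autoImplicit false

noncomputable section

open scoped Classical

namespace CfsgLib.QuatDefect

open Cfsg CfsgLib.Blocks CfsgLib.BlockArith CfsgLib.Char CfsgLib.BrauerPairs CfsgLib.NilBlock
open scoped ComplexConjugate

universe u

variable {G : Type u} [Group G] [Fintype G] {M : Ideal AlgInt} [M.IsMaximal] {h : ℕ}
  {B : Set (IrrCharacter G)} {D : Subgroup G} {e : Set (IrrCharacter (Cen D))} {ι : QuaternionGroup h →* G}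

/-- **The block of the centraliser of the involution.** -/
theorem exists_localBlock (hM : IsPModular 2 M) (hmax : IsMaximalBrauerPair 2 M B D e) (d : QData D ι) :
    ∃ (bz : Set (IrrCharacter (Cen (Subgroup.zpowers (zz ι)))))
      (e' : Set (IrrCharacter (Cen (D.subgroupOf (Cen (Subgroup.zpowers (zz ι))))))),
      LocalBlock M B (zz ι) bz ∧
        IsMaximalBrauerPair 2 M bz (D.subgroupOf (Cen (Subgroup.zpowers (zz ι)))) e' := by
  have : Fact (Nat.Prime 2) := ⟨Nat.prime_two⟩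
  have hP := hmax.1.1
  obtain ⟨bz, hbz⟩ := (existsUnique_subpair hM (Subgroup.zpowers_le.mpr d.zz_mem) hP).exists
  have hzp : ∃ k : ℕ, orderOf (zz ι) = 2 ^ k := exists_pow_of_mem hP.1 d.zz_mem
  obtain ⟨e', hmax', -⟩ := DihDefect.exists_local_maximal hM hmax d.zz_mem d.le_cen hbz
  have hof : IsBrauerPairOf 2 M B (Subgroup.zpowers (zz ι)) bz :=
    (brauerPairOf_iff_of_subpair hM (a := ⟨_, bz⟩) (b := ⟨D, e⟩) hbz).mp hmax.1
  have hind := (brauerPairOf_iff_induced hM (NilBlock.isPGroup_zpowers hzp) hof.1.2 hmax.1.2.1).mp hof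
  have hB := hmax.1.2.1
  have key : ∀ y ∈ D, y ≠ 1 → zz ι ∈ Subgroup.zpowers y := fun y hy => d.zz_mem_zpowers hy
  refine ⟨bz, e', ⟨d.orderOf_zz, hind, fun c hc => ?_, fun ψ hψ g x hg hx => ?_, fun χ hχ g x hg hx => ?_⟩, hmax'⟩
  · have hcb := ((isInducedBlock_iff _).mp hc).1
    have hof' := (brauerPairOf_iff_induced hM (NilBlock.isPGroup_zpowers hzp) hcb hB).mpr hc
    obtain ⟨g, hg⟩ := exists_conj_le_maximal hM (a := ⟨Subgroup.zpowers (zz ι), c⟩) (b := ⟨D, e⟩) hmax hof'
    have hgz : g * zz ι * g⁻¹ ∈ D :=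
      subgroup_le hg (Subgroup.mem_map.mpr ⟨zz ι, Subgroup.mem_zpowers _, rfl⟩)
    have hgc : g ∈ Cen (Subgroup.zpowers (zz ι)) := by
      refine mem_cen_zpowers.mpr (mul_inv_eq_iff_eq_mul.mp ?_)
      refine (d.eq_one_or_zz hgz (by rw [conj_mul, d.zz_sq, mul_one, mul_inv_cancel])).resolve_left fun e1 => ?_
      exact d.zz_ne_one (conj_eq_one_iff.mp e1)
    rw [cjPair_eq_self_of_mem_stab hof'.1 (cen_le_stab _ hgc)] at hg
    exact eq_of_heq (Sigma.mk.injEq .. ▸ pair_eq_of_le hM hP hg hbz rfl).2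
  · obtain ⟨E, hE, hxE⟩ := mem_defect_of_ne_zero (p := 2) hM hof.1.2 hψ hx hg
    obtain ⟨w, rfl⟩ := defectGroups_conj hM hof.1.2 (isDefectGroup_of_maximal hM hmax') hE
    rw [mem_cj, Subgroup.mem_subgroupOf] at hxE
    by_cases hy1 : ((w⁻¹ * x * w : Cen (Subgroup.zpowers (zz ι))) : G) = 1
    · left
      rw [show x = w * (w⁻¹ * x * w) * w⁻¹ by group,
        show (w⁻¹ * x * w : Cen (Subgroup.zpowers (zz ι))) = 1 from Subtype.ext hy1]
      group
    · right
      obtain ⟨i, hi⟩ := Subgroup.mem_zpowers_iff.mp (key _ hxE hy1)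
      refine ⟨i, ?_⟩
      have hw := (mem_cen_zpowers.mp w.2).eq
      show (x : G) ^ i = zz ι
      have h1 : ((w⁻¹ * x * w : Cen (Subgroup.zpowers (zz ι))) : G) = (w : G)⁻¹ * (x : G) * (w⁻¹ : G)⁻¹ := by
        simp
      rw [h1, conj_zpow, inv_inv, mul_assoc, inv_mul_eq_iff_eq_mul, hw] at hi
      exact mul_right_cancel hi
  · obtain ⟨E, hE, hxE⟩ := mem_defect_of_ne_zero (p := 2) hM hB hχ hx hg
    obtain ⟨w, rfl⟩ := defectGroups_conj hM hB (isDefectGroup_of_maximal hM hmax) hE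
    rw [mem_cj] at hxE
    by_cases hy1 : w⁻¹ * x * w = 1
    · left
      rw [show x = w * (w⁻¹ * x * w) * w⁻¹ by group, hy1]
      group
    · exact Or.inr ⟨w⁻¹, by rw [inv_inv]; exact key _ hxE hy1⟩

variable {p : ℕ} [hp : Fact p.Prime]

/-- An integral contribution of a character of height zero is divisible by exactly `p ^ ht`. -/
theorem ctr_exact (hM : IsPModular p M) {x : G} {H : Subgroup G}
    (hH : H = Subgroup.centralizer ({x} : Set G)) (hx : ∃ k : ℕ, orderOf x = p ^ k)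
    {b : Set (IrrCharacter H)} (hind : IsInducedBlock M H b B) (hd : blockDefect p b = blockDefect p B)
    {χ ψ : IrrCharacter G} (hχ : χ ∈ B) (h0 : blockHeight p B (χ : G → ℂ) = 0) (hψ : ψ ∈ B) {m : ℤ}
    (hm : ctr p x H b χ ψ = m) :
    (p : ℤ) ^ blockHeight p B (ψ : G → ℂ) ∣ m ∧ ¬ (p : ℤ) ^ (blockHeight p B (ψ : G → ℂ) + 1) ∣ m := by
  subst hH
  rw [ctr_eq_contrib] at hm
  obtain ⟨-, hB, -⟩ := (isInducedBlock_iff _).mp hind
  constructor
  · obtain ⟨w, hw, -, hc⟩ := contrib_height hM hx hind hd hχ h0 hψ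
    exact_mod_cast DihDefect.int_dvd_of_eq (pow_ne_zero _ hp.out.ne_zero) hw (hm.symm.trans hc)
  obtain ⟨Z, hZ⟩ := exists_contrib_eq hM hx hind.1 χ
  set a := (Nat.card G).factorization p with ha
  set m' := Nat.card G / p ^ a with hm'
  have hcard : Nat.card G = p ^ a * m' := (Nat.ordProj_mul_ordCompl_eq_self _ _).symm
  have hpa : ((p ^ a : ℕ) : ℂ) ≠ 0 := Nat.cast_ne_zero.mpr (pow_ne_zero _ hp.out.ne_zero)
  have hdvd : ∀ η ∈ B, ∀ r : ℂ, ∀ hr : IsIntegral ℤ r,
      contrib p x b χ η * (m' : ℂ) = ((p ^ blockHeight p B (η : G → ℂ) : ℕ) : ℂ) * r →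
      res M ⟨r, algInt_le_locRing M hr⟩ =
        ((charDegree (η : G → ℂ) / p ^ (charDegree (η : G → ℂ)).factorization p : ℕ) : Res M) * bomega η Z := by
    intro η hη r hr he0
    have hdeg := degree_height hM hB hη
    have h1 := (hZ η).2
    rw [← CfsgLib.CharBlocks.coe_charDegree_irr η, hd, hcard] at h1
    set v := (charDegree (η : G → ℂ)).factorization p with hv
    conv_rhs at h1 => rw [← Nat.ordProj_mul_ordCompl_eq_self (charDegree (η : G → ℂ)) p]
    have he : p ^ blockDefect p B * p ^ v = p ^ a * p ^ blockHeight p B (η : G → ℂ) := by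
      rw [← pow_add, ← pow_add]; congr 1; omega
    have he' : ((p ^ blockDefect p B : ℕ) : ℂ) * ((p ^ v : ℕ) : ℂ) =
        ((p ^ a : ℕ) : ℂ) * ((p ^ blockHeight p B (η : G → ℂ) : ℕ) : ℂ) := by exact_mod_cast he
    rw [bomega_apply, ← map_natCast (res M), ← map_mul]
    refine congrArg _ (Subtype.ext ?_)
    refine mul_left_cancel₀ (mul_ne_zero hpa (Nat.cast_ne_zero.mpr
      (pow_ne_zero (blockHeight p B (η : G → ℂ)) hp.out.ne_zero) : ((p ^ blockHeight p B (η : G → ℂ) : ℕ) : ℂ) ≠ 0)) ?_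
    show _ * r = _
    simp only [Subring.coe_mul, SubringClass.coe_natCast]
    push_cast at h1 he' he0 ⊢
    linear_combination h1 + ((charDegree (η : G → ℂ) / p ^ v : ℕ) : ℂ) * (zomega η Z : ℂ) * he' - (p : ℂ) ^ a * he0
  intro hdiv
  obtain ⟨k, hk⟩ := hdiv
  have hint : IsIntegral ℤ (((k * (m' : ℤ) * (p : ℤ) : ℤ) : ℂ)) := isIntegral_algebraMap
  have h1 := hdvd ψ hψ _ hint (by rw [hm, hk]; push_cast; ring)
  rw [show (⟨((k * (m' : ℤ) * (p : ℤ) : ℤ) : ℂ), algInt_le_locRing M hint⟩ : locRing M) =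
      ((k * (m' : ℤ) : ℤ) : locRing M) * ((p : ℕ) : locRing M) from Subtype.ext (by
        simp only [Subring.coe_mul, SubringClass.coe_natCast, SubringClass.coe_intCast]; push_cast; ring),
    map_mul, map_natCast, ← map_natCast (res M), (res_natCast_eq_zero_iff M hM p).mpr dvd_rfl, mul_zero,
    eq_comm, mul_eq_zero] at h1
  have hres : bomega ψ Z ≠ 0 := by
    rw [← bomega_eq_of_mem hB hχ hψ]
    intro h
    obtain ⟨v, hv, L, hL, hf⟩ := exists_heightVec hM hx hind
    have h2 := hf χ χ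
    have h4 := hdvd χ hχ (contrib p x b χ χ * (m' : ℂ))
      ((isIntegral_contrib hM hind.1 χ χ).mul (isIntegral_algebraMap (x := (m' : ℤ))))
      (by rw [h0, pow_zero, Nat.cast_one, one_mul])
    rw [h, mul_zero, show (⟨contrib p x b χ χ * (m' : ℂ), algInt_le_locRing M ((isIntegral_contrib hM hind.1 χ χ).mul
        (isIntegral_algebraMap (x := (m' : ℤ))))⟩ : locRing M) =
      ⟨contrib p x b χ χ, algInt_le_locRing M (isIntegral_contrib hM hind.1 χ χ)⟩ * (m' : locRing M) from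
        Subtype.ext (by simp), map_mul, map_natCast] at h4
    rcases mul_eq_zero.mp h4 with h6 | h6
    · rw [h6] at h2
      exact mul_ne_zero (hv χ hχ h0) (mul_ne_zero (hv χ hχ h0) hL) (by simpa using h2.symm)
    · exact Nat.not_dvd_ordCompl hp.out Nat.card_pos.ne'
        ((res_natCast_eq_zero_iff M hM m').mp ((map_natCast (res M) m').trans h6))
  rcases h1 with h6 | h6
  · exact Nat.not_dvd_ordCompl hp.out (CfsgLib.CharBlocks.charDegree_pos ψ.2).ne'
      ((res_natCast_eq_zero_iff M hM _).mp ((map_natCast (res M) _).trans h6))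
  · exact hres h6

omit hp in
set_option maxHeartbeats 800000 in
/-- **Numbers of characters, heights and rank.** -/
theorem quaternion_defect_invariants {G : Type u} [Group G] [Fintype G] {M : Ideal AlgInt} [M.IsMaximal]
    (hM : IsPModular 2 M) {B : Set (IrrCharacter G)} (hB : IsPBlock M B) {D : Subgroup G}
    (hD : IsDefectGroup 2 M B D) {n : ℕ} (hn : 3 ≤ n) (ε : D ≃* QuaternionGroup (2 ^ (n - 2))) :
    1 ≤ blockRank 2 B ∧ blockRank 2 B ≤ 3 ∧ Nat.card B = blockRank 2 B + 2 ^ (n - 2) + 2 ∧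
      Nat.card {χ : IrrCharacter G // χ ∈ B ∧ blockHeight 2 B (χ : G → ℂ) = 0} = 4 ∧
      (∀ χ ∈ B, blockHeight 2 B (χ : G → ℂ) = 0 ∨ blockHeight 2 B (χ : G → ℂ) = 1 ∨
        blockHeight 2 B (χ : G → ℂ) = n - 2) ∧
      (4 ≤ n → Nat.card {χ : IrrCharacter G // χ ∈ B ∧ blockHeight 2 B (χ : G → ℂ) = 1} = 2 ^ (n - 2) - 1) := by
  have : Fact (Nat.Prime 2) := ⟨Nat.prime_two⟩
  obtain ⟨e, hmax⟩ := exists_maximal_at hM hB hD
  set ι : QuaternionGroup (2 ^ (n - 2)) →* G := D.subtype.comp ε.symm.toMonoidHom with hι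
  have d : QData D ι :=
    { inj := D.subtype_injective.comp ε.symm.injective
      range := by
        ext x
        refine ⟨?_, fun hx => ⟨ε ⟨x, hx⟩, ?_⟩⟩
        · rintro ⟨y, rfl⟩
          exact (ε.symm y).2
        · simp [hι]
      two_le := Nat.le_self_pow (by omega) 2
      pow := ⟨n - 2, rfl⟩ }
  obtain ⟨bz, e', L, hmax'⟩ := exists_localBlock hM hmax d
  let ι' : QuaternionGroup (2 ^ (n - 2)) →* Cen (Subgroup.zpowers (zz ι)) :=
    ι.codRestrict _ fun x => d.le_cen (d.mem x)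
  have d' : QData (D.subgroupOf (Cen (Subgroup.zpowers (zz ι)))) ι' :=
    { inj := fun x y hxy => d.inj (congrArg (fun u : Cen (Subgroup.zpowers (zz ι)) => (u : G)) hxy)
      range := by
        ext y
        rw [Subgroup.mem_subgroupOf]
        constructor
        · rintro ⟨x, rfl⟩; exact d.mem x
        · intro hy
          obtain ⟨x, hx⟩ := d.surj hy
          exact ⟨x, Subtype.ext hx⟩
      two_le := d.two_le
      pow := d.pow }
  have hzc : zz ι' ∈ Subgroup.center (Cen (Subgroup.zpowers (zz ι))) :=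
    Subgroup.mem_center_iff.mpr fun c => Subtype.ext (mem_cen_zpowers.mp c.2)
  obtain ⟨j, w, a, Φ, hC⟩ := exists_centralData hM hmax' d' hzc
  choose mN hmN using mult_nat (Cen (Subgroup.zpowers (zz ι))) (G := G)
  let T : (IrrCharacter (Cen (Subgroup.zpowers (zz ι))) → ℤ) → IrrCharacter G → ℤ :=
    fun v χ => ∑ ψ ∈ bset bz, v ψ * (mN χ ψ : ℤ)
  have hT : ∀ v χ, ((T v χ : ℤ) : ℂ) = tr bz (fun ψ => (v ψ : ℂ)) χ := fun v χ => by
    simp only [T, tr, hmN]; push_cast; rfl
  have hinner : ∀ v v' : IrrCharacter (Cen (Subgroup.zpowers (zz ι))) → ℤ,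
      (∀ y, ¬ 2 ∣ orderOf y → comb bz (fun ψ => (v ψ : ℂ)) y = 0) →
      (∀ y, ¬ 2 ∣ orderOf y → comb bz (fun ψ => (v' ψ : ℂ)) y = 0) →
      ∑ χ ∈ bset B, T v χ * T v' χ = ∑ ψ ∈ bset bz, v ψ * v' ψ := fun v v' hv hv' => by
    apply Int.cast_injective (α := ℂ)
    push_cast
    have h1 := L.tr_inner hv hv'
    simp only [← hT, map_intCast] at h1
    refine Eq.trans ?_ h1
    exact Finset.sum_subset (Finset.subset_univ _) fun χ _ hχ => by
      rw [show ((T v χ : ℤ) : ℂ) = 0 from (hT v χ).trans (L.tr_eq_zero hM hv fun h => hχ (mem_bset.mpr h)), zero_mul]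
  have hW : ∀ y, ¬ 2 ∣ orderOf y → comb bz (fun ψ => (w ψ : ℂ)) y = 0 := hC.kerw
  have hA : ∀ k, ∀ y, ¬ 2 ∣ orderOf y → comb bz (fun ψ => (a k ψ : ℂ)) y = 0 := hC.kera
  have hsum := L.card_sub_rank hM
  have hbz : (bset bz).card = Nat.card bz := by
    rw [← Nat.card_eq_finsetCard]; exact Nat.card_congr (Equiv.subtypeEquivRight fun χ => by simp)
  have hBc : (bset B).card = Nat.card B := by
    rw [← Nat.card_eq_finsetCard]; exact Nat.card_congr (Equiv.subtypeEquivRight fun χ => by simp)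
  rw [hC.rank, hbz, hC.card] at hsum
  have hl : 1 ≤ blockRank 2 B := blockRank_pos hB
  have hdB : blockDefect 2 B = n := by
    refine Nat.pow_right_injective le_rfl ?_
    show 2 ^ blockDefect 2 B = 2 ^ n
    rw [← card_defectGroup hM hB hD, d.card, show (4 : ℕ) = 2 ^ 2 by norm_num, ← pow_add]
    congr 1; omega
  have hdz : blockDefect 2 bz = blockDefect 2 B := by
    refine Nat.pow_right_injective le_rfl ?_
    show 2 ^ blockDefect 2 bz = 2 ^ blockDefect 2 B
    rw [← card_defectGroup hM ((isInducedBlock_iff _).mp L.induced).1 (isDefectGroup_of_maximal hM hmax'),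
      ← card_defectGroup hM hB hD, d'.card, d.card]
  have hzp : ∃ k : ℕ, orderOf (zz ι) = 2 ^ k := ⟨1, by rw [L.two, pow_one]⟩
  have hctr : ∀ χ η, ctr 2 (zz ι) (Cen (Subgroup.zpowers (zz ι))) bz χ η =
      ((2 ^ (n - 3) * (∑ i, T (a (some i)) χ * T (a (some i)) η) + T (a none) χ * T (a none) η : ℤ) : ℂ) := by
    intro χ η
    have hsec : ∀ (χ : IrrCharacter G) (y : Cen (Subgroup.zpowers (zz ι))), ¬ 2 ∣ orderOf y →
        secH (zz ι) (Cen (Subgroup.zpowers (zz ι))) bz χ y =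
          ∑ k, (T (a k) χ : ℂ) * Φ k y / (nn (2 ^ (n - 2)) k : ℂ) := fun χ y hy => by
      rw [secH_center χ y]
      simp only [hT, tr, Finset.sum_mul, Finset.sum_div]
      rw [Finset.sum_comm]
      refine Finset.sum_congr rfl fun ψ hψ => ?_
      rw [show (⟨zz ι, mem_cen_zpowers.mpr rfl⟩ : Cen (Subgroup.zpowers (zz ι))) = zz ι' from Subtype.ext rfl,
        hC.val ψ (mem_bset.mp hψ) y hy, Finset.mul_sum]
      exact Finset.sum_congr rfl fun k _ => by ring
    have hn0 : ∀ k : Option (Fin j), (nn (2 ^ (n - 2)) k : ℂ) ≠ 0 := fun k => by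
      rcases k with _ | i <;> simp [nn]
    have hreg : regSum 2 (secH (zz ι) (Cen (Subgroup.zpowers (zz ι))) bz χ)
        (secH (zz ι) (Cen (Subgroup.zpowers (zz ι))) bz η) =
        ∑ k, ∑ k', (T (a k) χ : ℂ) / (nn (2 ^ (n - 2)) k : ℂ) * ((T (a k') η : ℂ) / (nn (2 ^ (n - 2)) k' : ℂ)) *
          regSum 2 (Φ k) (Φ k') := by
      simp only [regSum_eq, Finset.mul_sum]
      rw [Finset.sum_congr rfl fun k _ => Finset.sum_comm, Finset.sum_comm]
      refine Finset.sum_congr rfl fun y _ => ?_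
      split_ifs with hy
      · simp
      · rw [hsec χ y hy, hsec η y hy, map_sum, Finset.sum_mul_sum]
        refine Finset.sum_congr rfl fun k _ => Finset.sum_congr rfl fun k' _ => ?_
        simp only [map_div₀, map_mul, map_intCast, map_natCast]
        ring
    have hin : ∀ k k', regSum 2 (Φ k) (Φ k') = (if k = k' then (nn (2 ^ (n - 2)) k : ℂ) else 0) *
        (Nat.card (Cen (Subgroup.zpowers (zz ι))) : ℂ) / 2 := fun k k' => by
      rw [← hC.inner k k']; ring
    have hN : (Nat.card (Cen (Subgroup.zpowers (zz ι))) : ℂ) ≠ 0 := Nat.cast_ne_zero.mpr Nat.card_pos.ne'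
    have hp4 : ((2 ^ blockDefect 2 bz : ℕ) : ℂ) = 8 * (2 : ℂ) ^ (n - 3) := by
      rw [hdz, hdB, show n = (n - 3) + 3 by omega, pow_add]; push_cast; ring_nf
    rw [ctr, hreg, hp4, Finset.sum_congr rfl fun k _ => Finset.sum_eq_single k
      (fun k' _ hne => by rw [hin, if_neg (Ne.symm hne)]; ring) (by simp)]
    simp only [hin, if_true, Fintype.sum_option, nn, Option.elim]
    push_cast
    rw [show (2 : ℂ) ^ (n - 2) = 2 * 2 ^ (n - 3) by rw [← pow_succ']; congr 1; omega]
    rw [mul_add, add_comm]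
    congr 1
    · rw [Finset.mul_sum, Finset.mul_sum]
      exact Finset.sum_congr rfl fun i _ => by field_simp; ring
    · field_simp
      ring
  have hpar : ∀ k, ∀ χ, (2 : ℤ) ∣ T (a k) χ - T w χ := fun k χ => by
    simp only [T, ← Finset.sum_sub_distrib, ← sub_mul]
    exact Finset.dvd_sum fun ψ hψ => (hC.parity k ψ hψ).mul_right _
  obtain ⟨h3, h4, hcases, h1⟩ := Comb.invariants (bset B) hn hl hC.j_le (by omega) (T w) (T (a none))
    (fun i => T (a (some i))) (fun χ => blockHeight 2 B (χ : G → ℂ))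
    ((hinner w w hW hW).trans hC.ww)
    (by rw [hinner _ _ (hA none) (hA none), hC.aa, if_pos rfl, nn]; push_cast; ring)
    (fun i i' => by
      rw [hinner _ _ (hA _) (hA _), hC.aa]
      simp only [nn, Option.some.injEq]
      split_ifs <;> rfl)
    ((hinner _ _ hW (hA none)).trans (hC.wa none))
    (fun i => (hinner _ _ hW (hA _)).trans (hC.wa _))
    (fun i => by rw [hinner _ _ (hA _) (hA none), hC.aa, if_neg (by simp)])
    (fun χ _ => hpar none χ) (fun i χ _ => hpar (some i) χ)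
    (by
      obtain ⟨χ, hχ, h0⟩ := exists_height_zero (p := 2) hM hB
      exact ⟨χ, mem_bset.mpr hχ, h0⟩)
    (fun χ hχ hne => hdB ▸ height_le hM hB (mem_bset.mp hχ) hne)
    fun χ hχ h0 η hη => by
      exact_mod_cast ctr_exact hM (cen_zpowers _) hzp L.induced hdz (mem_bset.mp hχ) h0 (mem_bset.mp hη)
        (hctr χ η)
  have hcnt : ∀ r, Nat.card {χ : IrrCharacter G // χ ∈ B ∧ blockHeight 2 B (χ : G → ℂ) = r} =
      ((bset B).filter fun χ : IrrCharacter G => blockHeight 2 B (χ : G → ℂ) = r).card := fun r => by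
    rw [← Nat.card_eq_finsetCard]
    exact Nat.card_congr (Equiv.subtypeEquivRight fun χ => by simp)
  exact ⟨hl, h3, by omega, (hcnt 0).trans h4, fun χ hχ => hcases χ (mem_bset.mpr hχ),
    fun h => (hcnt 1).trans (h1 h)⟩

end CfsgLib.QuatDefect
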